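/- Tower DG, job T2: the two-dimensional Hecke algebra of an irreducible character. -/
import Cfsg.Agent.H53.DGSpec
import Cfsg.Agent.H33.IndTools
import Cfsg.Agent.H28.Degree

set_option autoImplicit false

noncomputable section

namespace H7.DGT2

open Cfsg H28 H33 H53.DG MonoidAlgebra Finset
open scoped ComplexConjugate

/-- Schur's lemma on the image of an idempotent. -/
theorem schur {H V : Type*} [Group H] [Finite H] [AddCommGroup V] [Module ℂ V]
    [FiniteDimensional ℂ V] (R : Representation ℂ H V) {e t : Module.End ℂ V} (he : e * e = e)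
    (hc : ∀ p, e * R p = R p * e) (hirr : IsIrrCharacter H fun p => LinearMap.trace ℂ V (e * R p))
    (het : e * t = t) (hte : t * e = t) (ht : ∀ p, t * R p = R p * t) : ∃ a : ℂ, t = a • e := by
  let Y : Subrepresentation R := ⟨LinearMap.range e, by
    rintro g _ ⟨v, rfl⟩
    exact ⟨R g v, LinearMap.congr_fun (hc g) v⟩⟩
  have h1 : Y.toRepresentation.character = fun p => LinearMap.trace ℂ V (e * R p) := by
    funext p
    rw [← LinearMap.trace_restrict_eq_of_forall_mem (LinearMap.range e) (e * R p) fun x => ⟨_, rfl⟩]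
    refine congrArg (LinearMap.trace ℂ _) (LinearMap.ext ?_)
    rintro ⟨_, v, rfl⟩
    refine Subtype.ext ?_
    change R p (e v) = (e * R p * e) v
    rw [hc, mul_assoc, he]
    rfl
  have := isIrreducible_of_isIrrCharacter Y.toRepresentation (h1 ▸ hirr)
  obtain ⟨a, ha⟩ := exists_eq_smul_id_of_comm Y.toRepresentation
    (t.restrict (p := Y.toSubmodule) (q := Y.toSubmodule) fun x _ =>
      ⟨t x, LinearMap.congr_fun het x⟩) fun g =>
    LinearMap.ext fun x => Subtype.ext (LinearMap.congr_fun (ht g) x.1)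
  refine ⟨a, LinearMap.ext fun v => ?_⟩
  rw [← hte]
  exact congrArg Subtype.val (LinearMap.congr_fun ha ⟨e v, v, rfl⟩)

/-- Convolution with the central idempotent of `ρ`. -/
theorem conv {H : Type*} [Group H] [Fintype H] {ρ θ : H → ℂ} (hρ : IsIrrCharacter H ρ)
    (hθ : IsCharacter H θ) (x : H) :
    ρ 1 / Nat.card H * ∑ p, conj (ρ p) * θ (p * x) = classInner θ ρ * ρ x := by
  refine hθ.induction (P := fun θ =>
    ρ 1 / Nat.card H * ∑ p, conj (ρ p) * θ (p * x) = classInner θ ρ * ρ x) (by simp [classInner_def])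
    fun φ θ hφ _ ih => ?_
  simp only [Pi.add_apply, mul_add, sum_add_distrib, ih, classInner_add_left, add_mul]
  congr 1
  rw [hφ.sum_mul_apply_mul hρ.conj.isClassFunction,
    show ∑ g, conj (ρ g) * φ g = Nat.card H * classInner φ ρ by
      rw [card_mul_classInner]; exact sum_congr rfl fun g _ => mul_comm _ _]
  by_cases h : φ = ρ
  · have := card_ne_zero' H
    have := hρ.apply_one_ne_zero
    subst h
    field_simp
  · simp [hφ.classInner_of_ne hρ h]

variable {G : Type} [Group G] [Fintype G]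

/-- Group elements in the group algebra. -/
abbrev s : G →* ℂ[G] := MonoidAlgebra.of ℂ G

omit [Fintype G] in
theorem coeff_mul_s (x : ℂ[G]) (a g : G) : (x * s a).coeff g = x.coeff (g * a⁻¹) := by
  simp

omit [Fintype G] in
theorem coeff_s_mul (x : ℂ[G]) (a g : G) : (s a * x).coeff g = x.coeff (a⁻¹ * g) := by
  simp

theorem eq_sum (x : ℂ[G]) : x = ∑ g, x.coeff g • s g := by
  classical
  ext g
  simp

theorem coeff_mul' (x y : ℂ[G]) (g : G) : (x * y).coeff g = ∑ h, x.coeff h * y.coeff (h⁻¹ * g) := by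
  conv_lhs => rw [eq_sum x, sum_mul]
  simp

theorem tau_comm (x y : ℂ[G]) : (x * y).coeff 1 = (y * x).coeff 1 := by
  rw [coeff_mul', coeff_mul']
  exact Fintype.sum_equiv (Equiv.inv G) _ _ fun g => by simp [mul_comm]

/-- A function on `G` extended linearly to the group algebra. -/
def ev (χ : G → ℂ) (x : ℂ[G]) : ℂ := ∑ g, x.coeff g * χ g

theorem trace_eq {V : Type*} [AddCommGroup V] [Module ℂ V] (R : Representation ℂ G V) (x : ℂ[G]) :
    LinearMap.trace ℂ V (R.asAlgebraHom x) = ev R.character x := by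
  conv_lhs => rw [eq_sum x]
  simp only [map_sum, map_smul, Representation.asAlgebraHom_of, smul_eq_mul]
  rfl

theorem sum_ev (x : ℂ[G]) :
    ∑ χ : IrrCharacter G, (χ : G → ℂ) 1 * ev χ x = Nat.card G * x.coeff 1 := by
  simp only [ev, mul_sum]
  rw [sum_comm]
  simp only [mul_left_comm _ (x.coeff _), ← mul_sum, sum_degree_mul_apply]
  rw [sum_eq_single 1 (fun g _ hg => by rw [regChar_of_ne hg, mul_zero]) (by simp), regChar_one,
    mul_comm]

variable {P : Subgroup G} {ρ : P → ℂ}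

/-- The central idempotent of `ρ`. -/
def E (ρ : P → ℂ) : ℂ[G] := ∑ g, (ρ 1 / Nat.card P * conj (extendByZero P ρ g)) • s g

theorem coeff_E (g : G) : (E ρ).coeff g = ρ 1 / Nat.card P * conj (extendByZero P ρ g) := by
  classical
  simp [E, Finsupp.single_apply]

omit [Fintype G] in
theorem ext0_inv [Finite P] (hρ : IsCharacter P ρ) (g : G) :
    extendByZero P ρ g⁻¹ = conj (extendByZero P ρ g) := by
  by_cases hg : g ∈ P
  · rw [ext0_of_mem P _ hg, ext0_of_mem P _ (inv_mem hg), ← hρ.apply_inv]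
    rfl
  · rw [ext0_of_not_mem P _ hg, ext0_of_not_mem P _ (by rwa [inv_mem_iff]), map_zero]

theorem s_comm_E (hρ : IsCharacter P ρ) {p : G} (hp : p ∈ P) : s p * E ρ = E ρ * s p := by
  ext g
  rw [coeff_mul_s, coeff_s_mul, coeff_E, coeff_E, ← ext0_conj_mem P hρ.isClassFunction hp,
    mul_inv_cancel_left]

theorem s_mul_E (hρ : IsCharacter P ρ) {k : G} (hk : k ∈ P) (h : ρ ⟨k, hk⟩ = ρ 1) :
    s k * E ρ = E ρ := by
  ext g
  rw [coeff_s_mul, coeff_E, coeff_E]
  congr 2
  by_cases hg : g ∈ P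
  · rw [ext0_of_mem P _ hg, ext0_of_mem P _ (mul_mem (inv_mem hk) hg)]
    exact apply_mul_of_mem_charKer (inv_mem (hρ.mem_charKer.2 h)) ⟨g, hg⟩
  · rw [ext0_of_not_mem P _ hg, ext0_of_not_mem P _ (by rwa [P.mul_mem_cancel_left (inv_mem hk)])]

theorem E_mul_s (hρ : IsCharacter P ρ) {k : G} (hk : k ∈ P) (h : ρ ⟨k, hk⟩ = ρ 1) :
    E ρ * s k = E ρ := by
  rw [← s_comm_E hρ hk, s_mul_E hρ hk h]

theorem ev_E [Fintype P] (hρ : IsIrrCharacter P ρ) {χ : G → ℂ} (hχ : IsCharacter P fun p => χ p)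
    (p : P) : ev χ (E ρ * s (p : G)) = classInner (fun p : P => χ p) ρ * ρ p := by
  rw [← conv hρ hχ, ev, ← Equiv.sum_comp (Equiv.mulRight (p : G))]
  simp only [Equiv.coe_mulRight, coeff_mul_s, mul_inv_cancel_right, coeff_E, mul_assoc (_ / _ : ℂ),
    ← mul_sum, ← ext0_conj]
  rw [sum_ext0_mul P _ fun g => χ (g * p)]
  rfl

theorem E_mul_E (hρ : IsIrrCharacter P ρ) : E ρ * E ρ = E ρ := by
  have := Fintype.ofFinite P
  ext g
  by_cases hg : g ∈ P
  · have h1 := ev_E hρ (χ := extendByZero P ρ) (by simpa using hρ.isCharacter) ⟨g⁻¹, inv_mem hg⟩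
    rw [ev, ← Equiv.sum_comp (Equiv.mulRight g⁻¹)] at h1
    simp only [Equiv.coe_mulRight, coeff_mul_s, mul_inv_cancel_right, ext0_coe,
      hρ.classInner_self, one_mul] at h1
    rw [coeff_mul', coeff_E g, ← ext0_inv hρ.isCharacter, ext0_of_mem P _ (inv_mem hg), ← h1,
      mul_sum]
    refine sum_congr rfl fun h _ => ?_
    rw [coeff_E (h⁻¹ * g), ← ext0_inv hρ.isCharacter, ← ext0_conj_mem P hρ.isClassFunction hg,
      mul_left_comm]
    congr 3
    group
  · rw [coeff_mul', coeff_E g, ext0_of_not_mem P _ hg, map_zero, mul_zero]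
    refine sum_eq_zero fun h _ => ?_
    by_cases hh : h ∈ P
    · rw [coeff_E (h⁻¹ * g), ext0_of_not_mem P _ (by rwa [P.mul_mem_cancel_left (inv_mem hh)])]
      simp
    · rw [coeff_E h, ext0_of_not_mem P _ hh]
      simp

theorem tau_MT (hρ : IsCharacter P ρ) (x : G) :
    (E ρ * s x * E ρ * s x⁻¹).coeff 1 = (ρ 1 / Nat.card P) ^ 2 * MT P ρ x := by
  rw [mul_assoc, mul_assoc, coeff_mul', MT, mul_sum]
  refine Fintype.sum_equiv (Equiv.inv G) _ _ fun g => ?_
  rw [coeff_s_mul, coeff_mul_s, coeff_E, coeff_E, Equiv.inv_apply, ext0_inv hρ g, mul_one, inv_inv]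
  ring

theorem E_star (hρ : IsCharacter P ρ) (g : G) : (E ρ).coeff g⁻¹ = conj ((E ρ).coeff g) := by
  rw [coeff_E, coeff_E, ext0_inv hρ, map_mul, map_div₀, hρ.conj_apply_one, map_natCast]

theorem eq_zero_of_MT (hρ : IsIrrCharacter P ρ) {x : G} (h : MT P ρ x = 0) :
    E ρ * s x * E ρ = 0 := by
  have h1 : ∀ g, (E ρ * s x⁻¹ * E ρ).coeff g⁻¹ = conj ((E ρ * s x * E ρ).coeff g) := fun g => by
    rw [mul_assoc, mul_assoc, coeff_mul', coeff_mul', map_sum]
    refine (Fintype.sum_equiv ((Equiv.mulLeft g⁻¹).trans (Equiv.mulRight x)) _ _ fun a => ?_).symm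
    rw [coeff_s_mul, coeff_s_mul, map_mul, ← E_star hρ.isCharacter, ← E_star hρ.isCharacter,
      mul_comm]
    simp [mul_assoc]
  have h2 : (E ρ * s x * E ρ * (E ρ * s x⁻¹ * E ρ)).coeff 1 = 0 := by
    rw [← mul_assoc, tau_comm, ← mul_assoc, ← mul_assoc, ← mul_assoc, ← mul_assoc, E_mul_E hρ,
      mul_assoc _ (E ρ) (E ρ), E_mul_E hρ, tau_MT hρ.isCharacter, h, mul_zero]
  rw [coeff_mul'] at h2
  simp only [mul_one, h1, Complex.mul_conj, ← Complex.ofReal_sum, Complex.ofReal_eq_zero] at h2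
  ext g
  exact Complex.normSq_eq_zero.1
    ((sum_eq_zero_iff_of_nonneg fun g _ => Complex.normSq_nonneg _).1 h2 g (mem_univ g))

theorem MT_mul (hρ : IsCharacter P ρ) {a b : G} (ha : a ∈ P) (hb : b ∈ P) (x : G) :
    MT P ρ (a * x * b) = MT P ρ x := by
  refine Fintype.sum_equiv (MulAut.conj a⁻¹).toEquiv _ _ fun g => ?_
  rw [← ext0_conj_mem' P hρ.isClassFunction ha g,
    ← ext0_conj_mem P hρ.isClassFunction hb ((a * x * b)⁻¹ * g * (a * x * b))]
  simp [mul_assoc]

theorem MT_one (hρ : IsIrrCharacter P ρ) : MT P ρ 1 = Nat.card P := by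
  have := Fintype.ofFinite P
  rw [MT, sum_ext0_mul P ρ fun g => conj (extendByZero P ρ (1⁻¹ * g * 1))]
  simp only [inv_one, one_mul, mul_one, ext0_coe]
  rw [← card_mul_classInner, hρ.classInner_self, mul_one]

theorem norm_ind (ρ : P → ℂ) :
    (Nat.card P : ℂ) ^ 2 * classInner (indFun P ρ) (indFun P ρ) = ∑ x, MT P ρ x := by
  have := Fintype.ofFinite P
  have h0 := card_ne_zero' P
  rw [classInner_indFun_left P ρ (indFun_isClassFunction P ρ), pow_two, mul_assoc,
    card_mul_classInner, ← sum_ext0_mul P ρ fun g => conj (indFun P ρ g), mul_sum]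
  simp only [MT]
  rw [sum_comm]
  refine sum_congr rfl fun g _ => ?_
  rw [← mul_sum, ← map_sum, indFun_apply, map_mul, map_inv₀, map_natCast, mul_left_comm,
    mul_inv_cancel_left₀ h0]

/-- The eigenvalue of an element of the Hecke algebra on a constituent. -/
theorem eigen [Fintype P] (hρ : IsIrrCharacter P ρ) {t : ℂ[G]} {N : ℂ} {T : Finset G} {lam : G → P}
    (h1 : E ρ * t = t) (h2 : t * E ρ = t) (h3 : ∀ p : P, t * s (p : G) = s (p : G) * t)
    (h4 : t * t = N • E ρ + ∑ u ∈ T, t * s (lam u : G)) {χ : G → ℂ} (hχ : IsCharacter G χ) :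
    (classInner (fun p : P => χ p) ρ = 0 → ev χ t = 0) ∧ (classInner (fun p : P => χ p) ρ = 1 →
      ∃ a : ℂ, ev χ t = a * ρ 1 ∧ a ^ 2 * ρ 1 = N * ρ 1 + a * ∑ u ∈ T, ρ (lam u)) := by
  have h5 := ev_E hρ (hχ.restrict P)
  obtain ⟨n, R, rfl⟩ := hχ
  simp only [← trace_eq] at h5 ⊢
  have he : R.asAlgebraHom (E ρ) * R.asAlgebraHom (E ρ) = R.asAlgebraHom (E ρ) := by
    rw [← map_mul, E_mul_E hρ]
  have h6 := h5 1
  rw [OneMemClass.coe_one, map_one, mul_one] at h6
  refine ⟨fun h => ?_, fun h => ?_⟩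
  · rw [h, zero_mul, (LinearMap.IsIdempotentElem.isProj_range _ he).trace, Nat.cast_eq_zero,
      Submodule.finrank_eq_zero, LinearMap.range_eq_bot] at h6
    rw [← h1, map_mul, h6, zero_mul, map_zero]
  simp only [h, one_mul] at h5 h6
  obtain ⟨a, ha⟩ := schur (R.comp P.subtype) (t := R.asAlgebraHom t) he
    (fun p => by simpa using congrArg R.asAlgebraHom (s_comm_E hρ.isCharacter p.2).symm)
    (by convert hρ using 2 with p; simpa using h5 p) (by rw [← map_mul, h1]) (by rw [← map_mul, h2])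
    fun p => by simpa using congrArg R.asAlgebraHom (h3 p)
  refine ⟨a, by rw [ha, map_smul, h6, smul_eq_mul], ?_⟩
  have h7 := congrArg (fun z => LinearMap.trace ℂ _ (R.asAlgebraHom z)) h4
  simp only [map_mul, map_add, map_sum, map_smul, ha, smul_mul_assoc, mul_smul_comm, he, h6,
    smul_eq_mul] at h5 h7
  rw [pow_two, mul_assoc, h7, mul_sum]
  simp only [h5]

theorem jobT2 : JobT2 := by
  intro G _ _ P U ρ w T lam hρ hUP hN hU hw ⟨hw2, hρw⟩ hL hinj hMT hT hlam
  classical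
  have := Fintype.ofFinite P
  have := Fintype.ofFinite U
  have hc := hρ.isCharacter
  have ee := E_mul_E hρ
  have U0 := card_ne_zero' U
  have P0 := card_ne_zero' P
  have ρ0 := hρ.apply_one_ne_zero
  have uE : ∀ u ∈ U, s u * E ρ = E ρ := fun u hu => s_mul_E hc (hUP hu) (hU ⟨u, hUP hu⟩ hu)
  have Eu : ∀ u ∈ U, E ρ * s u = E ρ := fun u hu => E_mul_s hc (hUP hu) (hU ⟨u, hUP hu⟩ hu)
  set t : ℂ[G] := ∑ u : U, E ρ * s (w * u) with ht
  have h3 : ∀ p : P, t * s (p : G) = s (p : G) * t := fun p => by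
    obtain ⟨l, hl, u, hu, e, hk, hk'⟩ := hL p p.2
    have hinj : Function.Injective fun x : U =>
        (⟨l⁻¹ * x * l⁻¹⁻¹ * u, mul_mem (hN _ (inv_mem hl) _ x.2) hu⟩ : U) := fun x y e =>
      Subtype.ext (by simpa using e)
    rw [ht, sum_mul, mul_sum]
    refine Fintype.sum_bijective _ hinj.bijective_of_finite _ _ fun x => ?_
    rw [← mul_assoc, e, map_mul s l, mul_assoc (s l), uE u hu, s_comm_E hc hl]
    conv_rhs => rw [← E_mul_s hc hk hk']
    simp only [mul_assoc, ← map_mul]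
    congr 2
    group
  have h1 : E ρ * t = t := by simp only [ht, mul_sum, ← mul_assoc, ee]
  have h2 : t * E ρ = t := by
    refine Eq.trans ?_ h1
    rw [E, mul_sum, sum_mul]
    refine sum_congr rfl fun g _ => ?_
    by_cases hg : g ∈ P
    · rw [mul_smul_comm, smul_mul_assoc, h3 ⟨g, hg⟩]
    · simp [ext0_of_not_mem P _ hg]
  have ta : t = (Nat.card U : ℂ) • (E ρ * s w * E ρ) := by
    rw [← h2, ht, sum_mul, Nat.card_eq_fintype_card, Nat.cast_smul_eq_nsmul, ← card_univ,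
      ← sum_const]
    exact sum_congr rfl fun u _ => by rw [map_mul, ← mul_assoc, mul_assoc _ _ (E ρ), uE _ u.2]
  have h4 : t * t = (Nat.card U : ℂ) • E ρ + ∑ u ∈ T, t * s (lam u : G) := by
    have e1 : t * t = (Nat.card U : ℂ) • ∑ u : U, E ρ * s (w * u * w) * E ρ := by
      conv_lhs => rw [ta, mul_smul_comm, ← mul_assoc, ← mul_assoc, ← ta, h2, ht]
      simp only [sum_mul, mul_assoc (E ρ), ← map_mul]
    have T1 : 1 ∉ T := fun h => by
      obtain ⟨-, p, hp, p', hp', e⟩ := (hT 1).1 h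
      refine hw ?_
      rw [mul_one] at e
      rw [show w = p⁻¹ * (w * w) * p'⁻¹ by rw [e]; group]
      exact mul_mem (mul_mem (inv_mem hp) hw2) (inv_mem hp')
    rw [e1, ← sum_subtype (univ.filter (· ∈ U)) (by simp) fun u => E ρ * s (w * u * w) * E ρ,
      ← sum_subset (s₁ := insert 1 T) (fun u hu => ?_) fun u hu hu' => ?_, sum_insert T1, mul_one,
      E_mul_s hc hw2 hρw, ee, smul_add, smul_sum]
    · refine congrArg _ (sum_congr rfl fun u hu => ?_)
      obtain ⟨v, hv, e⟩ := hlam u hu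
      rw [e, map_mul, map_mul, ← mul_assoc, ← mul_assoc, Eu v hv, mul_assoc _ _ (E ρ),
        s_comm_E hc (lam u).2, ← mul_assoc, ← smul_mul_assoc, ← ta]
    · rcases mem_insert.1 hu with rfl | hu
      · simp
      · simpa using ((hT u).1 hu).1
    · rw [mem_insert, not_or, hT] at hu'
      refine eq_zero_of_MT hρ (hMT _ (fun h => hu'.1 (hinj u (by simpa using hu) ?_))
        fun p hp p' hp' e => hu'.2 ⟨by simpa using hu, p, hp, p', hp', e⟩)
      rw [show w⁻¹ * u * w = (w * w)⁻¹ * (w * u * w) by group]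
      exact mul_mem (inv_mem hw2) h
  have h5 : ∀ p ∈ P, (t * s p).coeff 1 = 0 := fun p hp => by
    simp only [ht, sum_mul, mul_assoc, ← map_mul, coeff_sum, Finsupp.finsetSum_apply, coeff_mul_s,
      coeff_E]
    refine sum_eq_zero fun u _ => ?_
    rw [ext0_of_not_mem, map_zero, mul_zero]
    rwa [one_mul, inv_mem_iff, P.mul_mem_cancel_right (mul_mem (hUP u.2) hp)]
  have h6 : Nat.card U * MT P ρ w = Nat.card P := by
    have e1 := congrArg (fun z : ℂ[G] => z.coeff 1) h4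
    have e2 : (t * t).coeff 1 = (Nat.card U : ℂ) ^ 2 * ((ρ 1 / Nat.card P) ^ 2 * MT P ρ w) := by
      rw [← tau_MT hc, ta, smul_mul_smul_comm, coeff_smul, Finsupp.smul_apply, smul_eq_mul, pow_two,
        ← mul_assoc _ _ (E ρ), tau_comm, ← mul_assoc, ← mul_assoc, ← mul_assoc, ← mul_assoc, ee,
        mul_assoc _ (E ρ) (E ρ), ee, tau_comm, tau_comm _ (s w⁻¹)]
      have e3 : s w * E ρ = s w⁻¹ * E ρ := by
        conv_rhs => rw [← s_mul_E hc hw2 hρw, ← mul_assoc, ← map_mul, inv_mul_cancel_left]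
      simp only [← mul_assoc, e3]
    simp only [e2, coeff_add, coeff_smul, coeff_sum, Finsupp.add_apply, Finsupp.smul_apply,
      Finsupp.finsetSum_apply, h5 _ (lam _).2, sum_const_zero, add_zero, coeff_E,
      ext0_of_mem P _ (one_mem P), smul_eq_mul] at e1
    rw [show (⟨1, one_mem P⟩ : P) = 1 from rfl, hc.conj_apply_one] at e1
    field_simp at e1
    linear_combination e1
  have h7 : classInner (indFun P ρ) (indFun P ρ) = 2 := by
    refine mul_left_cancel₀ (pow_ne_zero 2 P0) ?_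
    rw [norm_ind, ← sum_of_injOn (s := univ) (f := fun x : Option U × P =>
        x.1.elim (MT P ρ 1) fun _ => MT P ρ w)
      (fun x : Option U × P => x.1.elim (1 : G) (fun u => u * w) * x.2) ?_ (by simp) ?_ ?_]
    · simp only [Fintype.sum_prod_type, sum_const, Fintype.sum_option, Option.elim, card_univ,
        ← Nat.card_eq_fintype_card, nsmul_eq_mul, MT_one hρ]
      linear_combination (Nat.card P : ℂ) * h6
    · have e1 : ∀ (u : U) (p p' : P), (p : G) ≠ u * w * p' := fun u p p' e => hw (by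
        rw [show w = (u : G)⁻¹ * p * (p' : G)⁻¹ by rw [e]; group]
        exact mul_mem (mul_mem (inv_mem (hUP u.2)) p.2) (inv_mem p'.2))
      rintro ⟨_ | u, p⟩ - ⟨_ | u', p'⟩ - e <;> simp only [Option.elim, one_mul] at e
      · rw [Subtype.ext e]
      · exact absurd e (e1 _ _ _)
      · exact absurd e.symm (e1 _ _ _)
      · obtain rfl : u = u' := Subtype.ext (inv_mul_eq_one.1 (hinj _ (mul_mem (inv_mem u.2) u'.2) (by
          rw [show w⁻¹ * ((u : G)⁻¹ * u') * w = p * (p' : G)⁻¹ by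
            rw [show (p : G) = (u * w)⁻¹ * (u' * w * p') by rw [← e]; group]; group]
          exact mul_mem p.2 (inv_mem p'.2))))
        rw [Subtype.ext (mul_left_cancel e)]
    · refine fun x _ hx => hMT x (fun h => hx ⟨(none, ⟨x, h⟩), by simp, one_mul x⟩)
        fun p hp p' hp' e => ?_
      obtain ⟨l, hl, u, hu, rfl, hk, -⟩ := hL p hp
      refine hx ⟨(some ⟨_, hN l hl u hu⟩, ⟨(w * w)⁻¹ * (w * l * w⁻¹ * l⁻¹) * l * (w * w) * p',
        mul_mem (mul_mem (mul_mem (mul_mem (inv_mem hw2) hk) hl) hw2) hp'⟩), by simp, ?_⟩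
      simp only [e, Option.elim]
      group
    · rintro ⟨_ | u, p⟩ -
      · simpa using (MT_mul hc (one_mem P) p.2 1).symm
      · exact (MT_mul hc (hUP u.2) p.2 w).symm
  obtain ⟨χ₁, χ₂, i₁, i₂, hne, hχ⟩ := exists_add_of_norm_two hc.indFun h7
  have h8 : ∀ χ : G → ℂ, IsIrrCharacter G χ →
      classInner (fun p : P => χ p) ρ = classInner χ χ₁ + classInner χ χ₂ := fun χ h => by
    rw [← classInner_indFun_right P ρ h.isClassFunction, hχ, classInner_add_right]
  obtain ⟨a₁, b₁, c₁⟩ := (eigen hρ h1 h2 h3 h4 i₁.isCharacter).2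
    (by rw [h8 _ i₁, i₁.classInner_self, i₁.classInner_of_ne i₂ hne, add_zero])
  obtain ⟨a₂, b₂, c₂⟩ := (eigen hρ h1 h2 h3 h4 i₂.isCharacter).2
    (by rw [h8 _ i₂, i₂.classInner_self, i₂.classInner_of_ne i₁ hne.symm, zero_add])
  have h9 : χ₁ 1 * a₁ + χ₂ 1 * a₂ = 0 := by
    have e1 := sum_ev t
    rw [← mul_one t, ← map_one s, h5 1 (one_mem P), map_one, mul_one, mul_zero,
      Fintype.sum_eq_add (⟨χ₁, i₁⟩ : IrrCharacter G) ⟨χ₂, i₂⟩ (fun e => hne (congrArg Subtype.val e))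
      fun χ h => ?_, b₁, b₂] at e1
    · exact mul_right_cancel₀ ρ0 (by linear_combination e1)
    · rw [(eigen hρ h1 h2 h3 h4 χ.2.isCharacter).1, mul_zero]
      rw [h8 _ χ.2, χ.2.classInner_of_ne i₁ fun e => h.1 (Subtype.ext e),
        χ.2.classInner_of_ne i₂ fun e => h.2 (Subtype.ext e), add_zero]
  have h10 : a₁ - a₂ ≠ 0 := fun e => by
    obtain rfl := sub_eq_zero.1 e
    obtain ⟨n₁, p₁, e₁⟩ := i₁.exists_degree_pos
    obtain ⟨n₂, p₂, e₂⟩ := i₂.exists_degree_pos
    rw [← add_mul, e₁, e₂, ← Nat.cast_add, mul_eq_zero, Nat.cast_eq_zero] at h9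
    obtain rfl := h9.resolve_left (by omega)
    exact mul_ne_zero U0 ρ0 (by linear_combination -c₁)
  have h11 : (a₁ + a₂) * ρ 1 = ∑ u ∈ T, ρ (lam u) :=
    mul_left_cancel₀ h10 (by linear_combination c₁ - c₂)
  exact ⟨χ₁, χ₂, a₁, a₂, i₁, i₂, hχ, h9,
    mul_right_cancel₀ ρ0 (by linear_combination a₁ * h11 - c₁), h11⟩

end H7.DGT2
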