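/- FS tower (S1144, blueprints/FS.md), chapter 1: head, bridge, hexagons, models. -/
import Cfsg.Agent.H12.BPMain
import Cfsg.Agent.H21.BNF

set_option autoImplicit false

namespace H7.FS

open H67 H64 H54 H12.BN H12.BP Cfsg
open H21.BN (Co)

/-! ### Reducible diagrams -/

/-- There is no faithful split digon. -/
def JobDig : Prop :=
  ∀ (L X Y : Type) [Group L] [Finite L] [MulAction L X] [MulAction L Y] [Finite X] [Finite Y]
    (a : X) (b b' : Y) (U : Subgroup L) (n : L), (∀ g : L, (∀ x : X, g • x = x) → g = 1) →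
    (∀ g : L, (∀ y : Y, g • y = y) → g = 1) → 3 ≤ Nat.card X → b ≠ b' → Group.IsNilpotent U →
    (∀ u ∈ U, u • a = a ∧ u • b = b) → (∀ g : L, g • a = a → g • b = b → ∀ u ∈ U, g * u * g⁻¹ ∈ U) →
    (∀ (x x' : X) (y y' : Y), x ≠ a → x' ≠ a → y ≠ b → y' ≠ b → ∃ u ∈ U, u • x = x' ∧ u • y = y') →
    n • a = a → n • b = b' → n • b' = b → False

/-- A split (B,N)-pair of a finite simple group is irreducible. -/
def JobRed : Prop :=
  ∀ (G : Type) [Group G] [Finite G] [IsSimpleGroup G] (P : BNPair G) (U : Subgroup G), Spl P U →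
    P.Irreducible

/-! ### The bridge -/

section
variable {G : Type} [Group G]

/-- Hexagons: the even root groups consist of central elations. -/
def Long6 (x : MP 6 G) : Prop := ∀ i j : ℤ, i % 2 = 0 → i - 3 ≤ j → j ≤ i + 3 → x.Cm i j

/-- Octagons: `2`-groups, and there is a central elation in `U 4`. -/
def Cen8 (x : MP 8 G) : Prop := (∀ k, IsPGroup 2 (x.U k)) ∧
  ∃ z ∈ x.U 4, z ≠ 1 ∧ ∀ j : ℤ, 0 ≤ j → j ≤ 8 → ∀ g ∈ x.U j, z * g = g * z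

end

/-- Split and rank two imply Moufang; the root groups come from `G`. -/
def JobBrM : Prop :=
  ∀ (G : Type) [Group G] [Finite G] (P : BNPair G) (U : Subgroup G), P.B.normalCore = ⊥ → Spl P U →
    ∀ (Δ : Bld (sim P) (asc P) (G ⧸ P.B)) (a : Weyl P → G ⧸ P.B), Δ.δ = wdist P → Δ.Apt a →
    (∀ n ∈ P.N, a (wOf P n) = (n : G ⧸ P.B)) → ∀ i j : P.S, (∀ k, k = i ∨ k = j) →
    sim P j * sim P i ≠ sim P i * sim P j → Δ.Mou a ∧ Δ.KK a ≤ (H38.BNF.ρ P).range ∧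
      ∃ p : ℕ, p.Prime ∧ IsPGroup p (Δ.UU a) ∧ (mm (sim P) i j = 8 → p = 2)

/-- Central elations of Moufang hexagons and octagons. -/
def JobBrL : Prop :=
  ∀ (W ι : Type) [Group W] [Finite W] (s : ι → W) (P : ι → Set W) (C : Type) [Finite C]
    (Δ : Bld s P C) (a : W → C), Δ.Apt a → GD Δ a → ∀ i j, i ≠ j → (∀ k, k = i ∨ k = j) →
    (∀ p : ℕ, p.Prime → IsPGroup p (Δ.UU a) → mm s i j = 6 → ∀ x : MP 6 (Equiv.Perm C),
      IsMP Δ a i j x → Long6 x ∨ Long6 x.rev) ∧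
    (IsPGroup 2 (Δ.UU a) → mm s i j = 8 → ∀ x : MP 8 (Equiv.Perm C),
      IsMP Δ a i j x → Cen8 x ∨ Cen8 x.rev)

/-! ### Hexagons -/

/-- An anisotropic cubic norm pair. -/
structure CP (F J J' : Type) [Field F] [AddCommGroup J] [Module F J] [AddCommGroup J']
    [Module F J'] where
  T : J →ₗ[F] J' →ₗ[F] F
  cr : J →ₗ[F] J →ₗ[F] J'
  sh : J → J'
  N : J → F
  sh_add : ∀ a b, sh (a + b) = sh a + sh b + cr a b
  sh_smul : ∀ (t : F) a, sh (t • a) = t ^ 2 • sh a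
  N_add : ∀ a b, N (a + b) = N a + N b + T b (sh a) + T a (sh b)
  N_smul : ∀ (t : F) a, N (t • a) = t ^ 3 * N a
  T_cr : ∀ a b c, T c (cr a b) = T b (cr a c)
  T_sh : ∀ a, T a (sh a) = 3 * N a
  an : ∀ a, N a = 0 → a = 0

/-- An anisotropic cubic norm structure with base point `e`. -/
structure CN (F J : Type) [Field F] [AddCommGroup J] [Module F J] extends CP F J J where
  e : J
  N_e : N e = 1
  sh_e : sh e = e
  cr_e : ∀ b, cr e b = T b e • e - b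
  T_symm : ∀ a b, T a b = T b a
  sh_sh : ∀ a, sh (sh a) = N a • a
  adj : ∀ a b, cr (sh a) (cr a b) = N a • b + T b (sh a) • a

/-- Coordinates of a hexagon. -/
structure H6 {G : Type} [Group G] (x : MP 6 G) {F J J' : Type} [Field F] [AddCommGroup J]
    [Module F J] [AddCommGroup J'] [Module F J'] (c : CP F J J') where
  x1 : J → G
  x2 : F → G
  x3 : J' → G
  x4 : F → G
  x5 : J → G
  x6 : F → G
  c1 : Co x1 (x.U 1)
  c2 : Co x2 (x.U 2)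
  c3 : Co x3 (x.U 3)
  c4 : Co x4 (x.U 4)
  c5 : Co x5 (x.U 5)
  c6 : Co x6 (x.U 6)
  r13 : ∀ a y, (x1 a)⁻¹ * x3 y * x1 a = x2 (c.T a y) * x3 y
  r35 : ∀ y z, (x3 y)⁻¹ * x5 z * x3 y = x4 (-c.T z y) * x5 z
  r15 : ∀ a z, (x1 a)⁻¹ * x5 z * x1 a =
    x2 (c.T z (c.sh a)) * x3 (c.cr a z) * x4 (-c.T a (c.sh z)) * x5 z
  r26 : ∀ s t, (x2 s)⁻¹ * x6 t * x2 s = x4 (s * t) * x6 t
  r16 : ∀ a t, (x1 a)⁻¹ * x6 t * x1 a =
    x2 (t * c.N a) * x3 (t • c.sh a) * x4 (-(t ^ 2 * c.N a)) * x5 (t • a) * x6 t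

/-- The field, the two modules and the torus of a hexagon. -/
structure H5 {G : Type} [Group G] (x : MP 6 G) (F J J' : Type) [Field F] [AddCommGroup J]
    [Module F J] [AddCommGroup J'] [Module F J'] where
  x1 : J → G
  x2 : F → G
  x3 : J' → G
  x4 : F → G
  x5 : J → G
  x6 : F → G
  c1 : Co x1 (x.U 1)
  c2 : Co x2 (x.U 2)
  c3 : Co x3 (x.U 3)
  c4 : Co x4 (x.U 4)
  c5 : Co x5 (x.U 5)
  c6 : Co x6 (x.U 6)
  r26 : ∀ s t, (x2 s)⁻¹ * x6 t * x2 s = x4 (s * t) * x6 t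
  /-- `μ(x6 t)` on `U 1`, `U 2` -/
  m1 : ∀ t a, t ≠ 0 → x.mu 6 (x6 t) * x1 a * (x.mu 6 (x6 t))⁻¹ = x5 (t • a)
  m2 : ∀ t s, t ≠ 0 → x.mu 6 (x6 t) * x2 s * (x.mu 6 (x6 t))⁻¹ = x4 (s * t)
  mka : ∀ t, t ≠ 0 → (x.mu 6 (x6 t))⁻¹ * x.ka 6 (x6 t) * x.mu 6 (x6 t) = x6 t
  /-- the torus centralising `U 1` -/
  th : ∀ s : F, s ≠ 0 → ∃ h : G, (∀ a, h⁻¹ * x1 a * h = x1 a) ∧ (∀ t, h⁻¹ * x2 t * h = x2 (s * t)) ∧
    (∀ y, h⁻¹ * x3 y * h = x3 (s • y)) ∧ (∀ z, h⁻¹ * x5 z * h = x5 (s • z)) ∧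
    ∀ t, h⁻¹ * x6 t * h = x6 (s * t)
  /-- the torus centralising `U 3` -/
  tk : ∀ s : F, s ≠ 0 → ∃ k : G, (∀ a, k⁻¹ * x1 a * k = x1 (s • a)) ∧
    (∀ t, k⁻¹ * x2 t * k = x2 (s * t)) ∧ (∀ y, k⁻¹ * x3 y * k = x3 y) ∧
    ∀ t, k⁻¹ * x6 t * k = x6 (t / s ^ 2)

def JobH5 : Prop := ∀ (G : Type) [Group G] [Finite G] (x : MP 6 G), Long6 x →
  ∃ (F J J' : Type) (_ : Field F) (_ : AddCommGroup J) (_ : Module F J) (_ : AddCommGroup J')
    (_ : Module F J'), Nonempty (H5 x F J J')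

def JobH6a : Prop := ∀ (G : Type) [Group G] [Finite G] (x : MP 6 G), Long6 x →
  ∀ (F J J' : Type) [Field F] [AddCommGroup J] [Module F J] [AddCommGroup J'] [Module F J'],
    Nonempty (H5 x F J J') → ∃ c : CP F J J', Nonempty (H6 x c)

def JobH6b : Prop := ∀ (G : Type) [Group G] [Finite G] (x : MP 6 G), Long6 x →
  ∀ (F J J' : Type) [Field F] [AddCommGroup J] [Module F J] [AddCommGroup J'] [Module F J']
    (c : CP F J J'), Nonempty (H6 x c) → ∃ d : CN F J, Nonempty (H6 x d.toCP)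

/-- Finite cubic norm structures. -/
def JobCN : Prop :=
  (∀ (F J : Type) [Field F] [Finite F] [AddCommGroup J] [Finite J] [Module F J], CN F J →
    Nat.card J = Nat.card F ∨ Nat.card J = Nat.card F ^ 3) ∧
  ∀ (F J F' J' : Type) [Field F] [Finite F] [AddCommGroup J] [Finite J] [Module F J] [Field F']
    [Finite F'] [AddCommGroup J'] [Finite J'] [Module F' J'] (c : CN F J) (d : CN F' J'),
    Nat.card F = Nat.card F' → Nat.card J = Nat.card J' →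
    ∃ (φ : F ≃+* F') (ψ : J ≃+ J'), (∀ (t : F) a, ψ (t • a) = φ t • ψ a) ∧
      (∀ a b, d.T (ψ a) (ψ b) = φ (c.T a b)) ∧ (∀ a b, d.cr (ψ a) (ψ b) = ψ (c.cr a b)) ∧
      (∀ a, d.sh (ψ a) = ψ (c.sh a)) ∧ ∀ a, d.N (ψ a) = φ (c.N a)

/-- Classification of finite Moufang hexagons. -/
def JobH6 : Prop :=
  (∀ (G : Type) [Group G] [Finite G] (x : MP 6 G), Long6 x → IsPrimePow (Nat.card (x.U 6)) ∧
    (Nat.card (x.U 1) = Nat.card (x.U 6) ∨ Nat.card (x.U 1) = Nat.card (x.U 6) ^ 3)) ∧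
  ∀ (G G' : Type) [Group G] [Group G'] [Finite G] [Finite G'] (x : MP 6 G) (y : MP 6 G'),
    Long6 x → Long6 y → Nat.card (x.U 1) = Nat.card (y.U 1) →
    Nat.card (x.U 6) = Nat.card (y.U 6) → ∃ Y, x.Iso y Y

def JobH6I : Prop := JobH5 → JobH6a → JobH6b → JobCN → JobH6

/-- Classification of finite Moufang octagons. -/
def JobO8 : Prop :=
  (∀ (G : Type) [Group G] [Finite G] (x : MP 8 G), Cen8 x → ∃ m : ℕ,
    Nat.card (x.U 1) = 2 ^ (2 * m + 1) ∧ Nat.card (x.U 8) = (2 ^ (2 * m + 1)) ^ 2) ∧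
  ∀ (G G' : Type) [Group G] [Group G'] [Finite G] [Finite G'] (x : MP 8 G) (y : MP 8 G'),
    Cen8 x → Cen8 y → Nat.card (x.U 1) = Nat.card (y.U 1) → ∃ Y, x.Iso y Y

/-! ### Models -/

def ModG2 : Prop := ∀ q, IsPrimePow q → 3 ≤ q → HasMod 2 (mI 6) (fun _ => q) fun _ _ => False
def Mod3D4 : Prop := ∀ q, IsPrimePow q → HasMod 2 (mI 6) (qs 1 (q ^ 3) q) fun _ _ => False
def Mod2F4 : Prop := ∀ m, 1 ≤ m →
  HasMod 2 (mI 8) (qs 1 (2 ^ (2 * m + 1)) ((2 ^ (2 * m + 1)) ^ 2)) fun _ _ => False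

/-- A model over the field with two elements that is not simple. -/
def HasMod0 (M : ℕ → ℕ → ℕ) (qq : ℕ → ℕ) : Prop :=
  ∃ (G : Type) (_ : Group G) (_ : Finite G) (L : LieS 2 G) (e : Fin 2 ≃ L.ι),
    L.T.H = ⊥ ∧ ¬ IsSimpleGroup G ∧ Typ L.R.sW 2 M e ∧
    ∀ i : Fin 2, Nat.card (L.T.X (L.R.p (e i))) = qq i

def Mod0 : Prop := HasMod0 (mI 4) (fun _ => 2) ∧ HasMod0 (mI 6) (fun _ => 2) ∧
  HasMod0 (mI 8) (qs 1 2 4)

def JobModB0 : Prop :=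
  ∀ (W ι : Type) [Group W] [Finite W] (s : ι → W) (P : ι → Set W), Exch s P →
    Function.Injective s → Irr s → ∀ (M : ℕ → ℕ → ℕ) (qq : ℕ → ℕ) (e : Fin 2 ≃ ι),
    Typ s 2 M e → HasMod0 M qq →
    ∃ (C : Type) (_ : Finite C) (Δ : Bld s P C) (a : W → C), Δ.Apt a ∧ Δ.Mou a ∧
      IsPGroup 2 (Δ.UU a) ∧ ¬ IsSimpleGroup (Δ.KK a) ∧ ∀ i : Fin 2, Δ.q (e i) = qq i

end H7.FS
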