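import Cfsg.Agent.H78.TESpec
import Cfsg.Agent.H30.SfA
import Mathlib.Algebra.Ring.MinimalAxioms
import Mathlib.FieldTheory.Finite.GaloisField

/-! STD-2E6 job `P3b`: the ring of order `q²` (port of `H70/SgP3b`). -/

set_option autoImplicit false
set_option linter.unusedSectionVars false

namespace H7.TEP3

open Cfsg.Lie H63 H65 H64 H64.SG H68 Subgroup H78.TE

universe u

variable {F : Type} [Field F] [Finite F] [CharP F 2] {G : Type u} [Group G] [Finite G]
  {L : Subgroup G} {x : ℕ → F → G} {t : G} {A : Rt D4 → Subgroup G}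

variable (L x t A) in
/-- Coordinates on the `A r` in a commutative ring. -/
structure Pk {R : Type*} [CommRing R] (ι : F →+* R) (σ : R ≃+* R) (y : Rt D4 → R → G) : Prop where
  add : ∀ r a b, y r a * y r b = y r (a + b)
  mem : ∀ r g, g ∈ A r ↔ ∃ a, y r a = g
  inj : ∀ r, Function.Injective (y r)
  com : ∀ r s u : Rt D4, rt u = rt r + rt s → ∀ a b,
    y r a * y s b * (y r a)⁻¹ * (y s b)⁻¹ = y u (a * b)
  yx : ∀ r c, y r (ι c) = x r c
  ty : ∀ r a, t * y r a * t⁻¹ = y r (σ a)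
  mv : ∀ m ∈ L, ∀ r s : Rt D4, m * x r 1 * m⁻¹ = x s 1 → ∀ a, m * y r a * m⁻¹ = y s a

/-- a copy of a subgroup -/
@[ext] structure Rg (B : Subgroup G) where
  val : G
  mem : val ∈ B

theorem ai (M : Fam L x t A) {r : Rt D4} {a : G} (ha : a ∈ A r) : a⁻¹ = a :=
  inv_eq_of_mul_eq_one_right (M.sq r a ha)

theorem col (M : Fam L x t A) {r s : Rt D4} (h : D4.pairing r s = 1) {a b : G} (ha : a ∈ A r)
    (hb : b ∈ A s) : Commute a b := (mem_Cs.1 (M.col r s h ha) b hb).symm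

theorem nn (M : Fam2 L x t A) {r s : Rt D4} (h : 0 ≤ D4.pairing r s) {a b : G} (ha : a ∈ A r)
    (hb : b ∈ A s) : Commute a b := by
  rcases e4.pairing_cases r s with rfl | rfl | e | e | e
  · show _ = _
    rw [← ai M.toFam (mul_mem ha hb), mul_inv_rev, ai M.toFam ha, ai M.toFam hb]
  · rw [negR_val, pairing_negR_right, pairing_self] at h; omega
  · omega
  · exact (mem_Cs.1 (M.pol r s e ha) b hb).symm
  · exact col M.toFam e ha hb

variable (E : Env L x t)
include E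

theorem ti : t⁻¹ = t := inv_eq_of_mul_eq_one_right E.tt

theorem xt (r : Rt D4) (c : F) : x r c * t = t * x r c := E.tc _ (E.le r c)

theorem mv_L (ω : (H64.wdata D4).W) : ∃ n ∈ L, ∀ (s : Rt D4) a, n * x s a * n⁻¹ = x (ω.1 s) a :=
  (exists_mv E.st.stN ω).imp fun _ h => ⟨GG_le E.le h.1, h.2⟩

theorem zero_of_comm {r v : Rt D4} (h : D4.pairing r v = -1) {a : F}
    (e : x r a * x v 1 = x v 1 * x r a) : a = 0 := by
  obtain ⟨u, hu⟩ := exists_add h
  have := e4.commutator_add E.st hu a 1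
  rw [e, mul_one] at this
  exact E.inj u a (by rw [← this]; group)

theorem eq_one (M : Fam L x t A) {r v : Rt D4} (h : D4.pairing r v = -1) {a : G} (ha : a ∈ A r)
    (e : Commute a (x v 1)) : a = 1 := by
  have h0 : Commute t (x v 1) := (xt E v 1).symm
  obtain ⟨c, hc⟩ := E.st.mem_XR.1 (M.tc r a ha)
  have h2 : Commute (x r c) (x v 1) :=
    hc ▸ ((e.mul_left h0).mul_left e.inv_left).mul_left h0.inv_left
  rw [zero_of_comm E h h2, E.st.x_zero, mul_inv_eq_one, mul_inv_eq_iff_eq_mul] at hc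
  obtain ⟨b, rfl⟩ := E.st.mem_XR.1 (M.fix r a ha (mem_Cz.2 hc.symm))
  rw [zero_of_comm E h e, E.st.x_zero]

variable (M : Fam2 L x t A)
include M

theorem exists_pk : ∃ (R : Type u) (_ : CommRing R) (ι : F →+* R) (σ : R ≃+* R)
    (y : Rt D4 → R → G), Pk L x t A ι σ y := by
  have hD := e4
  have M' := M.toFam
  set θ := hi D4 with hθ
  have hn : ∀ r : Rt D4, ∃ n ∈ L, ∀ c, n * x θ c * n⁻¹ = x r c := fun r => by
    obtain ⟨ω, rfl⟩ := hD.exists_W θ r
    obtain ⟨n, hn, e⟩ := mv_L E ω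
    exact ⟨n, hn, e θ⟩
  choose n nG nx using hn
  have nA : ∀ r, cjs (n r) (A θ) = A r := fun r =>
    M.eqv _ (mem_Cz.2 (E.tc _ (nG r)).symm) _ _ (cj_XR (nx r))
  let Y : Rt D4 → G → G := fun r a => n r * a * (n r)⁻¹
  have YA : ∀ r, ∀ a ∈ A θ, Y r a ∈ A r := fun r a ha => nA r ▸ ⟨a, ha, rfl⟩
  have Ym : ∀ r a b, Y r a * Y r b = Y r (a * b) := fun r a b => by simp only [Y]; group
  have Yi : ∀ r, Function.Injective (Y r) := fun r a b e => by simpa [Y] using e
  have mv : ∀ m ∈ L, ∀ r s : Rt D4, m * x r 1 * m⁻¹ = x s 1 → ∀ a ∈ A θ,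
      m * Y r a * m⁻¹ = Y s a := fun m hm r s e a ha => by
    have h1 : (n s)⁻¹ * m * n r ∈ PL L x θ := by
      refine E.p0 θ 1 one_ne_zero _ (mul_mem (mul_mem (inv_mem (nG s)) hm) (nG r)) ?_
      calc x θ 1 * ((n s)⁻¹ * m * n r) = (n s)⁻¹ * (n s * x θ 1 * (n s)⁻¹) * m * n r := by group
        _ = _ := by rw [nx s, ← e, ← nx r]; group
    have h2 := mem_Cs.1 (M.cp θ ha) _ h1
    calc m * Y r a * m⁻¹ = n s * ((n s)⁻¹ * m * n r * a) * (n r)⁻¹ * m⁻¹ := by simp only [Y]; group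
      _ = _ := by rw [h2]; simp only [Y]; group
  have Yθ : ∀ a ∈ A θ, Y θ a = a := fun a ha => by
    have := mem_Cs.1 (M.cp θ ha) _ (E.p0 θ 1 one_ne_zero _ (nG θ)
      (mul_inv_eq_iff_eq_mul.1 (nx θ 1)).symm)
    simp only [Y]
    rw [this, mul_inv_cancel_right]
  obtain ⟨r0, s0, h0⟩ := hD.exists_sum θ
  let μ : G → G → G := fun a b => Y r0 a * Y s0 b * (Y r0 a)⁻¹ * (Y s0 b)⁻¹
  have μA : ∀ a ∈ A θ, ∀ b ∈ A θ, μ a b ∈ A θ := fun a ha b hb =>
    M.neg2 _ _ _ h0 _ (YA _ a ha) _ (YA _ b hb)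
  have com : ∀ r s u : Rt D4, rt u = rt r + rt s → ∀ a ∈ A θ, ∀ b ∈ A θ,
      Y r a * Y s b * (Y r a)⁻¹ * (Y s b)⁻¹ = Y u (μ a b) := fun r s u hu a ha b hb => by
    obtain ⟨ω, rfl, rfl⟩ := hD.exists_W2 (r := r0) (s := s0) (r' := r) (s' := s)
      (by rw [hD.pairing_of_add h0, hD.pairing_of_add hu]) (by rw [hD.pairing_of_add h0]; omega)
    obtain ⟨m, hm, e⟩ := mv_L E ω
    rw [rt_inj (hu.trans (W_add ω h0).symm), ← mv m hm _ _ (e r0 1) a ha,
      ← mv m hm _ _ (e s0 1) b hb, ← mv m hm _ _ (e θ 1) _ (μA a ha b hb), Yθ _ (μA a ha b hb)]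
    simp only [μ]; group
  have p1 : D4.pairing θ r0 = 1 := by
    rw [hD.pairing_add_left h0, pairing_self, hD.pairing_comm, hD.pairing_of_add h0]; rfl
  have p2 : D4.pairing θ s0 = 1 := by
    rw [hD.pairing_add_left h0, pairing_self, hD.pairing_of_add h0]; rfl
  have μc : ∀ a ∈ A θ, ∀ b ∈ A θ, μ a b = μ b a := fun a ha b hb => by
    have := com s0 r0 θ (h0.trans (add_comm _ _)) b hb a ha
    rw [Yθ _ (μA b hb a ha)] at this
    rw [← this, ← ai M' (μA a ha b hb)]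
    simp only [μ]; group
  have μd : ∀ a ∈ A θ, ∀ b ∈ A θ, ∀ c ∈ A θ, μ a (b * c) = μ a b * μ a c := by
    intro a ha b hb c hc
    have := (col M' p2 (μA a ha c hc) (YA s0 b hb)).eq
    calc μ a (b * c) = μ a b * (Y s0 b * μ a c) * (Y s0 b)⁻¹ := by
          simp only [μ]; rw [← Ym]; group
      _ = _ := by rw [← this]; group
  have μa : ∀ a ∈ A θ, ∀ b ∈ A θ, ∀ c ∈ A θ, μ (μ a b) c = μ a (μ b c) := by
    intro a ha b hb c hc
    have rs := hD.pairing_of_add h0
    obtain ⟨v, rv, sv⟩ := hD.exists_third r0 s0 (a := 0) (b := -1) (by simp [rs]) (by simp)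
      (by simp) (by simp) (by simp) (by simp [rs])
    obtain ⟨p, hp⟩ := exists_add sv
    obtain ⟨z, hz⟩ := exists_add (r := r0) (s := p) (by rw [pairing_add r0 hp, rs, rv]; rfl)
    have hz' : rt z = rt θ + rt v := by rw [hz, hp, h0, add_assoc]
    have c1 := nn M rv.ge (YA r0 a ha) (YA v c hc)
    have c2 := nn M (r := θ) (s := p) (by
      rw [pairing_add θ hp, p2, hD.pairing_add_left h0, rv, sv]; omega) (μA a ha b hb)
      (YA p _ (μA b hb c hc))
    have e1 := com s0 v p hp b hb c hc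
    have e2 := com θ v z hz' _ (μA a ha b hb) c hc
    have e3 := com r0 p z hz a ha _ (μA b hb c hc)
    rw [Yθ _ (μA a ha b hb)] at e2
    have i1 := ai M' (YA z _ (μA _ (μA a ha b hb) c hc))
    have i2 := ai M' (YA p _ (μA b hb c hc))
    apply Yi z
    rw [← i1, ← e2, ← e3, ← i2]
    calc (μ a b * Y v c * (μ a b)⁻¹ * (Y v c)⁻¹)⁻¹ = (Y v c * Y r0 a) * (Y v c)⁻¹ *
          (Y s0 b * Y v c * (Y s0 b)⁻¹ * (Y v c)⁻¹)⁻¹ * Y s0 b * (Y v c * (Y r0 a)⁻¹) * (Y v c)⁻¹ *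
          (Y s0 b)⁻¹ * (Y s0 b * Y v c * (Y s0 b)⁻¹ * (Y v c)⁻¹) * (μ a b)⁻¹ := by
          simp only [μ]; group
      _ = Y r0 a * (Y p (μ b c))⁻¹ * (Y r0 a)⁻¹ * (μ a b * Y p (μ b c)) * (μ a b)⁻¹ := by
          rw [e1, ← c1.eq, ← c1.inv_left.eq]; simp only [μ]; group
      _ = _ := by rw [c2.eq]; group
  have xA : ∀ c, x θ c ∈ A θ := fun c => M.le θ (x_mem_XR D4 x θ c)
  have μx : ∀ c d, μ (x θ c) (x θ d) = x θ (c * d) := fun c d => by
    simp only [μ, Y, nx]
    exact hD.commutator_add E.st h0 c d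
  have μ1 : ∀ a ∈ A θ, μ (x θ 1) a = a := fun a ha => by
    have h1 : μ (x θ 1) (μ (x θ 1) a * a) = 1 := by
      rw [μd _ (xA 1) _ (μA _ (xA 1) a ha) a ha, ← μa _ (xA 1) _ (xA 1) a ha, μx, one_mul,
        M.sq θ _ (μA _ (xA 1) a ha)]
    have h2 := mul_mem (μA _ (xA 1) a ha) ha
    have h3 : Y s0 (μ (x θ 1) a * a) = 1 := by
      refine eq_one E M' (v := r0) (by rw [hD.pairing_comm, hD.pairing_of_add h0]) (YA _ _ h2) ?_
      simp only [μ, Y, nx] at h1 ⊢
      rw [mul_inv_eq_one, mul_inv_eq_iff_eq_mul] at h1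
      exact h1.symm
    have h4 : μ (x θ 1) a * a = 1 := Yi s0 (by rw [h3]; simp [Y])
    exact (eq_inv_of_mul_eq_one_left h4).trans (ai M' ha)
  have tA : ∀ a ∈ A θ, t * a * t⁻¹ ∈ A θ := fun a ha => by
    have := mul_mem (inv_mem (M.le θ (M.tc θ a ha))) ha
    rwa [show (a * t * a⁻¹ * t⁻¹)⁻¹ * a = t * a * t⁻¹ by group] at this
  have tY : ∀ r a, t * Y r a * t⁻¹ = Y r (t * a * t⁻¹) := fun r a => by
    calc t * Y r a * t⁻¹ = (t * n r) * a * (t * n r)⁻¹ := by simp only [Y]; group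
      _ = _ := by rw [← E.tc _ (nG r)]; simp only [Y]; group
  letI : Add (Rg (A θ)) := ⟨fun a b => ⟨a.val * b.val, mul_mem a.mem b.mem⟩⟩
  letI : Mul (Rg (A θ)) := ⟨fun a b => ⟨μ a.val b.val, μA _ a.mem _ b.mem⟩⟩
  letI : Neg (Rg (A θ)) := ⟨fun a => a⟩
  letI : Zero (Rg (A θ)) := ⟨⟨1, one_mem _⟩⟩
  letI : One (Rg (A θ)) := ⟨⟨x θ 1, xA 1⟩⟩
  letI I : CommRing (Rg (A θ)) := CommRing.ofMinimalAxioms
    (fun a b c => Rg.ext (mul_assoc _ _ _)) (fun a => Rg.ext (one_mul _))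
    (fun a => Rg.ext (M.sq θ _ a.mem)) (fun a b c => Rg.ext (μa _ a.mem _ b.mem _ c.mem))
    (fun a b => Rg.ext (μc _ a.mem _ b.mem)) (fun a => Rg.ext (μ1 _ a.mem))
    (fun a b c => Rg.ext (μd _ a.mem _ b.mem _ c.mem))
  have tt : ∀ a : G, t * (t * a * t⁻¹) * t⁻¹ = a := fun a => by
    rw [ti E, ← mul_assoc, ← mul_assoc, E.tt, mul_assoc, E.tt, one_mul, mul_one]
  refine ⟨Rg (A θ), I, ⟨⟨⟨fun c => ⟨x θ c, xA c⟩, rfl⟩, fun c d => Rg.ext (μx c d).symm⟩,
    Rg.ext (E.st.x_zero θ), fun c d => Rg.ext (E.st.add θ θ.2 c d).symm⟩,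
    ⟨⟨fun a => ⟨_, tA _ a.mem⟩, fun a => ⟨_, tA _ a.mem⟩, fun a => Rg.ext (tt _),
      fun a => Rg.ext (tt _)⟩, fun a b => Rg.ext ?_, fun a b => Rg.ext ?_⟩,
    fun r a => Y r a.val, fun r a b => Ym r _ _, fun r g => ⟨fun h => ?_, ?_⟩,
    fun r a b e => Rg.ext (Yi r e), fun r s u hu a b => com r s u hu _ a.mem _ b.mem,
    fun r c => nx r c, fun r a => tY r _, fun m hm r s e a => mv m hm r s e _ a.mem⟩
  · show t * μ a.val b.val * t⁻¹ = μ (t * a.val * t⁻¹) (t * b.val * t⁻¹)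
    simp only [μ]
    rw [← tY, ← tY]; group
  · show t * (a.val * b.val) * t⁻¹ = t * a.val * t⁻¹ * (t * b.val * t⁻¹)
    group
  · rw [← nA] at h
    obtain ⟨a, ha, rfl⟩ := h
    exact ⟨⟨a, ha⟩, rfl⟩
  · rintro ⟨a, rfl⟩
    exact YA r _ a.mem

omit E M in
/-- extension of a family indexed by the roots -/
def ext {K : Type*} (y : Rt D4 → K → G) : ℕ → K → G :=
  fun r a => if h : r < D4.nroots then y ⟨r, h⟩ a else 1

omit E M in
theorem ext_val {K : Type*} (y : Rt D4 → K → G) (r : Rt D4) (a : K) : ext y r a = y r a :=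
  dif_pos r.2

theorem ct_sup : Cz t ≤ Ns (L ⊔ A (hi D4)) := by
  intro n hn
  obtain ⟨l, hl, h⟩ := E.std n hn
  have h1 : l * n ∈ Cz t := mul_mem (mem_Cz.2 (E.tc l hl).symm) hn
  have h2 : l * n ∈ Ns (L ⊔ A (hi D4)) := by
    refine mem_normalizer_fintype fun g hg => ?_
    have : cjs (l * n) (L ⊔ A (hi D4)) ≤ L ⊔ A (hi D4) := by
      rw [cjs, Subgroup.map_sup]
      refine sup_le_sup ?_ (M.eqv _ h1 _ _ h).le
      rintro _ ⟨g, hg, rfl⟩
      exact (mem_normalizer_iff.1 (E.ct h1) g).1 hg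
    exact this ⟨g, hg, rfl⟩
  simpa using mul_mem (inv_mem (le_normalizer (mem_sup_left hl : l ∈ L ⊔ A (hi D4)))) h2

theorem scale {R : Type*} [CommRing R] {ι : F →+* R} {σ : R ≃+* R} {y : Rt D4 → R → G}
    (P : Pk L x t A ι σ y) {m : G} (hm : m ∈ L) {r s : Rt D4} {k : F} (hk : k ≠ 0)
    (e : m * x r 1 * m⁻¹ = x s k) (a : R) : m * y r a * m⁻¹ = y s (a * ι k) := by
  obtain ⟨r1, r2, hs⟩ := e4.exists_sum s
  have p := e4.pairing_of_add hs
  obtain ⟨v, v1, v2⟩ := e4.exists_third r1 r2 (a := 0) (b := 1) (by simp [p]) (by simp) (by simp)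
    (by simp) (by simp) (by simp [p])
  rw [e4.pairing_comm] at v1 v2
  have c := fun s => E.st.stN.hh_conj v s hk
  have hL : hh D4 x v k ∈ L := GG_le E.le (HH_le_GG (hh_mem_HH D4 x v hk))
  generalize hh D4 x v k = h at c hL
  have c1 : h * y r1 a * h⁻¹ = y r1 a := P.mv h hL _ _ (by rw [c r1, v1, zpow_zero, mul_one]) a
  have c2 : h * y r2 1 * h⁻¹ = y r2 (ι k) := by
    rw [← map_one ι, P.yx, P.yx, c r2, v2, zpow_one, mul_one]
  have c3 : h * x s 1 * h⁻¹ = x s k := by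
    rw [c s, pairing_add v hs, v1, v2, zero_add, zpow_one, mul_one]
  have c4 := P.mv _ (mul_mem (inv_mem hL) hm) r s (by
    rw [mul_inv_rev, inv_inv, mul_assoc h⁻¹, ← mul_assoc _ m⁻¹, mul_assoc h⁻¹, e, ← c3]; group) a
  rw [← P.com r1 r2 s hs, ← c1, ← c2, show m * y r a * m⁻¹ =
    h * (h⁻¹ * m * y r a * (h⁻¹ * m)⁻¹) * h⁻¹ by group, c4, ← mul_one a, ← P.com r1 r2 s hs, mul_one]
  group

theorem main {K : Type} [Field K] [Finite K] [CharP K 2] (T : Qd F K) :
    (∃ y, T.B4 L x t y) ∨ WX' L t := by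
  have hD := e4
  have M' := M.toFam
  obtain ⟨R, _, ι, σ, y, P⟩ := exists_pk E M
  have yA : ∀ r a, y r a ∈ A r := fun r a => (P.mem r _).2 ⟨a, rfl⟩
  have y0 : ∀ r, y r 0 = 1 := fun r => by rw [← map_zero ι, P.yx, E.st.x_zero]
  have nn : ∀ r s : Rt D4, 0 ≤ D4.pairing r s → ∀ a b, y r a * y s b = y s b * y r a :=
    fun r s h a b => nn M h (yA r a) (yA s b)
  have two : ∀ a : R, a + a = 0 := fun a =>
    P.inj (hi D4) (by rw [← P.add, M.sq _ _ (yA _ a), y0])
  have ss : ∀ a, σ (σ a) = a := fun a => P.inj (hi D4) (by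
    rw [← P.ty, ← P.ty, ti E, ← mul_assoc, ← mul_assoc, E.tt, mul_assoc, E.tt, one_mul, mul_one])
  have si : ∀ c, σ (ι c) = ι c := fun c => P.inj (hi D4) (by
    rw [← P.ty, P.yx, ← xt E, mul_inv_cancel_right])
  have fix : ∀ a, σ a = a → ∃ c, ι c = a := fun a h => by
    have h1 := P.ty (hi D4) a
    rw [h, mul_inv_eq_iff_eq_mul] at h1
    obtain ⟨c, e⟩ := E.st.mem_XR.1 (M.fix _ _ (yA _ a) (mem_Cz.2 h1))
    exact ⟨c, P.inj (hi D4) (by rw [P.yx, e])⟩
  obtain ⟨η, hη⟩ : ∃ η : R, σ η = η + 1 := by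
    obtain ⟨g, hg, e⟩ := M.onto (hi D4) 1
    obtain ⟨η, rfl⟩ := (P.mem _ g).1 hg
    refine ⟨η, P.inj (hi D4) ?_⟩
    rw [← P.ty, ← P.add, ← map_one ι, nn _ _ (by rw [pairing_self]; omega) η (ι 1), P.yx, ti E]
    rw [mul_inv_eq_iff_eq_mul] at e
    rw [mul_assoc, e, ← mul_assoc, ← mul_assoc, E.tt, one_mul]
  obtain ⟨w, hw⟩ := fix (η * (η + 1)) (by
    rw [map_mul, map_add, hη, map_one]; linear_combination (η + 1) * two 1)
  have dec : ∀ a : R, ∃ c d, a = ι c + ι d * η := fun a => by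
    obtain ⟨d, hd⟩ := fix (a + σ a) (by rw [map_add, ss, add_comm])
    obtain ⟨c, hc⟩ := fix (a + ι d * η) (by
      rw [map_add, map_mul, si, hη]; linear_combination hd + two (σ a))
    exact ⟨c, d, by linear_combination -hc - two (ι d * η)⟩
  have cardR : Nat.card R = Nat.card F ^ 2 := by
    rw [← M.card (hi D4)]
    exact Nat.card_congr (Equiv.ofBijective (fun a => (⟨_, yA (hi D4) a⟩ : A (hi D4)))
      ⟨fun a b e => P.inj _ (congrArg Subtype.val e), fun ⟨g, hg⟩ =>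
        let ⟨a, e⟩ := (P.mem _ g).1 hg; ⟨a, Subtype.ext e⟩⟩)
  haveI : Finite R := Finite.of_injective _ (P.inj (hi D4))
  by_cases h : ∃ c : F, c * c + c = w
  · obtain ⟨c0, h⟩ := h
    right
    set ε := η + ι c0 with hε
    have e1 : σ ε = ε + 1 := by rw [hε, map_add, hη, si]; ring
    have e2 : ε * (ε + 1) = 0 := by
      have := congrArg ι h
      rw [map_add, map_mul, hw] at this
      rw [hε]; linear_combination this + two (η * (η + 1)) + two (η * ι c0)
    have e3 : ε * ε = ε := by linear_combination e2 - two ε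
    have cm : ∀ r s : Rt D4, s ≠ negR r → ∀ a b,
        Commute (y r (a * ε)) (y s (b * (ε + 1))) := fun r s hs a b => by
      by_cases h0 : 0 ≤ D4.pairing r s
      · exact nn r s h0 _ _
      · have h1 : D4.pairing r s = -1 := by
          by_contra h3
          exact hs (hD.eq_neg_of_pairing (by omega))
        obtain ⟨u, hu⟩ := exists_add h1
        have := P.com r s u hu (a * ε) (b * (ε + 1))
        rwa [show a * ε * (b * (ε + 1)) = 0 by linear_combination a * b * e2, y0, mul_inv_eq_one,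
          mul_inv_eq_iff_eq_mul] at this
    have cm' : ∀ r s : Rt D4, ∀ a b, Commute (y r (a * ε)) (y s (b * (ε + 1))) := fun r s a b => by
      by_cases hs : s = negR r
      · obtain ⟨r1, r2, hr⟩ := hD.exists_sum r
        have h1 := hD.pairing_of_add hr
        have n1 : s ≠ negR r1 := fun e => by
          have := pairing_add r1 hr
          rw [negR_injective (hs.symm.trans e), pairing_self] at this
          omega
        have n2 : s ≠ negR r2 := fun e => by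
          have := hD.pairing_add_left hr r2
          rw [negR_injective (hs.symm.trans e), pairing_self] at this
          omega
        have c1 := cm r1 s n1 a b
        have c2 := cm r2 s n2 1 b
        rw [show a * ε = a * ε * (1 * ε) by linear_combination -a * e3, ← P.com r1 r2 r hr]
        exact ((c1.mul_left c2).mul_left c1.inv_left).mul_left c2.inv_left
      · exact cm r s hs a b
    have e4 : t * y (hi D4) ε * t⁻¹ = y (hi D4) (1 * (ε + 1)) := by rw [P.ty, e1, one_mul]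
    refine ⟨x (hi D4) 1, y (hi D4) ε, ⟨E.le _ _, fun e => one_ne_zero (E.inj _ _ e),
      M.sq _ _ (yA _ _), ?_, fun g hg => ?_⟩, ?_⟩
    · rw [e4, P.add, ← P.yx]
      exact congrArg _ (by rw [map_one]; linear_combination -two ε)
    · obtain ⟨u, hu, r, k, hk, e⟩ := E.pair g hg
      have h1 := scale E M P (mul_mem hu.1 hg) hk (by rw [e, mul_one]) ε
      have h2 : Commute u (y (hi D4) (1 * (ε + 1))) := mem_Cs.1 (M.cp _ (yA _ _)) u hu
      rw [e4, show g * y (hi D4) ε * g⁻¹ = u⁻¹ * (u * g * y (hi D4) ε * (u * g)⁻¹) * u by group, h1,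
        mul_comm ε]
      exact (h2.inv_left.mul_left (cm' r _ _ _)).mul_left h2
    · obtain ⟨r, s, hr⟩ := hD.exists_sum (hi D4)
      have h1 : x s 1 ∈ normalClosure (L : Set G) := subset_normalClosure (E.le s 1)
      rw [← mul_one ε, ← map_one ι, ← P.com r s _ hr, P.yx]
      exact mul_mem (normalClosure_normal.conj_mem _ h1 _) (inv_mem h1)
  · left
    have fld : IsField R := by
      refine ⟨⟨1, 0, fun e => one_ne_zero (E.inj (hi D4) 1 ?_)⟩, mul_comm, fun {a} ha => ?_⟩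
      · rw [← P.yx, map_one, e, y0]
      obtain ⟨c, d, rfl⟩ := dec a
      have e : (ι c + ι d * η) * (ι c + ι d * (η + 1)) = ι (c * c + c * d + d * d * w) := by
        simp only [map_add, map_mul, hw]; linear_combination two (ι c * ι d * η)
      have n0 : c * c + c * d + d * d * w ≠ 0 := fun e0 => by
        by_cases d0 : d = 0
        · subst d0
          have : c = 0 := by simpa using e0
          exact ha (by simp [this])
        · refine h ⟨c / d, ?_⟩
          field_simp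
          linear_combination e0 - CharTwo.add_self_eq_zero (d * d * w)
      exact ⟨(ι c + ι d * (η + 1)) * ι (c * c + c * d + d * d * w)⁻¹, by
        rw [← mul_assoc, e, ← map_mul, mul_inv_cancel₀ n0, map_one]⟩
    letI : Field R := fld.toField
    letI := ι.toAlgebra
    letI := T.ι.toAlgebra
    obtain ⟨f⟩ := FiniteField.nonempty_algHom_of_finrank_dvd (F := F) (K := K) (L := R) (by
      have h1 := Module.natCard_eq_pow_finrank (K := F) (V := K)
      have h2 := Module.natCard_eq_pow_finrank (K := F) (V := R)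
      rw [T.card, ← cardR, h2] at h1
      rw [Nat.pow_right_injective Finite.one_lt_card h1])
    let φ : K ≃+* R := RingEquiv.ofBijective f.toRingHom
      (f.toRingHom.injective.bijective_of_nat_card_le (T.card.trans cardR.symm).ge)
    have φι : ∀ c, φ (T.ι c) = ι c := f.commutes
    have φσ : ∀ a, σ (φ a) = φ (T.σ a) := by
      rcases H30.Sf.gal (τ := (φ.trans σ).trans φ.symm) T.ss (fun c hc => by
        obtain ⟨d, rfl⟩ := (T.fix c).1 hc
        simp [φι, si, φ.symm_apply_eq]) with e | e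
      · have := congrArg φ (RingEquiv.congr_fun e (φ.symm η))
        simp [hη] at this
      · exact fun a => by simpa using congrArg φ (RingEquiv.congr_fun e a)
    let z : ℕ → K → G := ext fun r a => y r (φ a)
    have hz : ∀ (r : Rt D4) a, z r a = y r (φ a) := ext_val _
    have gz : L ⊔ GG D4 z = L ⊔ A (hi D4) := by
      refine le_antisymm (sup_le le_sup_left (GG_le fun r c => ?_))
        (sup_le_sup_left (fun g hg => ?_) _)
      · obtain ⟨ω, rfl⟩ := hD.exists_W (hi D4) r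
        obtain ⟨n, hn, e⟩ := mv_L E ω
        rw [hz, ← P.mv n hn _ _ (e _ 1)]
        exact mul_mem (mul_mem (mem_sup_left hn) (mem_sup_right (yA _ _))) (mem_sup_left (inv_mem hn))
      · obtain ⟨a, rfl⟩ := (P.mem _ g).1 hg
        rw [← φ.apply_symm_apply a, ← hz]
        exact x_mem_GG _ _
    refine ⟨z, hD.st_of (fun r a b => ?_) (fun r s h a b => ?_) fun r s u h a b => ?_,
      fun r c => ?_, fun r a => ?_, fun r a => ?_, gz ▸ ct_sup E M⟩
    · rw [hz, hz, hz, P.add, map_add]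
    · rw [hz, hz, nn r s h]
    · rw [hz, hz, hz, P.com r s u h, map_mul]
    · rw [hz, φι, P.yx]
    · rw [hz, hz, P.ty, φσ]
    · rw [hz]; exact M.cp r (yA r _)

omit E M in
theorem jobP3b : H78.TE.JobP3b.{u} := fun _ _ _ _ _ _ _ _ _ _ E _ M _ _ _ _ T => main E M T

end H7.TEP3
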