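import Cfsg.Agent.H78.TEDef
import Cfsg.Agent.H64.SGFC

/-! STD-2E6: the class in `U` of an element outside `R` has at least `q ^ 12` elements. -/

set_option autoImplicit false
set_option linter.unusedSectionVars false

namespace H7.TEUI

open Cfsg.Lie H63 H65 H64 H64.SG H68 H46.SF Subgroup H78.TE

section cnt

variable {G : Type*} [Group G] [Finite G] {H H' C : Subgroup G}

theorem card_rel (A B : Subgroup G) : Nat.card ↥(A ⊓ B) * A.relIndex B = Nat.card B := by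
  rw [← card_mul_index (A.subgroupOf B), relIndex, ← inf_subgroupOf_right,
    Nat.card_congr (subgroupOfEquivOfLe inf_le_right).toEquiv, inf_subgroupOf_right]

theorem key (h : H' ≤ H) {e k : ℕ} (h1 : e * H'.relIndex (H ⊓ C) ≤ H'.relIndex H)
    (h2 : k * Nat.card ↥(H' ⊓ C) ≤ Nat.card H') : e * k * Nat.card ↥(H ⊓ C) ≤ Nat.card H := by
  rw [← card_rel H' H, ← card_rel H' (H ⊓ C), ← inf_assoc, inf_of_le_left h]
  calc _ = k * Nat.card ↥(H' ⊓ C) * (e * H'.relIndex (H ⊓ C)) := by ring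
    _ ≤ _ := Nat.mul_le_mul h2 h1

theorem mono (h : H' ≤ H) {k : ℕ} (h2 : k * Nat.card ↥(H' ⊓ C) ≤ Nat.card H') :
    k * Nat.card ↥(H ⊓ C) ≤ Nat.card H := by
  simpa using key (e := 1) h (by
    rw [one_mul]; exact relIndex_le_of_le_right inf_le_left index_ne_zero_of_finite) h2

theorem rel_le {D : Type*} [Finite D] (f : D → G) (h : ∀ v ∈ H, ∃ d, (f d)⁻¹ * v ∈ H') :
    H'.relIndex H ≤ Nat.card D := by
  choose d hd using h
  refine Nat.card_le_card_of_injective (fun x : H ⧸ H'.subgroupOf H => d x.out x.out.2)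
    fun x y e => ?_
  rw [← x.out_eq, ← y.out_eq]
  refine QuotientGroup.eq.2 (mem_subgroupOf.2 ?_)
  have := mul_mem (inv_mem (hd _ x.out.2)) (hd _ y.out.2)
  rw [show d x.out x.out.2 = d y.out y.out.2 from e] at this
  simpa [mul_assoc] using this

end cnt

/-- the level of a root -/
def lv (r : Rt E6) : ℤ := cf 0 r + 10 * cf 1 r + 2 * cf 2 r + 20 * cf 3 r + 2 * cf 4 r + cf 5 r
/-- the positive roots of level at least `m` -/
abbrev SL (m : ℤ) : Set (Rt E6) := {r | 36 ≤ r.1 ∧ m ≤ lv r}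

theorem lv_lam : ∀ r : Rt E6, lam E6 [1, 10, 2, 20, 2, 1] r = lv r := by decide +kernel
theorem lv_su : ∀ r s : Rt E6, ip r s = -1 → lv (su r s) = lv r + lv s := by decide +kernel
theorem lv_pos : ∀ r : Rt E6, 36 ≤ r.1 ↔ 0 < lv r := by decide +kernel
theorem lv_gm : ∀ r : Rt E6, lv (gm r) = lv r := by decide +kernel
theorem ip_pos : ∀ r s : Rt E6, 36 ≤ r.1 → 36 ≤ s.1 → 0 ≤ ip r s ∨ ip r s = -1 := by decide +kernel
theorem hl : ∀ i < E6.rank, (1 : ℤ) ≤ [1, 10, 2, 20, 2, 1].getD i 0 := by decide +kernel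

theorem lay (m : ℤ) : Lay [1, 10, 2, 20, 2, 1] m (SL m) :=
  ⟨fun r hr => ⟨pos_iff.2 hr.1, lv_lam r ▸ hr.2⟩, fun r h1 h2 => ⟨pos_iff.1 h1, lv_lam r ▸ h2.le⟩⟩

theorem su_mem {r s : Rt E6} {m n k : ℤ} (hk : k ≤ m + n) (hr : r ∈ SL m) (hs : s ∈ SL n)
    (h : ip r s = -1) : su r s ∈ SL k := by
  have h1 := (lv_pos r).1 hr.1
  have h2 := (lv_pos s).1 hs.1
  have h3 := hr.2
  have h4 := hs.2
  exact ⟨(lv_pos _).2 (by rw [lv_su r s h]; omega), by rw [lv_su r s h]; omega⟩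

theorem gm_mem {r : Rt E6} {m : ℤ} (hr : r ∈ SL m) : gm r ∈ SL m :=
  ⟨(lv_pos _).2 (lv_gm r ▸ (lv_pos r).1 hr.1), lv_gm r ▸ hr.2⟩

theorem cl (m : ℤ) : Cl (SL m) :=
  ⟨⟨fun _ hr => hr.1, fun _ hr s hs => su_mem (n := 0) (by omega) hr
    ⟨hs.1, ((lv_pos s).1 hs.1).le⟩⟩, fun _ => gm_mem⟩

/-- the conditions for one step -/
abbrev Good (ρ s : Rt E6) : Prop := 36 ≤ s.1 ∧ ip ρ s = -1 ∧
  (∀ r, lv r = lv s → r = s ∨ r = gm s) ∧
  (0 ≤ ip ρ (gm s) ∨ gm (su ρ s) ≠ su ρ s ∧ ∃ r v : Rt D4, lr r = s ∧ lr v = su (su s ρ) (gm ρ) ∧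
    lr v ∈ SL (lv ρ + lv s + 1)) ∧
  (Finset.univ.filter (· ∈ SL (lv s))).card = (Finset.univ.filter (· ∈ SL (lv s + 1))).card +
    if gm s = s then 1 else 2

/-- the gain of one step -/
def wt (ρ s : Rt E6) : ℕ := if gm s = s ∨ gm (su ρ s) = su ρ s then 1 else 2

variable {F K : Type} [Field F] [Finite F] [CharP F 2] [Field K] [Finite K] [CharP K 2]

theorem nY {m k : ℤ} : gY K (SL m) ≤ Ns (gY K (SL k)) :=
  (gen_mono _ fun _ hr => pos_iff.2 hr.1).trans ((lay k).norm e6 hl (stY K).toStN.toSt)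

theorem cmY {m n k : ℤ} (hk : k ≤ m + n) {a b : YY K} (ha : a ∈ gY K (SL m))
    (hb : b ∈ gY K (SL n)) : a ∈ cm (gY K (SL k)) b := by
  refine (SG.gen_le_iff.2 fun r hr c => cm_symm ((SG.gen_le_iff.2 fun s hs d => ?_ :
    gY K (SL n) ≤ cm _ (xG E6 K r c)) hb) (nY (SG.x_mem_gen hr c))) ha
  have h1 := nY (k := k) (SG.x_mem_gen (x := xG E6 K) hs d)
  rcases ip_pos s r hs.1 hr.1 with h | h
  · exact mem_cm_of_comm h1 (cY h d c)
  · exact ⟨h1, by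
      rw [e6.commutator_add (stY K).toStN.toSt (su_add h)]
      exact SG.x_mem_gen (su_mem (by omega) hs hr h) _⟩

variable {T : Qd F K} (h : T.KB)
include h

theorem cmX {m n k : ℤ} (hk : k ≤ m + n) {a b : T.X} (ha : a ∈ T.gt (SL m))
    (hb : b ∈ T.gt (SL n)) : a ∈ cm (T.gt (SL k)) b := by
  rw [h.gtY _ (cl _)] at ha hb
  refine ⟨mem_normalizer_iff.2 fun v => ?_, (h.gtY _ (cl _) _).2 (cmY hk ha hb).2⟩
  simp only [SetLike.mem_coe, h.gtY _ (cl _)]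
  exact mem_normalizer_iff.1 (nY ha) v

theorem zero {w : Rt E6} (hw : 36 ≤ w.1) {e : K} (he : T.xs w e ∈ T.gt (SL (lv w + 1))) :
    if gm w = w then e + T.σ e = 0 else e = 0 := by
  rw [h.gtY _ (cl _), Qd.xs_val] at he
  split_ifs with h1
  · rw [h1, ← xE_add] at he
    exact (lay _).eq_zero e6 hl (stY K) (pos_iff.2 hw) (fun k => by have := k.2; omega) he
  · have l : Lay [1, 10, 2, 20, 2, 1] (lv w) (insert (gm w) (SL (lv w + 1))) :=
      ⟨by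
        rintro r (rfl | hr)
        · exact ⟨pos_gm.2 (pos_iff.2 hw), by rw [lv_lam, lv_gm]⟩
        · exact ⟨pos_iff.2 hr.1, by rw [lv_lam]; exact (lt_add_one _).le.trans hr.2⟩,
        fun r h1 h2 => .inr ⟨pos_iff.1 h1, lv_lam r ▸ h2⟩⟩
    refine l.eq_zero e6 hl (stY K) (pos_iff.2 hw) ?_ ((mul_mem_cancel_right ?_).1
      (gen_mono _ (Set.subset_insert _ _) he))
    · rintro (k | k)
      · exact h1 k.symm
      · have := k.2; omega
    · exact SG.x_mem_gen (Set.mem_insert _ _) _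

theorem dec {s : Rt E6} (hs : 36 ≤ s.1) (h1 : ∀ r, lv r = lv s → r = s ∨ r = gm s) {v : T.X}
    (hv : v ∈ T.gt (SL (lv s))) : ∃ a, ∃ v' ∈ T.gt (SL (lv s + 1)), v = T.xs s a * v' := by
  obtain ⟨u, rfl⟩ := h.prod _ (cl _) (s :: (Finset.univ.filter (· ∈ SL (lv s + 1))).toList)
    (List.nodup_cons.2 ⟨by simp, Finset.nodup_toList _⟩)
    (List.forall_mem_cons.2 ⟨⟨hs, le_rfl⟩, fun r hr => by
      simp at hr; exact ⟨hr.1, by omega⟩⟩) (fun r hr => by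
      rcases hr.2.eq_or_lt with e | e
      · rcases h1 r e.symm with rfl | rfl <;> simp
      · exact .inl (List.mem_cons_of_mem _ (by simpa using ⟨hr.1, e⟩))) v hv
  exact ⟨u s, _, list_prod_mem (List.forall_mem_map.2 fun r hr =>
    T.xs_mem (by simpa using hr) _), List.prod_cons⟩

theorem step {ρ s : Rt E6} (hρ : 36 ≤ ρ.1) (hρ' : gm ρ ≠ ρ) (g : Good ρ s) {t : K} (ht : t ≠ 0)
    {n : T.X} (hn : n ∈ T.gt (SL (lv ρ + 1))) :
    Nat.card F ^ wt ρ s * (T.gt (SL (lv s + 1))).relIndex (T.gt (SL (lv s)) ⊓ Cz (T.xs ρ t * n)) ≤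
      (T.gt (SL (lv s + 1))).relIndex (T.gt (SL (lv s))) := by
  obtain ⟨g1, g2, g3, g4, g5⟩ := g
  have le : T.gt (SL (lv s + 1)) ≤ T.gt (SL (lv s)) := T.gt_mono fun r hr => ⟨hr.1, by
    have := hr.2; omega⟩
  have c1 := card_rel (T.gt (SL (lv s + 1))) (T.gt (SL (lv s)))
  rw [inf_of_le_left le, h.card _ (cl _), h.card _ (cl _), g5, pow_add,
    mul_right_inj' (pow_ne_zero _ Nat.card_pos.ne')] at c1
  have w1 := (su_mem (m := lv ρ) (n := lv s) le_rfl ⟨hρ, le_rfl⟩ ⟨g1, le_rfl⟩ g2).1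
  have c2 : ∀ v ∈ T.gt (SL (lv s)) ⊓ Cz (T.xs ρ t * n), ∃ c : F, (gm (su ρ s) ≠ su ρ s → c = 0) ∧
      (T.xs s (T.ι c / t))⁻¹ * v ∈ T.gt (SL (lv s + 1)) := by
    intro v hv
    obtain ⟨a, v', hv', rfl⟩ := dec h g1 g3 hv.1
    have m1 : T.xs ρ t ∈ T.gt (SL (lv ρ)) := T.xs_mem (And.intro hρ le_rfl) t
    have k1 := cmX h (k := lv ρ + lv s + 1) (by omega) hn hv.1
    have k2 := cmX h (k := lv ρ + lv s + 1) (by omega) hv' m1
    have k3 := (cmX h (k := lv ρ + lv s + 1) (n := lv s + 1) (by omega) m1 hv').1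
    have k4 := (cmX h (k := lv ρ + lv s + 1) (n := lv ρ + 1) (by omega) hv.1 hn).1
    have k5 := ((mul_mem_cancel_right k2).1 (cm_symm ((mul_mem_cancel_right k1).1
      (mem_cm_of_comm (mul_mem k3 k1.1) (mem_Cz.1 hv.2))) k4)).2
    rw [mul_assoc, mul_assoc, ← mul_assoc (T.xs ρ t), T.xs_inv s] at k5
    rcases g4 with g4 | ⟨g4, r, v, rfl, g6, g7⟩
    · rw [h.cs ρ s g2 g4, ← mul_assoc, T.xs_sq, one_mul, ← lv_su ρ s g2] at k5
      have k6 := zero h w1 k5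
      split_ifs at k6 with k7
      · obtain ⟨c, hc⟩ := (T.fix _).1 (CharTwo.add_eq_zero.1 k6).symm
        exact ⟨c, fun k => absurd k7 k, by
          rw [hc, mul_div_cancel_left₀ _ ht, inv_mul_cancel_left]; exact hv'⟩
      · exact ⟨0, fun _ => rfl, by
          rw [(mul_eq_zero.1 k6).resolve_left ht, map_zero, zero_div, inv_mul_cancel_left]
          exact hv'⟩
    · obtain ⟨c, hc⟩ := T.exists_tr a
      obtain ⟨m, hm⟩ := T.exists_nm t
      rw [T.xs_lr r hc] at k5 ⊢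
      rw [h.cj r v ρ hρ' (ip_comm _ _ ▸ g2) g6 t m c hm, ← mul_assoc, ← mul_assoc, ← T.xs_lr r hc,
        T.xs_sq, one_mul, mul_mem_cancel_right (h.x_mem v g7 _), su_comm, ← lv_su ρ _ g2] at k5
      have k6 := zero h w1 k5
      rw [if_neg g4, mul_eq_zero, or_iff_left ht, map_eq_zero] at k6
      exact ⟨0, fun _ => rfl, by
        rw [k6, h.st.x_zero, map_zero, zero_div, T.xs_zero, inv_mul_cancel_left]; exact hv'⟩
  rw [c1, wt]
  by_cases k : gm (su ρ s) = su ρ s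
  · have k1 : gm s ≠ s := fun e => by
      rcases g4 with g4 | g4
      · rw [e] at g4; omega
      · exact g4.1 k
    rw [if_pos (.inr k), if_neg k1, pow_one, sq]
    exact Nat.mul_le_mul_left _ (rel_le _ fun v hv => (c2 v hv).imp fun _ => And.right)
  · simp only [k, or_false]
    refine (Nat.mul_le_mul_left _ (rel_le (D := Unit) (fun _ => T.xs s (T.ι 0 / t)) fun v hv =>
      (c2 v hv).elim fun c hc => ⟨(), hc.1 k ▸ hc.2⟩)).trans (by simp)

theorem chain {ρ : Rt E6} (hρ : 36 ≤ ρ.1) (hρ' : gm ρ ≠ ρ) {t : K} (ht : t ≠ 0)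
    {n : T.X} (hn : n ∈ T.gt (SL (lv ρ + 1))) (L : List (Rt E6)) (m : ℤ)
    (h1 : ∀ s ∈ L, m ≤ lv s ∧ Good ρ s) (h2 : L.Pairwise (lv · < lv ·)) :
    Nat.card F ^ (L.map (wt ρ)).sum * Nat.card ↥(T.gt (SL m) ⊓ Cz (T.xs ρ t * n)) ≤
      Nat.card (T.gt (SL m)) := by
  induction L generalizing m with
  | nil => simpa using card_le_of_le inf_le_left
  | cons s L ih =>
    rw [List.forall_mem_cons] at h1
    rw [List.pairwise_cons] at h2
    rw [List.map_cons, List.sum_cons, pow_add]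
    exact mono (T.gt_mono fun r hr => And.intro hr.1 (h1.1.1.trans hr.2))
      (key (T.gt_mono fun r hr => And.intro hr.1 ((lt_add_one _).le.trans hr.2)) (step h hρ hρ' h1.1.2 ht hn)
        (ih _ (fun r hr => ⟨h2.1 r hr, (h1.2 r hr).2⟩) h2.2))

omit h in
theorem cert : ∀ ρ ∈ [R6 56, R6 42, R6 57], (36 ≤ ρ.1 ∧ gm ρ ≠ ρ ∧
    ∀ r, lv r = lv ρ → r = ρ ∨ r = gm ρ) ∧ ∃ L ∈ [[43, 44, 45, 50, 51, 52, 53, 54, 55].map R6,
    [39, 40, 41, 47, 48, 49, 64, 65, 66].map R6, [39, 40, 41, 47, 48, 49, 53, 54, 55].map R6],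
    (∀ s ∈ L, 1 ≤ lv s ∧ Good ρ s) ∧ L.Pairwise (lv · < lv ·) ∧ (L.map (wt ρ)).sum = 12 := by
  decide +kernel

omit h in
theorem jobUI : JobUI := fun F K _ _ _ _ _ _ T h _ u hu hR => by
  have e1 : T.U = T.gt (SL 1) := congrArg _ (Set.ext fun r => by
    have := lv_pos r; exact ⟨fun k => ⟨k, this.1 k⟩, And.left⟩)
  have e2 : T.R = T.gt (SL 4) := congrArg _ (Set.ext (by decide +kernel))
  have k : ∀ ρ ∈ [R6 56, R6 42, R6 57], u ∈ T.gt (SL (lv ρ)) → u ∈ T.gt (SL (lv ρ + 1)) ∨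
      Nat.card F ^ 12 * Nat.card ↥(T.U ⊓ Cz u) ≤ Nat.card T.U := fun ρ hρ hu => by
    obtain ⟨⟨c1, c2, c3⟩, L, -, c4, c5, c6⟩ := cert ρ hρ
    obtain ⟨t, n, hn, rfl⟩ := dec h c1 c3 hu
    by_cases ht : t = 0
    · exact .inl (by rwa [ht, T.xs_zero, one_mul])
    · exact .inr (e1 ▸ c6 ▸ chain h c1 c2 ht hn L 1 c4 c5)
  rw [e1] at hu
  rw [e2] at hR
  exact (k (R6 56) (by simp) hu).elim (fun hu => (k (R6 42) (by simp) hu).elim
    (fun hu => (k (R6 57) (by simp) hu).resolve_left hR) id) id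

end H7.TEUI
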