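/- Tower IT (S3193): job R2, the number of centraliser orders of `PSL(2, q)`. -/
import Cfsg.Agent.H41.ItSpec
import Cfsg.Agent.S2507
import Cfsg.Agent.S2508
import Cfsg.Agent.S0252
import Cfsg.Agent.S0253
import Cfsg.Agent.H61.PSLMin
import Mathlib.LinearAlgebra.Projectivization.PSL.PSL2

set_option autoImplicit false

namespace H7.ItR2
open H41.IT Subgroup

theorem ncard_CS {G : Type*} [Group G] [Finite G] (hz : center G = ⊥) :
    (Set.range fun g : G => (centralizer ({g} : Set G)).index).ncard = (CS G).ncard + 1 := by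
  have hpos : 0 < Nat.card G := Nat.card_pos
  have hmul : ∀ g : G, c g * (C g).index = Nat.card G := fun g => (C g).card_mul_index
  have hdiv : ∀ g : G, Nat.card G / c g = (C g).index := fun g => by
    rw [← hmul g, Nat.mul_div_cancel_left _ Nat.card_pos]
  have e : (Set.range fun g : G => (centralizer ({g} : Set G)).index) =
      insert 1 ((fun m => Nat.card G / m) '' CS G) := by
    ext n
    constructor
    · rintro ⟨g, rfl⟩
      by_cases h : g = 1
      · left
        subst h
        have : centralizer ({1} : Set G) = ⊤ := by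
          ext a; simp [mem_centralizer_iff]
        simp [this]
      · right
        exact ⟨c g, ⟨g, h, rfl⟩, hdiv g⟩
    · rintro (rfl | ⟨m, ⟨g, -, rfl⟩, rfl⟩)
      · refine ⟨1, ?_⟩
        have : centralizer ({1} : Set G) = ⊤ := by
          ext a; simp [mem_centralizer_iff]
        simp [this]
      · exact ⟨g, (hdiv g).symm⟩
  have hfin : (CS G).Finite := (Set.finite_range fun g : G => c g).subset (by
    rintro m ⟨g, -, rfl⟩; exact ⟨g, rfl⟩)
  have hinj : Set.InjOn (fun m => Nat.card G / m) (CS G) := by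
    rintro _ ⟨g, -, rfl⟩ _ ⟨h, -, rfl⟩ hh
    have h1 : (C g).index = (C h).index := by rw [← hdiv, ← hdiv]; exact hh
    have h2 := hmul g
    rw [h1, ← hmul h] at h2
    exact Nat.eq_of_mul_eq_mul_right (Nat.pos_of_ne_zero index_ne_zero_of_finite) h2
  have hn : (1 : ℕ) ∉ (fun m => Nat.card G / m) '' CS G := by
    rintro ⟨_, ⟨g, hg, rfl⟩, h⟩
    have h1 : (C g).index = 1 := by rw [← hdiv]; exact h
    rw [index_eq_one] at h1
    apply hg
    rw [← mem_bot, ← hz, mem_center_iff]
    intro a
    have : a ∈ C g := h1 ▸ mem_top a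
    exact (mem_centralizer_iff.1 this g rfl).symm
  rw [e, Set.ncard_insert_of_notMem hn (hfin.image _), Set.ncard_image_of_injOn hinj]

theorem c_equiv {G H : Type*} [Group G] [Group H] (e : G ≃* H) (g : G) : c (e g) = c g := by
  refine (Nat.card_congr (e.toEquiv.subtypeEquiv fun a => ?_)).symm
  simp only [mem_centralizer_iff, Set.mem_singleton_iff, forall_eq, MulEquiv.toEquiv_eq_coe,
    EquivLike.coe_coe, ← map_mul]
  exact e.injective.eq_iff.symm

theorem CS_equiv {G H : Type*} [Group G] [Group H] (e : G ≃* H) : CS G = CS H := by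
  ext m
  constructor
  · rintro ⟨g, h, rfl⟩
    exact ⟨e g, by simpa using h, (c_equiv e g).symm⟩
  · rintro ⟨g, h, rfl⟩
    exact ⟨e.symm g, by simpa using h, (c_equiv e.symm g).symm⟩

theorem center_bot (F : Type) [Field F] [Fintype F] (h : 3 < Fintype.card F) :
    center (Matrix.ProjectiveSpecialLinearGroup (Fin 2) F) = ⊥ := by
  have h4 : 4 ≤ Nat.card F := by rw [Nat.card_eq_fintype_card]; omega
  have := Matrix.ProjectiveSpecialLinearGroup.rank_two_simple h4
  exact (Normal.eq_bot_or_eq_top inferInstance).resolve_right fun ht =>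
    H61.psl_upper_lower_ne (F := F) (mem_center_iff.1 (ht ▸ mem_top _) _)

theorem even_case (F : Type) [Field F] [Fintype F] (h : 3 < Fintype.card F)
    (h2 : 2 ∣ Fintype.card F) :
    (CS (Matrix.ProjectiveSpecialLinearGroup (Fin 2) F)).ncard = 3 := by
  have h1 := ncard_CS (center_bot F h)
  rw [Cfsg.Agent.S2507.result h2 (by omega)] at h1
  obtain ⟨r, hr⟩ : ∃ r, Fintype.card F = r + 4 := ⟨Fintype.card F - 4, by omega⟩
  rw [hr] at h1
  have e1 : (r + 4) * (r + 4 - 1) = r * r + 7 * r + 12 := by
    have : r + 4 - 1 = r + 3 := by omega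
    rw [this]; ring
  have e2 : (r + 4) ^ 2 - 1 = r * r + 8 * r + 15 := by
    have : (r + 4) ^ 2 = r * r + 8 * r + 15 + 1 := by ring
    rw [this]; omega
  have e3 : (r + 4) * (r + 4 + 1) = r * r + 9 * r + 20 := by ring
  rw [e1, e2, e3] at h1
  generalize r * r = s at h1
  rw [Set.ncard_insert_of_notMem (by simp), Set.ncard_insert_of_notMem (by simp; omega),
    Set.ncard_pair (by omega)] at h1
  omega

theorem odd_case (F : Type) [Field F] [Fintype F] (h : 7 ≤ Fintype.card F)
    (h2 : ¬ 2 ∣ Fintype.card F) :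
    (CS (Matrix.ProjectiveSpecialLinearGroup (Fin 2) F)).ncard = 4 := by
  have h1 := ncard_CS (center_bot F (by omega))
  obtain ⟨r, hr⟩ : ∃ r, Fintype.card F = 2 * r + 7 := ⟨(Fintype.card F - 7) / 2, by omega⟩
  have e1 : ((2 * r + 7) ^ 2 - 1) / 2 = 2 * (r * r) + 14 * r + 24 := by
    have : (2 * r + 7) ^ 2 = 2 * (2 * (r * r) + 14 * r + 24) + 1 := by ring
    rw [this]; omega
  have e2 : (2 * r + 7) * (2 * r + 7 + 1) = 4 * (r * r) + 30 * r + 56 := by ring
  have e3 : (2 * r + 7) * (2 * r + 7 - 1) = 4 * (r * r) + 26 * r + 42 := by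
    have : 2 * r + 7 - 1 = 2 * r + 6 := by omega
    rw [this]; ring
  obtain ⟨a1, a3⟩ := Cfsg.Agent.S2508.result h2 h
  rcases (by omega : Fintype.card F % 4 = 1 ∨ Fintype.card F % 4 = 3) with h4 | h4
  · rw [a1 h4, hr, e1, e2, e3] at h1
    generalize r * r = s at h1
    rw [Set.ncard_insert_of_notMem (by simp; omega), Set.ncard_insert_of_notMem (by simp; omega),
      Set.ncard_insert_of_notMem (by simp; omega), Set.ncard_pair (by omega)] at h1
    omega
  · rw [a3 h4, hr, e1, e2, e3] at h1
    generalize r * r = s at h1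
    rw [Set.ncard_insert_of_notMem (by simp; omega), Set.ncard_insert_of_notMem (by simp; omega),
      Set.ncard_insert_of_notMem (by simp; omega), Set.ncard_pair (by omega)] at h1
    omega

theorem jobR2 : JobR2 := by
  intro F _ _ h
  split_ifs with h1
  · exact odd_case F h1.2 (Nat.two_dvd_ne_zero.2 (Nat.odd_iff.1 h1.1))
  · by_cases h2 : 2 ∣ Fintype.card F
    · exact even_case F h h2
    · have h5 : Fintype.card F = 5 := by
        rw [Nat.odd_iff] at h1
        omega
      letI : Fintype (GaloisField 2 2) := Fintype.ofFinite _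
      have h4 : Fintype.card (GaloisField 2 2) = 4 := by
        rw [← Nat.card_eq_fintype_card, GaloisField.card 2 2 two_ne_zero]; norm_num
      obtain ⟨e1⟩ := Cfsg.Agent.S0253.result h5
      obtain ⟨e2⟩ := Cfsg.Agent.S0252.result h4
      rw [CS_equiv (e1.trans e2.symm)]
      exact even_case _ (by omega) (by rw [h4]; norm_num)

end H7.ItR2
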