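import Cfsg.Agent.H63.OcSpec
import Cfsg.Agent.H82.HoltFinal
import Cfsg.Agent.H52.WTor

/-! PAR-I: the conjugates of `τ` in `C` are central (by Holt's theorem). -/

set_option autoImplicit false

namespace H7.Par

open Cfsg Subgroup MulAction H98 H29.Holt

universe u

/-- The hypotheses on `C`. -/
structure Pk {G : Type*} [Group G] (C : Subgroup G) (τ v y : G) : Prop where
  t1 : τ ≠ 1
  t2 : τ * τ = 1
  cen : ∀ c ∈ C, c * τ = τ * c
  el : ∀ z ∈ C, (∀ c ∈ C, c * z = z * c) → z * z = 1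
  yC : y ∈ C
  ysq : y * y = τ
  vC : v ∈ C
  v2 : v * v = 1
  vn : ∃ c ∈ C, c * v ≠ v * c
  nrm : ∀ N : Subgroup G, N ≤ C → C ≤ normalizer (N : Set G) →
    (∃ n ∈ N, ∃ c ∈ C, c * n ≠ n * c) → v ∈ N ∧ τ ∈ ⁅N, C⁆

section Pk

variable {G : Type*} [Group G] {C : Subgroup G} {τ v y : G}

theorem Pk.tC (h : Pk C τ v y) : τ ∈ C := h.ysq ▸ mul_mem h.yC h.yC

theorem Pk.conj_cen (h : Pk C τ v y) {g : G} (hg : g ∈ normalizer (C : Set G)) :
    ∀ c ∈ C, c * (g * τ * g⁻¹) = g * τ * g⁻¹ * c := fun c hc => by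
  have := h.cen _ ((mem_normalizer_iff''.1 hg c).1 hc)
  calc c * (g * τ * g⁻¹) = g * (g⁻¹ * c * g * τ) * g⁻¹ := by group
    _ = _ := by rw [this]; group

/-- An element of `R ∩ N(C)` fixes `τ` unless `τ, v ∈ R`. -/
theorem Pk.key (h : Pk C τ v y) {R : Subgroup G} (hR : C ≤ normalizer (R : Set G)) {g : G}
    (hg : g ∈ R) (hn : g ∈ normalizer (C : Set G)) (h1 : ¬ (τ ∈ R ∧ v ∈ R)) :
    g * τ * g⁻¹ = τ := by
  have hN : C ≤ normalizer ((R ⊓ C : Subgroup G) : Set G) := fun c hc =>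
    mem_normalizer_iff.2 fun x => and_congr (mem_normalizer_iff.1 (hR hc) x)
      (mem_normalizer_iff.1 (le_normalizer hc) x)
  have hc : ∀ n ∈ R ⊓ C, ∀ c ∈ C, c * n = n * c := by
    by_contra hc
    push Not at hc
    obtain ⟨h2, h3⟩ := h.nrm _ inf_le_right hN hc
    refine h1 ⟨?_, h2.1⟩
    refine (commutator_le.2 fun a ha c hc => ?_ : ⁅R ⊓ C, C⁆ ≤ R) h3
    rw [commutatorElement_def, mul_assoc, mul_assoc, ← mul_assoc c]
    exact R.mul_mem ha.1 ((mem_normalizer_iff.1 (hR hc) _).1 (R.inv_mem ha.1))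
  have hs : y⁻¹ * (g * y * g⁻¹) ∈ R ⊓ C := by
    refine mem_inf.2 ⟨?_, mul_mem (inv_mem h.yC) ((mem_normalizer_iff.1 hn y).1 h.yC)⟩
    rw [← mul_assoc, ← mul_assoc]
    exact mul_mem ((mem_normalizer_iff''.1 (hR h.yC) g).1 hg) (inv_mem hg)
  have e1 := h.el _ hs.2 (hc _ hs)
  have e2 := hc _ hs y h.yC
  generalize hsd : y⁻¹ * (g * y * g⁻¹) = s at e1 e2
  have e3 : g * y * g⁻¹ = y * s := by rw [← hsd]; group
  calc g * τ * g⁻¹ = g * y * g⁻¹ * (g * y * g⁻¹) := by rw [← h.ysq]; group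
    _ = y * (s * y) * s := by rw [e3]; group
    _ = τ := by rw [← e2, ← h.ysq, mul_assoc, mul_assoc, e1, mul_one]

theorem Pk.cen_lift (h : Pk C τ v y) {G' : Type*} [Group G'] (ρ : G →* G') (h1 : ρ τ ≠ 1) {z : G}
    (hz : z ∈ C) (hc : ∀ c ∈ C, ρ c * ρ z = ρ z * ρ c) : ∀ c ∈ C, c * z = z * c := by
  by_contra hn
  push Not at hn
  let N : Subgroup G := C ⊓ (centralizer (C.map ρ : Set G')).comap ρ
  have hm : ∀ x, x ∈ N ↔ x ∈ C ∧ ∀ c ∈ C, ρ c * ρ x = ρ x * ρ c := fun x =>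
    and_congr_right fun _ => ⟨fun k c hc => k _ ⟨c, hc, rfl⟩, fun k => by
      rintro _ ⟨c, hc, rfl⟩; exact k c hc⟩
  have key : ∀ c ∈ C, ∀ x ∈ N, c * x * c⁻¹ ∈ N := fun c hc x hx => by
    obtain ⟨h2, h3⟩ := (hm x).1 hx
    refine (hm _).2 ⟨mul_mem (mul_mem hc h2) (inv_mem hc), fun d hd => ?_⟩
    rw [map_mul, map_mul, h3 c hc, map_inv, mul_inv_cancel_right, h3 d hd]
  obtain ⟨-, h3⟩ := h.nrm N inf_le_left (fun c hc => mem_normalizer_iff.2 fun x =>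
    ⟨key c hc x, fun k => by simpa [mul_assoc] using key _ (inv_mem hc) _ k⟩)
    ⟨z, (hm z).2 ⟨hz, hc⟩, hn⟩
  refine h1 ((commutator_le.2 fun a ha c hc => ?_ : ⁅N, C⁆ ≤ ρ.ker) h3)
  rw [MonoidHom.mem_ker, map_commutatorElement, commutatorElement_eq_one_iff_mul_comm,
    ((hm a).1 ha).2 c hc]

theorem Pk.map (h : Pk C τ v y) {G' : Type*} [Group G'] (ρ : G →* G') (h1 : ρ τ ≠ 1) :
    Pk (C.map ρ) (ρ τ) (ρ v) (ρ y) where
  t1 := h1
  t2 := by rw [← map_mul, h.t2, map_one]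
  cen := by rintro _ ⟨c, hc, rfl⟩; rw [← map_mul, h.cen c hc, map_mul]
  el := by
    rintro _ ⟨z, hz, rfl⟩ hc
    rw [← map_mul, h.el z hz (h.cen_lift ρ h1 hz fun c k => hc _ ⟨c, k, rfl⟩), map_one]
  yC := ⟨y, h.yC, rfl⟩
  ysq := by rw [← map_mul, h.ysq]
  vC := ⟨v, h.vC, rfl⟩
  v2 := by rw [← map_mul, h.v2, map_one]
  vn := by
    by_contra hn
    push Not at hn
    obtain ⟨c, hc, e⟩ := h.vn
    exact e (h.cen_lift ρ h1 h.vC (fun c k => hn _ ⟨c, k, rfl⟩) c hc)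
  nrm := by
    rintro N hN hn ⟨n, hnN, _, ⟨c, hc, rfl⟩, e⟩
    obtain ⟨m, hm, rfl⟩ := hN hnN
    obtain ⟨h2, h3⟩ := h.nrm (C ⊓ N.comap ρ) inf_le_left (fun c hc => mem_normalizer_iff.2 fun x =>
      and_congr (mem_normalizer_iff.1 (le_normalizer hc) x) (by
        change ρ x ∈ N ↔ ρ _ ∈ N
        rw [map_mul, map_mul, map_inv]
        exact mem_normalizer_iff.1 (hn ⟨c, hc, rfl⟩) _))
      ⟨m, ⟨hm, hnN⟩, c, hc, fun k => e (by rw [← map_mul, k, map_mul])⟩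
    have h4 := mem_map_of_mem ρ h3
    rw [map_commutator] at h4
    exact ⟨h2.2, commutator_mono (map_le_iff_le_comap.2 inf_le_right) le_rfl h4⟩

end Pk

section Core

variable {X Ω : Type u} [Group X] [Finite X] [MulAction X Ω] [IsPretransitive X Ω]
  [FaithfulSMul X Ω] {C L : Subgroup X} {τ v y : X} {a : Ω}

theorem exists_conj (H : Cx X Ω τ) (hL : IsComponent L) :
    ∃ m ∈ L, Commute τ (m * τ * m⁻¹) ∧ m * τ * m⁻¹ ≠ τ := by
  by_contra hn
  push Not at hn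
  have := H.simple hL
  have hτ := H.hz.mem_nor H.core hL
  have hK : H14.opp 2 (normalizer (L : Set X)) ⊓ L = ⊥ :=
    simple_eq_bot (le_normalizer.trans (H14.self_le_normalizer_opp _)) fun e =>
      Nat.not_even_iff_odd.2 ((Nat.coprime_two_right.1 (H14.coprime_card_opp _)).of_dvd_nat
        (card_dvd_of_le e)) (comp_even hL)
  refine H.hz.not_mem_cent H.core hL fun r hr => ?_
  obtain ⟨o, ho, k, hk, e⟩ := le_cent_sup (X := normalizer (L : Set X)) (z := ⟨τ, hτ⟩)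
    (by rw [← orderOf_coe]; exact H.hz.order) (R := L.subgroupOf _)
    (fun r hr hc => Subtype.ext (hn r hr (congrArg Subtype.val hc))) (r := ⟨r, le_normalizer hr⟩) hr
  have ho' : (o : X) ∈ H14.opp 2 (normalizer (L : Set X)) := by
    rw [← mem_subgroupOf, H14.opp_subgroupOf]; exact ho
  have e1 : r = o * k := congrArg Subtype.val e
  have e2 : (k : X) * τ = τ * k := congrArg Subtype.val hk
  have e3 : τ⁻¹ * r * τ * r⁻¹ = τ⁻¹ * o * τ * (o : X)⁻¹ := by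
    rw [e1, mul_assoc τ⁻¹, mul_assoc (o : X), e2]; group
  have h1 : τ⁻¹ * r * τ * r⁻¹ ∈ H14.opp 2 (normalizer (L : Set X)) ⊓ L :=
    mem_inf.2 ⟨e3 ▸ mul_mem ((mem_normalizer_iff''.1 (H14.self_le_normalizer_opp _ hτ) _).1 ho')
      (inv_mem ho'), mul_mem ((mem_normalizer_iff''.1 hτ r).1 hr) (inv_mem hr)⟩
  rw [hK, mem_bot] at h1
  calc r * τ = τ * (τ⁻¹ * r * τ * r⁻¹) * r := by group
    _ = τ * r := by rw [h1, mul_one]

theorem not_alt {Y Δ : Type*} [Group Y] [MulAction Y Δ] [Finite Δ] (hA : Alt3 Y Δ)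
    (h7 : 7 ≤ Nat.card Δ) {t : Y} {a : Δ} (t2 : t * t = 1) (ha : t • a = a)
    (hu : ∀ b : Δ, t • b = b → b = a)
    (hc : ∀ l : Y, l • a = a → t * (l * t * l⁻¹) = l * t * l⁻¹ * t) : False := by
  classical
  have tt : ∀ b : Δ, t • t • b = b := fun b => by rw [← mul_smul, t2, one_smul]
  have sw : ∀ {b c : Δ}, t • b = c → b = t • c := fun e => by rw [← e, tt]
  obtain ⟨b, hb⟩ := exists_ne_of_card ({a} : Finset Δ) (k := 6) (by simp) h7
  obtain ⟨c, hc'⟩ := exists_ne_of_card ({a, b, t • b} : Finset Δ) (k := 6)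
    (Finset.card_le_three.trans (by omega)) h7
  obtain ⟨d, hd⟩ := exists_ne_of_card ({a, b, t • b, c, t • c} : Finset Δ) (k := 6)
    (Finset.card_le_five.trans (by omega)) h7
  simp only [Finset.mem_insert, Finset.mem_singleton, not_or] at hb hc' hd
  obtain ⟨l, l1, l2, l3, l4⟩ := hA b c d (Ne.symm hc'.2.1) (Ne.symm hd.2.1) (Ne.symm hd.2.2.2.1)
  have e1 := congrArg (· • b) (hc l (l4 a (Ne.symm hb) (Ne.symm hc'.1) (Ne.symm hd.1)))
  have e2 : l • t • d = t • d :=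
    l4 _ (fun e => hd.2.2.1 (sw e)) (fun e => hd.2.2.2.2 (sw e)) fun e => hd.1 (hu d e)
  have e3 : l⁻¹ • t • b = t • b := inv_smul_eq_iff.2
    (l4 _ (fun e => hb (hu b e)) (Ne.symm hc'.2.2) (Ne.symm hd.2.2.1)).symm
  have e4 : l⁻¹ • b = d := inv_smul_eq_iff.2 l3.symm
  simp only [mul_smul, e4, e2, e3, tt, l1] at e1
  exact hd.2.2.2.1 e1

theorem core (H : Cx X Ω τ) (h : Pk C τ v y) (h1 : C ≤ stabilizer X a)
    (h2 : stabilizer X a ≤ normalizer (C : Set X)) : False := by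
  have Z := H.hz
  have ta : τ • a = a := h1 h.tC
  obtain ⟨L, hL⟩ : ∃ L : Subgroup X, IsComponent L := by
    by_contra hn
    exact Z.ne_one (Z.eq_one_of_cent H.core fun M hM => absurd ⟨M, hM⟩ hn)
  have := H.simple hL
  obtain ⟨m, hm, m1, m2⟩ := exists_conj H hL
  have ma : m • a = a := (Z.conj m).eq_of_fix (conj_smul_smul ta m) (Z.fix_of_comm ta m1.symm)
  have hτ := Z.mem_nor H.core hL
  have hw : τ⁻¹ * (m * τ * m⁻¹) ∈ L := by
    rw [← mul_assoc, ← mul_assoc]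
    exact mul_mem ((mem_normalizer_iff''.1 hτ m).1 hm) (inv_mem hm)
  have hCL : C ≤ normalizer (L : Set X) := fun c hc => by
    rcases H14.comp_eq_or_commute (H14.comp_map_conj hL c) hL with e | e
    · exact cj_eq_self_iff.1 e
    · exfalso
      have k1 : τ⁻¹ * (m * τ * m⁻¹) ∈ cj c L := ⟨_, hw, by
        change c * _ * c⁻¹ = _
        rw [← mul_assoc c, show c * τ⁻¹ = τ⁻¹ * c from (Commute.inv_right (h.cen c hc)), mul_assoc _ c,
          h.conj_cen (h2 ma) c hc]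
        group⟩
      have k2 := (Z.comp_cent H.core hL).le ⟨hw, commutator_eq_bot_iff_le_centralizer.1 e k1⟩
      exact m2 (inv_mul_eq_one.1 (mem_bot.1 k2)).symm
  obtain ⟨τL, vL⟩ : τ ∈ L ∧ v ∈ L := by_contra fun hn => m2 (h.key hCL hm (h2 ma) hn)
  obtain ⟨c, hc, hv⟩ := h.vn
  rcases H.dich7 hL with hB | hA
  · obtain ⟨g, -, ga, e⟩ := (hB a).conj (H.not_le hL a) τL vL h.t1 h.t2
      (fun e => hv (by rw [e, mul_one, one_mul])) h.v2 ta (h1 h.vC)
    exact hv (e ▸ h.conj_cen (h2 ga) c hc)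
  · have : Finite (orbit L a) := Finite.finite_mulAction_orbit a
    exact not_alt (hA a).1.alt3 (hA a).2 (t := ⟨τ, τL⟩) (a := ⟨a, mem_orbit_self a⟩)
      (Subtype.ext h.t2) (Subtype.ext ta)
      (fun b e => Subtype.ext (Z.eq_of_fix (congrArg Subtype.val e) ta))
      fun l e => Subtype.ext (h.conj_cen (h2 (congrArg Subtype.val e)) τ h.tC)

end Core

theorem jobI : H63.Oc.JobI.{u} := by
  intro G _ _ C τ v y t1 t2 hcen hnor hodd _ hgen hel yC ysq vC v2 vn hN hz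
  have h : Pk C τ v y := ⟨t1, t2, hcen, hel, yC, ysq, vC, v2, vn, hN⟩
  have two : ∀ x ∈ normalizer (C : Set G), ∀ k : ℕ, x ^ 2 ^ k = 1 → x ∈ C := fun x hx k e =>
    H52.WB.le_of_not_dvd_relIndex Nat.prime_two le_rfl (fun d => Nat.not_even_iff_odd.2 hodd
      (even_iff_two_dvd.2 (d.trans (relIndex_dvd_index_of_le le_normalizer)))) le_normalizer
      (isPGroup_zpowers e) (zpowers_le.2 hx) (mem_zpowers x)
  have sq : ∀ g : G, (g * τ * g⁻¹) ^ 2 ^ 1 = 1 := fun g => by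
    rw [pow_one, conj_pow, pow_two, t2, mul_one, mul_inv_cancel]
  have nz : ∀ g : G, g * τ * g⁻¹ ∈ C → g ∈ normalizer (C : Set G) := fun g hg => by
    refine (inv_mem_iff).1 (mem_normalizer_fintype fun c hc => ?_)
    have : C ≤ cj g C := hgen.le.trans ((closure_le _).2 fun x ⟨hx, k, hk⟩ => mem_cj.2 (two _
      (hnor _ (by
        calc g⁻¹ * x * g * τ = g⁻¹ * (x * (g * τ * g⁻¹)) * g := by group
          _ = _ := by rw [hz g hg x hx]; group)) k (by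
        rw [show g⁻¹ * x * g = g⁻¹ * x * g⁻¹⁻¹ by rw [inv_inv], conj_pow, hk, mul_one,
          mul_inv_cancel])))
    simpa using mem_cj.1 (this hc)
  obtain ⟨S, hS, hτS⟩ := exists_isSyl_le (isPGroup_zpowers (x := τ) (k := 1) (p := 2)
    (by rw [pow_one, pow_two, t2])) (zpowers_le.2 h.tC)
  have hS' : IsSyl 2 S ⊤ := isSyl_of_not_dvd_relIndex le_top hS.isPGroup (by
    rw [relIndex_top_right, ← relIndex_mul_index hS.le]
    exact fun d => (Nat.prime_two.dvd_mul.1 d).elim hS.not_dvd_relIndex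
      fun d => Nat.not_even_iff_odd.2 hodd (even_iff_two_dvd.2 d))
  set M := oddCore G ⊔ normalizer (C : Set G) with hM
  have hCM : C ≤ M := le_normalizer.trans le_sup_right
  have fus : ∀ g : G, g * τ * g⁻¹ ∈ M → g ∈ M := fun g hg => by
    obtain ⟨k, hk, e⟩ := (hS'.of_le (hS.le.trans hCM) le_top).exists_le_cj (isPGroup_zpowers (sq g))
      (zpowers_le.2 hg)
    have h1 : k⁻¹ * g ∈ normalizer (C : Set G) := nz _ (by
      simpa [mul_assoc] using hS.le (mem_cj.1 (e (mem_zpowers _))))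
    simpa using mul_mem hk (mem_sup_right h1 : k⁻¹ * g ∈ M)
  by_contra hne
  have := nontrivial_quot hne
  have Z : HZ (G ⧸ M) τ := ⟨t1, t2, ⟨S, hS', hτS (mem_zpowers τ), fun x hx => hcen x (hS.le hx)⟩,
    fix_quot (hCM h.tC) fus⟩
  have Z' := Z.img
  have hst : ∀ g : G, img G (G ⧸ M) g ∈ stabilizer (Img G (G ⧸ M)) ((1 : G) : G ⧸ M) ↔ g ∈ M :=
    fun g => SetLike.ext_iff.1 (stabilizer_quotient M) g
  have hO : oddCore (Img G (G ⧸ M)) = ⊥ := by
    refine eq_bot_of_normal (a := ((1 : G) : G ⧸ M)) fun x hx => ?_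
    obtain ⟨r, rfl⟩ := img_surj x
    have hτ : τ ∉ Ost G (G ⧸ M) := fun e => Z'.ne_one (H24.eq_one_of_odd_of_sq
      (H52.WB.odd_of_mem (H2.odd_card_oddCore _) e) Z'.sq)
    obtain ⟨o, ho, k, hk, rfl⟩ := le_cent_sup Z.order (R := Ost G (G ⧸ M)) (fun r hr hc =>
      h.key le_normalizer_of_normal hr (nz r (two _ (hnor _ hc.symm) 1 (sq r))) fun e => hτ e.1) hx
    exact (hst _).2 (mul_mem (mem_sup_left ho) (mem_sup_right (hnor k hk)))
  refine core (a := ((1 : G) : G ⧸ M)) ⟨Z', hO, ih_of (H82.HT.holtThm _)⟩ (h.map _ Z'.ne_one)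
    (map_le_iff_le_comap.2 fun c hc => (hst c).2 (hCM hc)) fun x hx => ?_
  obtain ⟨g, rfl⟩ := img_surj x
  refine (sup_le (fun o ho => ?_) (fun n hn => map_mem_nor _ hn) :
    M ≤ (normalizer ((C.map (img G (G ⧸ M)) : Subgroup _) : Set _)).comap (img G (G ⧸ M)))
    ((hst g).1 hx)
  have : img G (G ⧸ M) o = 1 := hO.le (oddCore_le_Ost ho)
  rw [mem_comap, this]
  exact one_mem _

end H7.Par
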