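import Cfsg.Agent.H7.HKSSpec2

/-! Interface of the HKS tower, part 3: chapter III (see `blueprints/HKS2.md`). -/

set_option autoImplicit false

namespace H7.HKS

open MulAction Cfsg Subgroup H89.K H65

universe u

section Defs

variable {G Ω : Type*} [Group G] [MulAction G Ω]

/-- `t` is an involution fixing `a` and `b`. -/
def Iv (t : G) (a b : Ω) : Prop := t ∈ St G a b ∧ orderOf t = 2

/-- `t`, `v` generate a four-group fixing `a` and `b`. -/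
def Fr (t v : G) (a b : Ω) : Prop := Iv t a b ∧ Iv v a b ∧ t ≠ v ∧ t * v = v * t

/-- Every involution fixing two points fixes a third one. -/
structure C3 (U : Ω → Subgroup G) : Prop extends Core U where
  fx3 : ∀ {a b : Ω} {t : G}, a ≠ b → Iv t a b → CU U {t} a ≠ ⊥

/-- Involutions have type A or L. -/
def AL (U : Ω → Subgroup G) : Prop :=
  ∀ (a b : Ω) (t : G), a ≠ b → Iv t a b → TA U {t} a ∨ TL U {t} a b

/-- Two-point stabilisers contain no elementary abelian group of order eight. -/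
def NoE8 (G Ω : Type*) [Group G] [MulAction G Ω] : Prop :=
  ∀ (a b : Ω) (t v w : G), a ≠ b → Fr t v a b → w ∈ St G a b → w * w = 1 → w * t = t * w →
    w * v = v * w → w = 1 ∨ w = t ∨ w = v ∨ w = t * v

/-- Four-groups fix at most two points. -/
def M0 (U : Ω → Subgroup G) : Prop :=
  ∀ (a b : Ω) (t v : G), a ≠ b → Fr t v a b → CU U {t, v} a = ⊥

/-- Two-point stabilisers have `2`-rank at most one. -/
def R1 (G Ω : Type*) [Group G] [MulAction G Ω] : Prop :=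
  ∀ (a b : Ω) (t v : G), a ≠ b → ¬ Fr t v a b

/-- `t` is the central involution of `L_t ≅ SL₂(q)`. -/
def SLt (U : Ω → Subgroup G) (t : G) : Prop := t ∈ LX U {t}

/-- The kernel of `C(z)` on the fixed points of `z` contains a quaternion group. -/
def HasQ (Ω : Type*) [MulAction G Ω] (z : G) : Prop :=
  ∃ k ∈ Kh Ω {z}, ∃ k' ∈ Kh Ω {z}, k * k = z ∧ k' * k' = z ∧ k' * k * k'⁻¹ = k⁻¹

/-- No field automorphisms of `2`-power order. -/
def NF (U : Ω → Subgroup G) (z : G) (a b : Ω) : Prop :=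
  ∀ g ∈ St G a b, g * z = z * g → Two g → ∀ l ∈ LX U {z} ⊓ St G a b, g * l = l * g

/-- The kernel of `C(z)` on the fixed points of `z` is `Q₈` or `SL₂(3)`. -/
def Q8n (Ω : Type*) [MulAction G Ω] (z : G) : Prop :=
  HasQ Ω z ∧ (∀ k ∈ Kh Ω {z}, ∀ k' ∈ Kh Ω {z}, k * k = z → k' * k' = z →
    k' = k ∨ k' = k⁻¹ ∨ k' * k * k'⁻¹ = k⁻¹) ∧ ∀ g ∈ Kh Ω {z}, g ^ 4 = 1 ∨ g ^ 6 = 1

/-- The four-group case. -/
structure C4 (U : Ω → Subgroup G) : Prop extends C3 U where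
  noE8 : NoE8 G Ω
  m0 : M0 U
  ex : ∀ {a b : Ω} {t : G}, a ≠ b → Iv t a b → ∃ v, Fr t v a b
  tl : ∀ {a b : Ω} {t : G}, a ≠ b → Iv t a b →
    TL U {t} a b ∧ Nat.card (CU U {t} a) % 4 = Nat.card (U a) % 4
  /-- no field involutions, `t` is the only involution fixing all fixed points of `t` -/
  nof : ∀ {a b : Ω} {t : G}, a ≠ b → Iv t a b → ∀ v : G, v * v = 1 → v * t = t * v →
    3 ≤ (Fx Ω {v, t}).ncard → v = 1 ∨ v = t
  neg : ∀ {a b : Ω} {t v : G}, a ≠ b → Fr t v a b → ∀ u ∈ CU U {t} a, v * u * v = u⁻¹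
  prod : ∀ {a b : Ω} {t v : G}, a ≠ b → Fr t v a b → Nat.card (U a) =
    Nat.card (CU U {t} a) * Nat.card (CU U {v} a) * Nat.card (CU U {t * v} a)
  sl : ∀ {a b : Ω} {t : G}, a ≠ b → Iv t a b → ∀ {F : Type} [Field F] [Fintype F] {x y : F → G},
    LD x y (CU U {t} a) (CU U {t} b) a b →
      (SLt U t ∧ sl2h x y (-1) = t) ∨ (¬ SLt U t ∧ sl2h x y (-1) = 1)
  slJ : ∀ (g t : G), SLt U t → SLt U (g * t * g⁻¹)
  /-- involutions of type SL are `2`-central and conjugate -/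
  slc : ∀ {a b : Ω} {t : G}, a ≠ b → Iv t a b → SLt U t → Odd (centralizer ({t} : Set G)).index ∧
    (∀ v, Iv v a b → SLt U v → IsConj t v) ∧
    ∀ v, Fr t v a b → ∃ g ∈ LX U {t}, g * v * g⁻¹ = t * v
  /-- the incidence lemma -/
  inc : ∀ {a b : Ω} {t v w : G}, a ≠ b → Fr t v a b → w * w = 1 → Sw w a b → w * t = t * w →
    w * v = v * w → ((Inn U {t} w ↔ Inn U {v} w) ↔ Inn U {t * v} w)
  m1 : ∀ {a b : Ω} {t v : G}, a ≠ b → Fr t v a b → Nat.card (U a) % 4 = 3 → ∀ g ∈ St G a b, Two g →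
    g * t = t * g → g * v = v * g → g = 1 ∨ g = t ∨ g = v ∨ g = t * v

/-- A four-group of involutions of type SL. -/
structure AS (U : Ω → Subgroup G) (a b : Ω) (z v : G) : Prop where
  sl3 : SLt U (z * v)
  cz : Nat.card (CU U {v} a) = Nat.card (CU U {z} a)
  czv : Nat.card (CU U {z * v} a) = Nat.card (CU U {z} a)
  ab : ∀ u ∈ U a, ∀ u' ∈ U a, u * u' = u' * u
  semiK : ∀ k ∈ Kh Ω {z}, ∀ u ∈ U a, z * u * z = u⁻¹ → k * u = u * k → k = 1 ∨ u = 1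
  semiT : ∀ l ∈ LX U {z} ⊓ St G a b, ∀ u ∈ U a, z * u * z = u⁻¹ → l * u = u * l → l = 1 ∨ u = 1
  cW : ∀ g ∈ St G a b, (∀ u ∈ U a, z * u * z = u⁻¹ → g * u = u * g) → g = 1
  cv : ∀ l ∈ LX U {z} ⊓ St G a b, l * v = v * l
  tr : ∀ u ∈ CU U {v} a, ∀ u' ∈ CU U {v} a, u ≠ 1 → u' ≠ 1 →
    ∃ l ∈ LX U {z} ⊓ St G a b, l * u * l⁻¹ = u'
  comm : ∀ l ∈ LX U {z} ⊓ St G a b, ∀ l' ∈ LX U {v} ⊓ St G a b, l * l' = l' * l

end Defs

/-! ### III.1 and the four-groups -/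

def JobT1 : Prop := ∀ (G Ω : Type u) [Group G] [Finite G] [MulAction G Ω] (U : Ω → Subgroup G),
  C3 U → AL U

def JobM0a : Prop := ∀ (G Ω : Type u) [Group G] [Finite G] [MulAction G Ω] (U : Ω → Subgroup G),
  C3 U → AL U → NoE8 G Ω

def JobM0b : Prop := ∀ (G Ω : Type u) [Group G] [Finite G] [MulAction G Ω] (U : Ω → Subgroup G),
  C3 U → AL U → NoE8 G Ω → M0 U

/-! ### III-1: `2`-rank one -/

def JobA1 : Prop := ∀ (G Ω : Type u) [Group G] [Finite G] [MulAction G Ω] (U : Ω → Subgroup G)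
  (a b : Ω) (t : G) (E : Subgroup G), C3 U → R1 G Ω → a ≠ b → Iv t a b → AD U {t} a E →
  Nat.card (U a) = 27 ∧ Nat.card (CU U {t} a) = 3 ∧ H89.K.One G ∧ Odd (E ⊔ zpowers t).index ∧
    (∀ w : G, w * w = 1 → w * t = t * w → w ∈ E ⊔ zpowers t) ∧
    ∀ g ∈ St G a b, g * t = t * g → ∀ e ∈ E, g * e = e * g

def JobA2 : Prop := ∀ (G Ω : Type u) [Group G] [Finite G] [MulAction G Ω] (U : Ω → Subgroup G)
  (a b : Ω) (t : G) (E : Subgroup G), C3 U → R1 G Ω → a ≠ b → Iv t a b → AD U {t} a E →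
  Nat.card (U a) = 27 → Nat.card (CU U {t} a) = 3 → H89.K.One G → Odd (E ⊔ zpowers t).index →
  (∀ w : G, w * w = 1 → w * t = t * w → w ∈ E ⊔ zpowers t) →
  (∀ g ∈ St G a b, g * t = t * g → ∀ e ∈ E, g * e = e * g) → Out U a b

def JobSLr : Prop := ∀ (G Ω : Type u) [Group G] [Finite G] [MulAction G Ω] (U : Ω → Subgroup G)
  (a b : Ω) (t : G), C3 U → R1 G Ω → a ≠ b → Iv t a b → TL U {t} a b → SLt U t → PRankLE 2 2 G

def JobSLi : Prop := ∀ (G Ω : Type u) [Group G] [Finite G] [MulAction G Ω] (U : Ω → Subgroup G)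
  (a b : Ω) (t : G), C3 U → R1 G Ω → a ≠ b → Iv t a b → TL U {t} a b → SLt U t → PRankLE 2 2 G →
  Out U a b

/-- Type `PSL₂(q)`, `q ≡ 3 (mod 4)`: no element of order four in the kernel. -/
def JobPS1 : Prop := ∀ (G Ω : Type u) [Group G] [Finite G] [MulAction G Ω] (U : Ω → Subgroup G)
  (a b : Ω) (t y : G), Rg U → a ≠ b → Iv t a b → TL U {t} a b → Nat.card (CU U {t} a) % 4 = 3 →
  ¬ SLt U t → (∀ v ∈ Kh Ω {t}, v * v = 1 → v = 1 ∨ v = t) → IsConj t y → y * t = t * y →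
  Fx Ω {y, t} = ∅ → ∀ k ∈ Kh Ω {t}, k * k ≠ t

def JobPSa : Prop := ∀ (G Ω : Type u) [Group G] [Finite G] [MulAction G Ω] (U : Ω → Subgroup G)
  (a b : Ω) (t : G), C3 U → R1 G Ω → a ≠ b → Iv t a b → TL U {t} a b →
  3 < Nat.card (CU U {t} a) → ¬ SLt U t → H89.K.One G ∧ Nat.card (CU U {t} a) % 8 = 3 ∧
    ¬ 4 ∣ Nat.card (St G a b) ∧
    ∃ S : Subgroup G, Nat.card S = 8 ∧ (∀ s ∈ S, s * s = 1) ∧ Odd S.index

def JobPSb : Prop := ∀ (G Ω : Type u) [Group G] [Finite G] [MulAction G Ω] (U : Ω → Subgroup G)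
  (a b : Ω) (t : G), C3 U → R1 G Ω → a ≠ b → Iv t a b → TL U {t} a b →
  3 < Nat.card (CU U {t} a) → ¬ SLt U t → H89.K.One G → Nat.card (CU U {t} a) % 8 = 3 →
  ¬ 4 ∣ Nat.card (St G a b) →
  (∃ S : Subgroup G, Nat.card S = 8 ∧ (∀ s ∈ S, s * s = 1) ∧ Odd S.index) →
  (∀ v, Iv v a b → v = t) ∧ Nat.card (U a) = Nat.card (CU U {t} a) ^ 3 ∧
    ∀ l ∈ LX U {t} ⊓ St G a b, ∀ u ∈ U a, l * u = u * l → l = 1 ∨ u = 1

def JobPSc : Prop := ∀ (G Ω : Type u) [Group G] [Finite G] [MulAction G Ω] (U : Ω → Subgroup G)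
  (a b : Ω) (t : G), C3 U → a ≠ b → Iv t a b → TL U {t} a b →
  3 < Nat.card (CU U {t} a) → ¬ SLt U t → H89.K.One G → Nat.card (CU U {t} a) % 8 = 3 →
  (∃ S : Subgroup G, Nat.card S = 8 ∧ (∀ s ∈ S, s * s = 1) ∧ Odd S.index) →
  (∀ v, Iv v a b → v = t) → Nat.card (U a) = Nat.card (CU U {t} a) ^ 3 →
  (∀ l ∈ LX U {t} ⊓ St G a b, ∀ u ∈ U a, l * u = u * l → l = 1 ∨ u = 1) → Out U a b

/-! ### III-2: four-groups -/

def JobF0 : Prop := ∀ (G Ω : Type u) [Group G] [Finite G] [MulAction G Ω] (U : Ω → Subgroup G),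
  C3 U → AL U → NoE8 G Ω → M0 U → ¬ R1 G Ω → C4 U

def JobAS : Prop := ∀ (G Ω : Type u) [Group G] [Finite G] [MulAction G Ω] (U : Ω → Subgroup G)
  (a b : Ω) (z v : G), C4 U → a ≠ b → Fr z v a b → SLt U z → SLt U v → AS U a b z v

def JobP1 : Prop := ∀ (G Ω : Type u) [Group G] [Finite G] [MulAction G Ω] (U : Ω → Subgroup G)
  (a b : Ω) (z : G), C4 U → a ≠ b → Iv z a b → Nat.card (U a) % 4 = 1 →
  (∀ t, Iv t a b → ¬ SLt U t) → False

def JobP3 : Prop := ∀ (G Ω : Type u) [Group G] [Finite G] [MulAction G Ω] (U : Ω → Subgroup G)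
  (a b : Ω) (z : G), C4 U → a ≠ b → Iv z a b → Nat.card (U a) % 4 = 3 →
  (∀ t, Iv t a b → ¬ SLt U t) → False

def JobM3a : Prop := ∀ (G Ω : Type u) [Group G] [Finite G] [MulAction G Ω] (U : Ω → Subgroup G)
  (a b : Ω) (z : G), C4 U → a ≠ b → Iv z a b → SLt U z → Nat.card (U a) % 4 = 3 →
  (∀ k ∈ Kh Ω {z}, k * k ≠ z) → PRankLE 2 2 G ∧ ∃ v, Fr z v a b ∧ SLt U v

def JobM3b : Prop := ∀ (G Ω : Type u) [Group G] [Finite G] [MulAction G Ω] (U : Ω → Subgroup G)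
  (a b : Ω) (z : G), C4 U → a ≠ b → Iv z a b → SLt U z → Nat.card (U a) % 4 = 3 →
  (∃ k ∈ Kh Ω {z}, k * k = z) → ¬ HasQ Ω z → False

def JobM3c : Prop := ∀ (G Ω : Type u) [Group G] [Finite G] [MulAction G Ω] (U : Ω → Subgroup G)
  (a b : Ω) (z : G), C4 U → a ≠ b → Iv z a b → SLt U z → Nat.card (U a) % 4 = 3 → HasQ Ω z →
  H89.K.One G ∧ NF U z a b

def JobP1a : Prop := ∀ (G Ω : Type u) [Group G] [Finite G] [MulAction G Ω] (U : Ω → Subgroup G)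
  (a b : Ω) (z v : G), C4 U → a ≠ b → Fr z v a b → SLt U z → Nat.card (U a) % 4 = 1 →
  ¬ HasQ Ω z → ¬ SLt U v → False

def JobP1b : Prop := ∀ (G Ω : Type u) [Group G] [Finite G] [MulAction G Ω] (U : Ω → Subgroup G)
  (a b : Ω) (z v : G), C4 U → a ≠ b → Fr z v a b → SLt U z → Nat.card (U a) % 4 = 1 →
  ¬ HasQ Ω z → SLt U v → PRankLE 2 2 G

def JobP1c : Prop := ∀ (G Ω : Type u) [Group G] [Finite G] [MulAction G Ω] (U : Ω → Subgroup G)
  (a b : Ω) (z : G), C4 U → a ≠ b → Iv z a b → SLt U z → Nat.card (U a) % 4 = 1 → HasQ Ω z →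
  (∀ v, Fr z v a b → ¬ SLt U v) → False

def JobP1d : Prop := ∀ (G Ω : Type u) [Group G] [Finite G] [MulAction G Ω] (U : Ω → Subgroup G)
  (a b : Ω) (z v : G), C4 U → a ≠ b → Fr z v a b → SLt U z → Nat.card (U a) % 4 = 1 → HasQ Ω z →
  SLt U v → H89.K.One G ∧ NF U z a b

def JobNum : Prop := ∀ (G Ω : Type u) [Group G] [Finite G] [MulAction G Ω] (U : Ω → Subgroup G)
  (a b : Ω) (z v : G), C4 U → a ≠ b → Fr z v a b → SLt U z → SLt U v → PRankLE 2 2 G → False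

def JobG2a : Prop := ∀ (G Ω : Type u) [Group G] [Finite G] [MulAction G Ω] (U : Ω → Subgroup G)
  (a b : Ω) (z : G), C4 U → a ≠ b → Iv z a b → SLt U z → H89.K.One G → HasQ Ω z → NF U z a b → Q8n Ω z

def JobG2b : Prop := ∀ (G Ω : Type u) [Group G] [Finite G] [MulAction G Ω] (U : Ω → Subgroup G)
  (a b : Ω) (z : G), C4 U → a ≠ b → Iv z a b → SLt U z → H89.K.One G → Q8n Ω z → False

end H7.HKS
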