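import Cfsg.Agent.H7.HKSSpec3
import Cfsg.Agent.H72.HKS1
import Cfsg.Agent.H3.HkKit2

/-! Small tools for chapter III of the HKS tower: transport under conjugation, four-groups,
the decomposition `l * k` of inner elements. -/

set_option autoImplicit false

namespace H7.HKT

open MulAction Cfsg Subgroup H89.K H65 H7.HKS

universe u

variable {G Ω : Type u} [Group G] [MulAction G Ω] {U : Ω → Subgroup G} {a b c : Ω}
  {g k l t v w : G} {X : Set G}

theorem mem_Fx : c ∈ Fx Ω {t} ↔ t • c = c := by simp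

theorem mem_Fx2 : c ∈ Fx Ω {v, t} ↔ v • c = c ∧ t • c = c := by simp

theorem mem_C : g ∈ centralizer ({t} : Set G) ↔ g * t = t * g := mem_centralizer_singleton_iff

theorem mem_CU : g ∈ CU U {t} a ↔ g ∈ U a ∧ g * t = t * g := and_congr_right fun _ => mem_C

theorem mem_Kh : k ∈ Kh Ω {t} ↔ (∀ c : Ω, t • c = c → k • c = c) ∧ k * t = t * k := by
  rw [mem_inf, mem_fixingSubgroup_iff, mem_C]; simp

theorem mem_N : g ∈ normalizer ({t} : Set G) ↔ g * t = t * g := by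
  rw [mem_set_normalizer_iff]
  refine ⟨fun h => ?_, fun h x => ?_⟩
  · have : g * t * g⁻¹ = t := (h t).1 rfl
    rw [← mul_inv_eq_iff_eq_mul, this]
  · simp only [Set.mem_singleton_iff]
    refine ⟨fun e => by rw [e, h]; simp, fun e => ?_⟩
    have : x = g⁻¹ * t * g := by rw [← e]; group
    rw [this, mul_assoc, ← h]; simp

theorem sub1 (h : t ∈ St G a b) : ({t} : Set G) ⊆ St G a b := Set.singleton_subset_iff.2 h

theorem st_iff : g ∈ St G a b ↔ g • a = a ∧ g • b = b := Iff.rfl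

theorem st_symm (h : g ∈ St G a b) : g ∈ St G b a := ⟨h.2, h.1⟩

/-! ### Involutions and four-groups -/

theorem iv_sq (h : Iv t a b) : t * t = 1 := by rw [← pow_two, ← h.2, pow_orderOf_eq_one]

theorem iv_ne (h : Iv t a b) : t ≠ 1 := fun e => by simpa [e] using h.2

theorem iv_inv (h : Iv t a b) : t⁻¹ = t := inv_eq_of_mul_eq_one_right (iv_sq h)

theorem iv_mk (h : t ∈ St G a b) (h2 : t * t = 1) (h1 : t ≠ 1) : Iv t a b :=
  ⟨h, orderOf_eq_prime (by rw [pow_two, h2]) h1⟩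

theorem iv_symm (h : Iv t a b) : Iv t b a := ⟨st_symm h.1, h.2⟩

theorem fr_symm (h : Fr t v a b) : Fr v t a b := ⟨h.2.1, h.1, h.2.2.1.symm, h.2.2.2.symm⟩

theorem fr_iv (h : Fr t v a b) : Iv (t * v) a b := by
  refine iv_mk (mul_mem h.1.1 h.2.1.1) ?_ fun e => h.2.2.1 ?_
  · rw [mul_assoc, ← mul_assoc v, ← h.2.2.2, mul_assoc, iv_sq h.2.1, mul_one, iv_sq h.1]
  · rw [← iv_inv h.2.1]; exact eq_inv_of_mul_eq_one_left e

/-- `t`, `t v` generate the same four-group. -/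
theorem fr_mul (h : Fr t v a b) : Fr t (t * v) a b :=
  ⟨h.1, fr_iv h, fun e => iv_ne h.2.1 (by simpa using e.symm), by
    rw [mul_assoc, ← h.2.2.2]⟩

theorem fr_mul' (h : Fr t v a b) : Fr v (t * v) a b := h.2.2.2 ▸ fr_mul (fr_symm h)

/-! ### Transport -/

theorem st_conj (g : G) (h : t ∈ St G a b) : g * t * g⁻¹ ∈ St G (g • a) (g • b) :=
  ⟨by simp [mul_smul, (st_iff.1 h).1], by simp [mul_smul, (st_iff.1 h).2]⟩

theorem ord_conj (g t : G) : orderOf (g * t * g⁻¹) = orderOf t :=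
  (MulAut.conj g).orderOf_eq t

theorem iv_conj (g : G) (h : Iv t a b) : Iv (g * t * g⁻¹) (g • a) (g • b) :=
  ⟨st_conj g h.1, (ord_conj g t).trans h.2⟩

theorem comm_conj (g : G) (h : t * v = v * t) :
    g * t * g⁻¹ * (g * v * g⁻¹) = g * v * g⁻¹ * (g * t * g⁻¹) := by
  rw [conj_mul, conj_mul, h]

theorem fr_conj (g : G) (h : Fr t v a b) : Fr (g * t * g⁻¹) (g * v * g⁻¹) (g • a) (g • b) :=
  ⟨iv_conj g h.1, iv_conj g h.2.1, fun e => h.2.2.1 (by simpa using e), comm_conj g h.2.2.2⟩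

theorem sw_conj (g : G) (h : Sw w a b) : Sw (g * w * g⁻¹) (g • a) (g • b) :=
  ⟨by simp [mul_smul, h.1], by simp [mul_smul, h.2]⟩

theorem iv_of_isConj (hab : a ≠ b) (h : Iv t a b) (hw : IsConj t w) :
    ∃ c d : Ω, c ≠ d ∧ Iv w c d := by
  obtain ⟨g, rfl⟩ := isConj_iff.1 hw
  exact ⟨_, _, fun e => hab (by simpa using e), iv_conj g h⟩

theorem fx_conj : c ∈ Fx Ω {g * t * g⁻¹} ↔ g⁻¹ • c ∈ Fx Ω {t} := by
  rw [mem_Fx, mem_Fx, mul_smul, mul_smul, ← eq_inv_smul_iff]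

theorem kh_conj (g : G) (h : k ∈ Kh Ω {t}) : g * k * g⁻¹ ∈ Kh Ω {g * t * g⁻¹} := by
  rw [mem_Kh] at h ⊢
  refine ⟨fun c hc => ?_, comm_conj g h.2⟩
  rw [mul_smul, mul_smul, h.1 _ (mem_Fx.1 (fx_conj.1 (mem_Fx.2 hc))), smul_inv_smul]

theorem kh_conj' (h : g * t = t * g) (hk : k ∈ Kh Ω {t}) : g * k * g⁻¹ ∈ Kh Ω {t} := by
  have := kh_conj g hk
  rwa [h, mul_inv_cancel_right] at this

theorem cu_conj (h : Sp U) (g : G) (hu : w ∈ CU U {t} a) :
    g * w * g⁻¹ ∈ CU U {g * t * g⁻¹} (g • a) :=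
  mem_CU.2 ⟨h.conj g a w hu.1, comm_conj g (mem_CU.1 hu).2⟩

theorem lx_conj (h : Sp U) (g : G) (hl : l ∈ LX U {t}) : g * l * g⁻¹ ∈ LX U {g * t * g⁻¹} := by
  have : LX U {t} ≤ (LX U {g * t * g⁻¹}).comap (MulAut.conj g).toMonoidHom := by
    refine iSup₂_le fun c hc u hu => ?_
    refine le_iSup₂_of_le (f := fun c (_ : c ∈ Fx Ω {g * t * g⁻¹}) => CU U {g * t * g⁻¹} c) (g • c)
      (fx_conj.2 (by simpa using hc)) le_rfl (cu_conj h g hu)
  exact this hl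

theorem lx_conj' (h : Sp U) (e : g * t = t * g) (hl : l ∈ LX U {t}) : g * l * g⁻¹ ∈ LX U {t} := by
  have := lx_conj h g hl
  rwa [e, mul_inv_cancel_right] at this

theorem slt_conj (h : Sp U) (g : G) (ht : SLt U t) : SLt U (g * t * g⁻¹) := lx_conj h g ht

theorem inn_conj (h : Sp U) (g : G) (hw : Inn U {t} w) : Inn U {g * t * g⁻¹} (g * w * g⁻¹) := by
  obtain ⟨l, hl, e⟩ := hw
  refine ⟨_, lx_conj h g hl, fun c hc => ?_⟩
  simp only [mul_smul, e _ (fx_conj.1 hc)]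

theorem hasQ_conj (g : G) (h : HasQ Ω t) : HasQ Ω (g * t * g⁻¹) := by
  obtain ⟨k, hk, k', hk', e1, e2, e3⟩ := h
  refine ⟨_, kh_conj g hk, _, kh_conj g hk', by rw [conj_mul, e1], by rw [conj_mul, e2], ?_⟩
  rw [conj_inv, conj_inv, ← e3]; group

theorem q8n_conj (g : G) (h : Q8n Ω t) : Q8n Ω (g * t * g⁻¹) := by
  have back : ∀ k ∈ Kh Ω {g * t * g⁻¹}, g⁻¹ * k * g⁻¹⁻¹ ∈ Kh Ω {t} := fun k hk => by
    simpa [mul_assoc] using kh_conj g⁻¹ hk
  refine ⟨hasQ_conj g h.1, fun k hk k' hk' e e' => ?_, fun k hk => ?_⟩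
  · have := h.2.1 _ (back k hk) _ (back k' hk') (by rw [conj_mul, e]; group)
      (by rw [conj_mul, e']; group)
    rw [conj_inv, conj_inv, conj_mul, conj_mul] at this
    simpa using this
  · have := h.2.2 _ (back k hk)
    rw [conj_pow, conj_pow] at this
    simpa [mul_assoc, ← eq_inv_mul_iff_mul_eq] using this

theorem card_cu_conj (h : Sp U) (g t : G) (a : Ω) :
    Nat.card (CU U {g * t * g⁻¹} (g • a)) = Nat.card (CU U {t} a) := by
  refine Nat.card_congr ⟨fun w => ⟨g⁻¹ * w * g, ?_⟩, fun w => ⟨_, cu_conj h g w.2⟩, fun w => ?_,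
    fun w => ?_⟩
  · simpa [mul_assoc] using cu_conj h g⁻¹ w.2
  · ext; simp [mul_assoc]
  · ext; simp [mul_assoc]

theorem card_U [Finite G] (h : Rg U) (a b : Ω) : Nat.card (U a) = Nat.card (U b) := by
  have := H72.HKS.kit1.card h a
  have := H72.HKS.kit1.card h b
  omega

/-! ### The groups `L_t` and `K_t` -/

variable [Finite G]

theorem norm_CU (h : Sp U) (hc : g • c = c) (hg : g ∈ normalizer X) :
    g ∈ normalizer (CU U X c : Set G) := by
  refine mem_normalizer_fintype fun u hu => ⟨hc ▸ h.conj g c u hu.1, fun x hx => ?_⟩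
  have := hu.2 (g⁻¹ * x * g) (((mem_set_normalizer_iff.1 hg) _).2 (by simpa [mul_assoc] using hx))
  calc x * (g * u * g⁻¹) = g * (g⁻¹ * x * g * u) * g⁻¹ := by group
    _ = g * u * g⁻¹ * x := by rw [this]; group

theorem kh_st (ht : t ∈ St G a b) (hk : k ∈ Kh Ω {t}) : k ∈ St G a b :=
  ⟨(mem_Kh.1 hk).1 a ht.1, (mem_Kh.1 hk).1 b ht.2⟩

theorem kh_comm (hk : k ∈ Kh Ω {t}) : k * t = t * k := (mem_Kh.1 hk).2

theorem self_kh : t ∈ Kh Ω {t} := mem_Kh.2 ⟨fun _ h => h, rfl⟩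

theorem lx_comm (h : Rg U) (hab : a ≠ b) (ht : t ∈ St G a b) (hl : l ∈ LX U {t}) :
    l * t = t * l := mem_C.1 ((H72.HKS.kit1.fx h hab (sub1 ht)).2.2.2.1 hl)

theorem kl (h : Rg U) (hab : a ≠ b) (ht : t ∈ St G a b) (hk : k ∈ Kh Ω {t}) (hl : l ∈ LX U {t}) :
    k * l = l * k :=
  (H72.HKS.kit1.fx h hab (sub1 ht)).2.2.2.2.2.1 k (fun c hc => (mem_Kh.1 hk).1 c (mem_Fx.1 hc)) l hl

theorem kh_of (h : Rg U) (hab : a ≠ b) (ht : t ∈ St G a b) (hk : k ∈ St G a b)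
    (e : k * t = t * k) (hu : ∀ u ∈ CU U {t} a, k * u = u * k) : k ∈ Kh Ω {t} :=
  mem_Kh.2 ⟨fun c hc =>
    (H72.HKS.kit1.fx h hab (sub1 ht)).2.2.2.2.2.2.1 k hk hu c (mem_Fx.2 hc), e⟩

theorem cu_le_lx (hc : c ∈ Fx Ω X) : CU U X c ≤ LX U X :=
  le_iSup₂_of_le (f := fun c (_ : c ∈ Fx Ω X) => CU U X c) c hc le_rfl

/-- An inner element of `C(t)` is a product `l * k`. -/
theorem inn_dec (h : Rg U) (hab : a ≠ b) (ht : t ∈ St G a b) (e : g * t = t * g)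
    (hg : Inn U {t} g) : ∃ l ∈ LX U {t}, ∃ k ∈ Kh Ω {t}, g = l * k := by
  obtain ⟨l, hl, e'⟩ := hg
  refine ⟨l, hl, l⁻¹ * g, mem_Kh.2 ⟨fun c hc => ?_, ?_⟩, by simp⟩
  · rw [mul_smul, e' c (mem_Fx.2 hc), inv_smul_smul]
  · rw [mul_assoc, e, ← mul_assoc, lx_comm h hab ht (inv_mem hl), mul_assoc]

theorem inn_mul (hl : l ∈ LX U {t}) (hk : k ∈ Kh Ω {t}) : Inn U {t} (l * k) :=
  ⟨l, hl, fun c hc => by rw [mul_smul, (mem_Kh.1 hk).1 c (mem_Fx.1 hc)]⟩

section LD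

variable {F : Type} [Field F] [Fintype F] {x y : F → G}

theorem x_mem {A B : Subgroup G} (D : LD x y A B a b) (c : F) : x c ∈ A := (D.rx _).2 ⟨c, rfl⟩

theorem y_mem {A B : Subgroup G} (D : LD x y A B a b) (c : F) : y c ∈ B := (D.ry _).2 ⟨c, rfl⟩

theorem n_mem {A B : Subgroup G} (D : LD x y A B a b) (c : F) : sl2n x y c ∈ A ⊔ B :=
  mul_mem (mul_mem (mem_sup_left (x_mem D _)) (mem_sup_right (y_mem D _)))
    (mem_sup_left (x_mem D _))

theorem h_mem {A B : Subgroup G} (D : LD x y A B a b) (c : F) : sl2h x y c ∈ A ⊔ B :=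
  mul_mem (n_mem D _) (n_mem D _)

theorem x_inv {A B : Subgroup G} (D : LD x y A B a b) (c : F) : (x c)⁻¹ = x (-c) :=
  inv_eq_of_mul_eq_one_right (by rw [D.rel.x_add, add_neg_cancel, D.rel.x_zero])

theorem x_ne {A B : Subgroup G} (D : LD x y A B a b) {c : F} (hc : c ≠ 0) : x c ≠ 1 :=
  fun e => hc (D.inj (e.trans D.rel.x_zero.symm))

theorem x_pow {A B : Subgroup G} (D : LD x y A B a b) (c : F) (n : ℕ) : x c ^ n = x (n * c) := by
  induction n with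
  | zero => simp [D.rel.x_zero]
  | succ n ih => rw [pow_succ, ih, D.rel.x_add]; congr 1; push_cast; ring

theorem zeta_sq {A B : Subgroup G} (D : LD x y A B a b) :
    sl2h x y (-1) * sl2h x y (-1) = 1 := by
  rw [D.rel.h_mul' (by simp) (by simp)]; simpa using D.rel.h_one

theorem lx_eq (h : Rg U) (hab : a ≠ b) (hX : X ⊆ St G a b)
    (D : LD x y (CU U X a) (CU U X b) a b) : LX U X = CU U X a ⊔ CU U X b :=
  H3.HK2.kit2.lx h hab hX D

theorem n_lx (h : Rg U) (hab : a ≠ b) (hX : X ⊆ St G a b)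
    (D : LD x y (CU U X a) (CU U X b) a b) (c : F) : sl2n x y c ∈ LX U X :=
  lx_eq h hab hX D ▸ n_mem D c

theorem h_lx (h : Rg U) (hab : a ≠ b) (hX : X ⊆ St G a b)
    (D : LD x y (CU U X a) (CU U X b) a b) (c : F) : sl2h x y c ∈ LX U X :=
  lx_eq h hab hX D ▸ h_mem D c

theorem h_st (h : Rg U) (hab : a ≠ b) (D : LD x y (CU U X a) (CU U X b) a b) {c : F}
    (hc : c ≠ 0) : sl2h x y c ∈ St G a b :=
  (H3.HK2.kit2.bas h.sr hab inf_le_left inf_le_left D).2.2.2.1 c hc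

theorem card_F (h : Rg U) (hab : a ≠ b) (D : LD x y (CU U X a) (CU U X b) a b) :
    Nat.card (CU U X a) = Fintype.card F :=
  (H3.HK2.kit2.bas h.sr hab inf_le_left inf_le_left D).2.1

theorem two_ne (h : Rg U) (hab : a ≠ b) (D : LD x y (CU U X a) (CU U X b) a b) : (2 : F) ≠ 0 :=
  Ring.two_ne_zero fun e => by
    have := FiniteField.even_card_of_char_two e
    have := Nat.odd_iff.1 (H3.HK2.kit2.bas h.sr hab inf_le_left inf_le_left D).1
    omega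

/-- `L_t ∩ K_t ≤ ⟨ζ⟩`. -/
theorem lk (h : Rg U) (hab : a ≠ b) (ht : t ∈ St G a b)
    (D : LD x y (CU U {t} a) (CU U {t} b) a b) (hl : l ∈ LX U {t}) (hk : l ∈ Kh Ω {t}) :
    l = 1 ∨ l = sl2h x y (-1) := by
  have e := lx_eq h hab (sub1 ht) D
  exact (H3.HK2.kit2.grp h.sr hab inf_le_left inf_le_left D).2.2.1 l (e ▸ hl)
    fun m hm => kl h hab ht hk (e ▸ hm)

/-- An element fixing `a`, `b` and inverting `x` acts as `-1`. -/
theorem neg_act (h : Rg U) (hab : a ≠ b) (D : LD x y (CU U X a) (CU U X b) a b)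
    (hg : g ∈ St G a b) (hn : g ∈ normalizer X) (e : ∀ c, g * x c * g⁻¹ = x (-c)) :
    (∀ c, g * y c * g⁻¹ = y (-c)) ∧ (∀ c, c ≠ 0 → g * sl2n x y c * g⁻¹ = sl2n x y (-c)) ∧
      ∀ c, c ≠ 0 → g * sl2h x y c = sl2h x y c * g := by
  obtain ⟨l, σ, -, h1, h2, h3, h4⟩ := H3.HK2.kit2.semi h.sr hab inf_le_left inf_le_left D g hg
    (norm_CU h.toSp hg.1 hn) (norm_CU h.toSp hg.2 hn)
  have k : ∀ c, l * σ c = -c := fun c => D.inj ((h1 c).symm.trans (e c))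
  have l1 : l = -1 := by simpa using k 1
  have s : ∀ c, σ c = c := fun c => by simpa [l1] using k c
  refine ⟨fun c => by rw [h2, l1, s]; simp [inv_neg], fun c hc => by rw [h3 c hc, k],
    fun c hc => ?_⟩
  rw [← mul_inv_eq_iff_eq_mul, h4 c hc, s]

/-- `q ≡ 1 (mod 4)`: an element inverting `C_U(t)` is `h(i) k`. -/
theorem hk_dec (h : Rg U) (hab : a ≠ b) (ht : t ∈ St G a b)
    (D : LD x y (CU U {t} a) (CU U {t} b) a b) {i : F} (hi : i * i = -1) (hg : g ∈ St G a b)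
    (e : g * t = t * g) (hu : ∀ u ∈ CU U {t} a, g * u * g⁻¹ = u⁻¹) :
    ∃ k ∈ Kh Ω {t}, g = sl2h x y i * k := by
  have i0 : i ≠ 0 := fun e => by simp [e] at hi
  refine ⟨(sl2h x y i)⁻¹ * g, kh_of h hab ht (mul_mem (inv_mem (h_st h hab D i0)) hg) ?_
    fun u hu' => ?_, by simp⟩
  · rw [mul_assoc, e, ← mul_assoc, lx_comm h hab ht (inv_mem (h_lx h hab (sub1 ht) D i)), mul_assoc]
  · obtain ⟨c, rfl⟩ := (D.rx u).1 hu'
    have e1 := D.rel.h_mul_x i0 c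
    rw [pow_two, hi, neg_one_mul, ← x_inv D, ← hu _ hu'] at e1
    rw [mul_assoc, inv_mul_eq_iff_eq_mul, ← mul_assoc, ← mul_assoc, e1]; group

theorem ex_i (hq : Fintype.card F % 4 = 1) : ∃ i : F, i * i = -1 := by
  obtain ⟨i, hi⟩ := FiniteField.isSquare_neg_one_iff.2 (show Fintype.card F % 4 ≠ 3 by omega)
  exact ⟨i, hi.symm⟩

theorem no_i (hq : Fintype.card F % 4 = 3) (i : F) : i * i ≠ -1 := fun e =>
  FiniteField.isSquare_neg_one_iff.1 ⟨i, e.symm⟩ hq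

/-- Two sets of data with a common non-trivial root element have the same `ζ`. -/
theorem mu_zeta {F' : Type} [Field F'] [Fintype F'] {x' y' : F' → G} {X' : Set G} (h : Rg U)
    (hab : a ≠ b) (D : LD x y (CU U X a) (CU U X b) a b)
    (D' : LD x' y' (CU U X' a) (CU U X' b) a b) (hw : w ∈ CU U X a) (hw' : w ∈ CU U X' a)
    (h1 : w ≠ 1) : sl2h x y (-1) = sl2h x' y' (-1) := by
  obtain ⟨c, rfl⟩ := (D.rx w).1 hw
  obtain ⟨c', e⟩ := (D'.rx _).1 hw'
  have c0 : c ≠ 0 := fun e => h1 (e ▸ D.rel.x_zero)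
  have c0' : c' ≠ 0 := fun e' => h1 (e ▸ e' ▸ D'.rel.x_zero)
  have := H3.HK2.kit2.mu h.sr hab inf_le_left inf_le_left inf_le_left inf_le_left D D' c c' c0 e.symm
  rw [← (H3.HK2.kit2.bas h.sr hab inf_le_left inf_le_left D).2.2.2.2.2.1 c c0,
    ← (H3.HK2.kit2.bas h.sr hab inf_le_left inf_le_left D').2.2.2.2.2.1 c' c0', this]

end LD

/-- An abelian `C_U(X)` has type A or L. -/
theorem al_of_comm (h : Rg U) (hab : a ≠ b) (ty : Typ U X a b)
    (ab : ∀ u ∈ CU U X a, ∀ u' ∈ CU U X a, u * u' = u' * u) : TA U X a ∨ TL U X a b := by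
  rcases ty with h1 | h1 | ⟨F, _, _, x, y, D, e, -⟩ | ⟨q, w, D⟩
  · exact Or.inl h1
  · exact Or.inr h1
  · have z : ZU U X a = CU U X a := inf_eq_left.2 fun u hu v hv => ab v hv u hu
    have : Nat.card (ZU U X a) = _ := (H3.HK2.kit2.bas h.sr hab (inf_le_left.trans inf_le_left)
      (inf_le_left.trans inf_le_left) D).2.1
    rw [z, e] at this
    have h2 : 1 < Fintype.card F := Fintype.one_lt_card
    exact absurd this (Nat.pow_lt_pow_right h2 (show 1 < 3 by norm_num) |>.trans_le' (by simp)).ne'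
  · obtain ⟨f, hf⟩ := D.pow
    have : ⁅CU U X a, CU U X a⁆ = ⊥ :=
      commutator_eq_bot_iff_le_centralizer.2 fun u hu v hv => ab v hv u hu
    have d := D.der
    rw [this, card_bot, hf] at d
    exact absurd d (not_le.2 (Nat.one_lt_pow (by omega) (by norm_num)))

end H7.HKT
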