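import Cfsg.Agent.H7.HKG2a

/-! Job G2b of the HKS tower. -/

set_option autoImplicit false

namespace H7.HKG

open MulAction Cfsg Subgroup H89.K H65 H7.HKS H7.HKT

universe u

variable {G Ω : Type u} [Group G] [MulAction G Ω] {U : Ω → Subgroup G} {a b : Ω}
  {k t v w x y z : G}

theorem cube {m : G} (x3 : x ^ 3 = 1) (c : x * m = m * x) (e : x * w * x⁻¹ = m * w) : m ^ 3 = 1 := by
  have : ∀ n : ℕ, x ^ n * w * (x ^ n)⁻¹ = m ^ n * w := fun n => by
    induction n with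
    | zero => simp
    | succ n ih =>
      calc x ^ (n + 1) * w * (x ^ (n + 1))⁻¹ = x * (x ^ n * w * (x ^ n)⁻¹) * x⁻¹ := by group
        _ = m ^ n * (x * w * x⁻¹) := by
          rw [ih, ← mul_assoc, ((show Commute x m from c).pow_right n).eq]; group
        _ = _ := by rw [e]; group
  simpa [x3] using (this 3).symm

theorem inv_eq (yy : y * y = 1) (e : k * k = y) : k⁻¹ = y * k :=
  inv_eq_of_mul_eq_one_left (by rw [mul_assoc, e, yy])

theorem sq_mul {k' : G} (e : k' * k' = y) (r : k' * k * k'⁻¹ = k⁻¹) : k * k' * (k * k') = y := by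
  calc k * k' * (k * k') = k * (k' * k * k'⁻¹) * (k' * k') := by group
    _ = y := by rw [r, e]; simp

theorem ex_inv (Q : Q8n Ω y) (hk : k ∈ Kh Ω {y}) (e : k * k = y) :
    ∃ k' ∈ Kh Ω {y}, k' * k' = y ∧ k' * k * k'⁻¹ = k⁻¹ := by
  obtain ⟨k₁, h₁, k₂, h₂, e₁, e₂, r⟩ := Q.1
  rcases Q.2.1 k hk k₁ h₁ e e₁ with rfl | rfl | r'
  · exact ⟨k₂, h₂, e₂, r⟩
  · exact ⟨k₂, h₂, e₂, by rw [← inv_inj, conj_inv, r]⟩
  · exact ⟨k₁, h₁, e₁, r'⟩

/-- An element of order three centralising `k` centralises the quaternion group. -/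
theorem cent_q (Q : Q8n Ω y) (yy : y * y = 1) (y1 : y ≠ 1) (x3 : x ^ 3 = 1) (xy : x * y = y * x)
    (hk : k ∈ Kh Ω {y}) (e : k * k = y) (xk : x * k = k * x) {k' : G} (hk' : k' ∈ Kh Ω {y})
    (e' : k' * k' = y) (r : k' * k * k'⁻¹ = k⁻¹) : x * k' * x⁻¹ = k' := by
  have h3 := kh_conj' xy hk'
  have e3 : x * k' * x⁻¹ * (x * k' * x⁻¹) = y := by rw [conj_mul, e', xy]; simp
  have r3 : x * k' * x⁻¹ * k * (x * k' * x⁻¹)⁻¹ = k⁻¹ := by
    have xk' : x * k * x⁻¹ = k := by rw [xk]; simp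
    calc _ = x * k' * x⁻¹ * (x * k * x⁻¹) * (x * k' * x⁻¹)⁻¹ := by rw [xk']
      _ = x * (k' * k * k'⁻¹) * x⁻¹ := by group
      _ = k⁻¹ := by rw [r, ← conj_inv, xk']
  have k3 : k ^ 3 ≠ 1 := fun q => y1 (by
    have : k = 1 := by
      rwa [pow_three, e, (mem_Kh.1 hk).2, ← mul_left_inj k, mul_assoc, e, yy, one_mul, eq_comm] at q
    rw [← e, this, one_mul])
  rcases Q.2.1 k' hk' _ h3 e' e3 with q | q | q
  · exact q
  · have := cube x3 xy (q.trans (inv_eq yy e'))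
    rw [pow_three, yy, mul_one] at this
    exact absurd this y1
  rcases Q.2.1 (k * k') (mul_mem hk hk') _ h3 (sq_mul e' r) e3 with q' | q' | q'
  · exact absurd (cube x3 xk q') k3
  · have : x * k' * x⁻¹ = k⁻¹ * k' := by
      rw [q', inv_eq yy (sq_mul e' r), inv_eq yy e, mul_assoc]
    have := cube x3 ((show Commute x k from xk).inv_right.eq) this
    rw [inv_pow, inv_eq_one] at this
    exact absurd this k3
  · rw [← conj_mul, q, r3, ← mul_inv_rev, inv_inj] at q'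
    rw [q', mul_inv_cancel_right, eq_inv_iff_mul_eq_one, e] at r
    exact absurd r y1

variable [Finite G]

theorem ld (h : C4 U) (hab : a ≠ b) (ht : Iv t a b) (s : SLt U t) :
    ∃ (F : Type) (_ : Field F) (_ : Fintype F) (x y : F → G), LD x y (CU U {t} a) (CU U {t} b) a b ∧
      sl2h x y (-1) = t ∧ Fintype.card F % 4 = Nat.card (U a) % 4 := by
  obtain ⟨⟨F, _, _, x, y, D⟩, e⟩ := h.tl hab ht
  refine ⟨F, _, _, x, y, D, ?_, by rw [← e, card_F h.toRg hab D]⟩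
  rcases h.sl hab ht D with q | q
  · exact q.2
  · exact absurd s q.1

theorem neg' (h : C4 U) (hab : a ≠ b) (F : Fr t v a b) :
    ∀ u ∈ CU U {t} a, v * u * v⁻¹ = u⁻¹ := fun u hu => by rw [iv_inv F.2.1, h.neg hab F u hu]

theorem dec1 (h : C4 U) (hab : a ≠ b) (ht : Iv t a b) (s : SLt U t) (q : Nat.card (U a) % 4 = 1) :
    ∃ h₀ ∈ St G a b, h₀ * h₀ = t ∧ (∀ k ∈ Kh Ω {t}, k * h₀ = h₀ * k) ∧
      ∀ w, Fr t w a b → ∃ k ∈ Kh Ω {t}, k * k = t ∧ w = h₀ * k := by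
  obtain ⟨F, _, _, x, y, D, e, q'⟩ := ld h hab ht s
  obtain ⟨i, hi⟩ := ex_i (q'.trans q)
  have i0 : i ≠ 0 := fun e => by simp [e] at hi
  have sq : sl2h x y i * sl2h x y i = t := by rw [D.rel.h_mul' i0 i0, hi, e]
  have c : ∀ k ∈ Kh Ω {t}, k * sl2h x y i = sl2h x y i * k := fun k hk =>
    kl h.toRg hab ht.1 hk (h_lx h.toRg hab (sub1 ht.1) D i)
  refine ⟨_, h_st h.toRg hab D i0, sq, c, fun w Fw => ?_⟩
  obtain ⟨k, hk, rfl⟩ := hk_dec h.toRg hab ht.1 D hi Fw.2.1.1 Fw.2.2.2.symm (neg' h hab Fw)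
  refine ⟨k, hk, ?_, rfl⟩
  have := iv_sq Fw.2.1
  rw [mul_assoc, ← mul_assoc k, c k hk, mul_assoc, ← mul_assoc, sq] at this
  rw [← iv_inv ht]; exact eq_inv_of_mul_eq_one_right this

theorem mod4 (h : C4 U) (a : Ω) : Nat.card (U a) % 4 = 1 ∨ Nat.card (U a) % 4 = 3 := by
  have := Nat.odd_iff.1 (h.odd a); omega

theorem ex_t (h : C4 U) (hab : a ≠ b) (F : Fr z v a b) (s : SLt U z) (Q : Q8n Ω z) :
    ∃ t ∈ St G a b, t * t = 1 ∧ t * z = z * t ∧ t * v * t = z * v := by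
  have zz := iv_sq F.1
  rcases mod4 h a with q | q
  · obtain ⟨h₀, m, sq, c, d⟩ := dec1 h hab F.1 s q
    obtain ⟨k, hk, e, rfl⟩ := d v F
    obtain ⟨k', hk', e', r⟩ := ex_inv Q hk e
    have hz : h₀ * z = z * h₀ := by rw [← sq, mul_assoc]
    refine ⟨h₀ * k', mul_mem m (kh_st F.1.1 hk'), ?_, ?_, ?_⟩
    · rw [mul_assoc, ← mul_assoc k', c k' hk', mul_assoc, ← mul_assoc, sq, e', zz]
    · rw [mul_assoc, kh_comm hk', ← mul_assoc, hz, mul_assoc]
    · calc h₀ * k' * (h₀ * k) * (h₀ * k') = h₀ * (k' * h₀) * (k * h₀) * k' := by group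
        _ = h₀ * h₀ * (k' * h₀) * k * k' := by
          rw [c k hk]; nth_rw 1 [c k' hk']; simp only [mul_assoc]
        _ = h₀ * h₀ * h₀ * (k' * k * k'⁻¹) * (k' * k') := by rw [c k' hk']; simp [mul_assoc]
        _ = z * (h₀ * (k⁻¹ * (k * k))) := by rw [r, e', sq, e]; group
        _ = _ := by group
  · have key : ∃ k ∈ Kh Ω {z}, k * k = z ∧ v * k * v⁻¹ = k⁻¹ := by
      obtain ⟨k, hk, -, -, e, -⟩ := Q.1
      have h2 := kh_conj' F.2.2.2.symm hk
      have e2 : v * k * v⁻¹ * (v * k * v⁻¹) = z := by rw [conj_mul, e, ← F.2.2.2]; simp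
      rcases Q.2.1 k hk _ h2 e e2 with r | r | r
      · have := h.m1 hab F q k (kh_st F.1.1 hk) ⟨2, by
          rw [show 2 ^ 2 = 2 * 2 from rfl, pow_mul, pow_two k, e, pow_two, zz]⟩ (kh_comm hk)
          (mul_inv_eq_iff_eq_mul.1 r).symm
        refine absurd (e.symm.trans ?_) (iv_ne F.1)
        rcases this with rfl | rfl | rfl | rfl
        exacts [one_mul 1, zz, iv_sq F.2.1, iv_sq (fr_iv F)]
      · exact ⟨k, hk, e, r⟩
      · refine ⟨_, mul_mem hk h2, sq_mul e2 r, ?_⟩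
        rw [inv_eq zz (sq_mul e2 r), ← mul_assoc z, ← inv_eq zz e, ← r, ← conj_mul, iv_inv F.2.1]
        simp only [mul_assoc, inv_mul_cancel, mul_one, iv_sq F.2.1]
        rw [← mul_assoc v v, iv_sq F.2.1, one_mul]
    obtain ⟨k, hk, e, r⟩ := key
    rw [iv_inv F.2.1] at r
    refine ⟨k * v, mul_mem (kh_st F.1.1 hk) F.2.1.1, ?_, ?_, ?_⟩
    · rw [mul_assoc, ← mul_assoc v, r, mul_inv_cancel]
    · rw [mul_assoc, ← F.2.2.2, ← mul_assoc, kh_comm hk, mul_assoc]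
    · rw [mul_assoc k, iv_sq F.2.1, mul_one, ← mul_assoc, e]

theorem g4 (h : C4 U) (hab : a ≠ b) (F : Fr t v a b) (F' : Fr t w a b) (s : SLt U t)
    (Q : Q8n Ω t) (q : Nat.card (U a) % 4 = 1) : (v * w) ^ 4 = 1 := by
  obtain ⟨h₀, -, sq, c, d⟩ := dec1 h hab F.1 s q
  obtain ⟨k, hk, e, rfl⟩ := d v F
  obtain ⟨k', hk', e', rfl⟩ := d w F'
  have tt := iv_sq F.1
  have : h₀ * k * (h₀ * k') = t * (k * k') := by
    rw [mul_assoc, ← mul_assoc k, c k hk, mul_assoc, ← mul_assoc, sq]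
  rw [this, (show Commute t (k * k') from (kh_comm (mul_mem hk hk')).symm).mul_pow,
    show 4 = 2 * 2 from rfl, pow_mul, pow_mul, pow_two t, tt, one_pow, one_mul, pow_two (k * k')]
  rcases Q.2.1 k hk k' hk' e e' with rfl | rfl | r
  · rw [e, tt, one_pow]
  · simp
  · rw [sq_mul e' r, pow_two, tt]

theorem cu2 (x : G) (c : Ω) : CU U {x, x⁻¹} c = CU U {x} c := by
  ext u
  rw [mem_CU, mem_inf, mem_centralizer_iff]
  simp only [Set.mem_insert_iff, Set.mem_singleton_iff, forall_eq_or_imp, forall_eq]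
  exact and_congr_right fun _ => ⟨fun h => h.1.symm, fun h =>
    ⟨h.symm, (show Commute u x from h).inv_right.eq.symm⟩⟩

theorem normX {g : G} (h : g * x * g⁻¹ = x ∨ g * x * g⁻¹ = x⁻¹) :
    g ∈ normalizer ({x, x⁻¹} : Set G) := by
  refine mem_normalizer_fintype fun n hn => ?_
  rcases hn with rfl | rfl
  · exact h
  · rw [← conj_inv]; rcases h with h | h <;> simp [h]

/-- The case `ζ = 1`, `q ≡ 3 (mod 4)`. -/
theorem psl3 (k3 : Kit3.{u}) (h : C4 U) (hab : a ≠ b) (hz : Iv z a b) (one : H89.K.One G)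
    (sl : ∀ t : G, orderOf t = 2 → SLt U t) (Q : ∀ t : G, orderOf t = 2 → Q8n Ω t)
    (hx : x ∈ St G a b) (x3 : x ^ 3 = 1) {F : Type} [Field F] [Fintype F] {x' y' : F → G}
    (D : LD x' y' (CU U {x, x⁻¹} a) (CU U {x, x⁻¹} b) a b) (e : sl2h x' y' (-1) = 1)
    (q : Fintype.card F % 4 = 3) (q0 : Nat.card (U a) % 4 = 3) : False := by
  have r := h.toRg
  have hX : ({x, x⁻¹} : Set G) ⊆ St G a b := by
    rintro _ (rfl | rfl); exacts [hx, inv_mem hx]
  have fx := H72.HKS.kit1.fx r hab hX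
  have cx : ∀ g ∈ CU U {x, x⁻¹} a ⊔ CU U {x, x⁻¹} b, x * g = g * x := fun g hg =>
    fx.2.2.2.1 (lx_eq r hab hX D ▸ hg) x (Or.inl rfl)
  obtain ⟨c, d, s, -, -, -, -, hd, cy, dc, dd, dn, -⟩ :=
    H3.HK2.kit2.syl r.sr hab inf_le_left inf_le_left D q
  have sw := D.sw 1 one_ne_zero
  have yy := D.rel.n_one_sq
  have xy := cx _ (n_mem D 1)
  have ny : ∀ p ∈ Fx Ω {x, x⁻¹}, sl2n x' y' 1 • p ≠ p := fun p hp ep => by
    rcases (fx.1 p).1 hp with rfl | ⟨u, hu, rfl⟩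
    · exact hab (ep.symm.trans sw.1)
    obtain ⟨c, rfl⟩ := (D.rx u).1 hu
    by_cases c0 : c = 0
    · rw [c0, D.rel.x_zero, one_smul] at ep
      exact hab (sw.2.symm.trans ep)
    rw [(H3.HK2.kit2.bas r.sr hab inf_le_left inf_le_left D).2.2.2.2.1 c 1 c0 one_ne_zero,
      ← inv_smul_eq_iff, ← mul_smul] at ep
    have := D.inj (inv_mul_eq_one.1 (r.reg hab.symm _
      (mul_mem (inv_mem hu.1) (x_mem D _).1) ep))
    exact no_i q c (by nth_rw 2 [this]; field_simp)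
  have cy' : sl2n x' y' 1 ∈ zpowers c := cy ▸ npow_mem_zpowers c _
  have dy : d * sl2n x' y' 1 * d⁻¹ = (sl2n x' y' 1)⁻¹ := by rw [← cy, ← conj_pow, dc, inv_pow]
  rw [e] at yy dd
  generalize sl2n x' y' 1 = y at sw yy xy ny cy' dy
  have xd := cx d hd
  have y1 : y ≠ 1 := fun e => hab (by simpa [e] using sw.1)
  have oy : orderOf y = 2 := orderOf_eq_prime (by rw [pow_two, yy]) y1
  rw [inv_eq_of_mul_eq_one_right yy, mul_inv_eq_iff_eq_mul] at dy
  obtain ⟨a', b', hab', hy⟩ := iv_of_isConj hab hz (one z y hz.2 oy)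
  have emp : ∀ p : Ω, y • p = p → d • p ≠ p := fun p e1 e2 => by
    have hp : ∀ p ∈ Fx Ω {d, y}, x • p ∈ Fx Ω {d, y} := fun p hp => mem_Fx2.2
      ⟨by rw [← mul_smul, ← xd, mul_smul, (mem_Fx2.1 hp).1],
        by rw [← mul_smul, ← xy, mul_smul, (mem_Fx2.1 hp).2]⟩
    have p0 := mem_Fx2.2 ⟨e2, e1⟩
    by_cases xp : x • p = p
    · exact ny p (by rintro _ (rfl | rfl); exacts [xp, inv_smul_eq_iff.2 xp.symm]) e1
    have : Finite Ω := Nat.finite_of_card_ne_zero (by rw [H72.HKS.kit1.card r a]; omega)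
    have := h.nof hab' hy d dd dy ((Set.two_lt_ncard_iff (Set.toFinite _)).2
      ⟨p, x • p, x • x • p, p0, hp _ p0, hp _ (hp _ p0), Ne.symm xp, fun e => xp ?_,
        fun e => xp (smul_left_cancel x e).symm⟩)
    · rcases this with rfl | rfl
      exacts [dn (one_mem _), dn cy']
    · conv_lhs => rw [e]
      rw [← mul_smul, ← mul_smul, ← pow_three', x3, one_smul]
  obtain ⟨F', _, _, x'', y'', D', e', q'⟩ := ld h hab' hy (sl y oy)
  rw [card_U r a' a, q0] at q'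
  obtain ⟨dd', φ, o1, -, o3⟩ := k3.out r hab' (sub1 hy.1) D'
  have em : Fx Ω (insert d {y}) = ∅ :=
    Set.eq_empty_of_forall_notMem fun p hp => emp p (mem_Fx2.1 hp).2 (mem_Fx2.1 hp).1
  have inn : Inn U {y} d := by
    rcases o3 ⟨d, mem_N.2 dy⟩ (fun p _ => by simp [dd])
      (fun tr => emp a' hy.1.1 (tr a' (mem_Fx.2 hy.1.1))) with o | o | o
    · simp [em] at o
    · simp [em] at o
    · exact (o1 _).1 ⟨o.2.2.2 q', o.1⟩
  obtain ⟨l, hl, k, hk, rfl⟩ := inn_dec r hab' hy.1 dy inn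
  have c := kl r hab' hy.1 hk hl
  rw [mul_assoc, ← mul_assoc k, c, mul_assoc, ← mul_assoc] at dd
  have kk : k * k = y := by
    rcases lk r hab' hy.1 D' (mul_mem hl hl)
      (eq_inv_of_mul_eq_one_left dd ▸ inv_mem (mul_mem hk hk)) with ll | ll
    · have := ((H3.HK2.kit2.grp r.sr hab' inf_le_left inf_le_left D').1 (e' ▸ y1)).2 l
        (lx_eq r hab' (sub1 hy.1) D' ▸ hl) ll
      have lK : l ∈ Kh Ω {y} := by
        rcases this with rfl | rfl
        exacts [one_mem _, e' ▸ self_kh]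
      exact absurd (kh_st hy.1 (mul_mem lK hk)).1 (emp a' hy.1.1)
    · rw [ll, e'] at dd
      rw [← iv_inv hy]; exact eq_inv_of_mul_eq_one_right dd
  have xk : x * k = k * x := by
    have m : x * k * x⁻¹ * k⁻¹ = (x * l * x⁻¹)⁻¹ * l := by
      calc _ = (x * l * x⁻¹)⁻¹ * (x * (l * k)) * x⁻¹ * k⁻¹ := by group
        _ = _ := by rw [xd]; group
    rcases lk r hab' hy.1 D' (m ▸ mul_mem (inv_mem (lx_conj' r.toSp xy hl)) hl)
      (mul_mem (kh_conj' xy hk) (inv_mem hk)) with m' | m'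
    · rwa [mul_inv_eq_one, mul_inv_eq_iff_eq_mul] at m'
    · rw [e', mul_inv_eq_iff_eq_mul] at m'
      have := cube x3 xy m'
      rw [pow_three, yy, mul_one] at this
      exact absurd this y1
  obtain ⟨k', hk', kk', rr⟩ := ex_inv (Q y oy) hk kk
  have xk' := cent_q (Q y oy) yy y1 x3 xy hk kk xk hk' kk' rr
  have ya : ∀ g : G, g * g = y → ¬ Triv Ω {x, x⁻¹} g := fun g eg tr => by
    have := tr a (fun g hg => (hX hg).1)
    exact hab (by rw [← sw.1, ← eg, mul_smul, this, this])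
  have := (k3.o4 r hab hX ⟨F, _, inferInstance, x', y', D⟩ (by rw [card_F r hab D, q]) k
    (normX (Or.inl (by rw [← xk]; simp)))
    (fun p _ => by rw [show 4 = 2 * 2 from rfl, pow_mul, pow_two k, kk, pow_two, yy, one_smul])
    (fun tr => hab (by rw [← sw.1, ← kk, ← pow_two, tr a fun g hg => (hX hg).1]))).2.2 k'
    (normX (Or.inl (by rw [mul_inv_eq_iff_eq_mul] at xk' ⊢; exact xk'.symm)))
    (fun p _ => by rw [kk', pow_two, kk]; simp)
  have rr' : k * k' * k⁻¹ = k'⁻¹ := by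
    rw [inv_eq yy kk', ← kk, mul_inv_eq_iff_eq_mul, mul_assoc, mul_assoc, mul_right_inj,
      ← inv_mul_eq_iff_eq_mul, ← rr]; simp
  rcases this with tr | tr
  · exact ya _ (sq_mul kk rr') tr
  · refine ya _ (sq_mul (k' := k⁻¹) ?_ ?_) tr
    · rw [← mul_inv_rev, kk, iv_inv hy]
    · rw [inv_inv, ← inv_inj, inv_inv]
      calc (k⁻¹ * k' * k)⁻¹ = k⁻¹ * (k * k' * k⁻¹) * k := by rw [rr']; group
        _ = k' := by group

theorem odd_sq (h : Rg U) {u : G} (hu : u ∈ U a) (e : u * u = 1) : u = 1 := by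
  have : (⟨u, hu⟩ : U a) = 1 := (h.odd a).coprime_two_right.pow_left_bijective.1
    (show (⟨u, hu⟩ : U a) ^ 2 = 1 ^ 2 from Subtype.ext (by simpa [pow_two] using e))
  exact congrArg Subtype.val this

theorem jobG2b (k3 : Kit3.{u}) (as : JobAS.{u}) : JobG2b.{u} := by
  intro G Ω _ _ _ U a b z h hab hz sz one Qz
  have r := h.toRg
  have sl : ∀ t : G, orderOf t = 2 → SLt U t := fun t ht => by
    obtain ⟨g, rfl⟩ := isConj_iff.1 (one z t hz.2 ht); exact h.slJ g z sz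
  have Q : ∀ t : G, orderOf t = 2 → Q8n Ω t := fun t ht => by
    obtain ⟨g, rfl⟩ := isConj_iff.1 (one z t hz.2 ht); exact q8n_conj g Qz
  have cube' : ∀ t, Iv t a b → Nat.card (U a) = Nat.card (CU U {t} a) ^ 3 := fun t ht => by
    obtain ⟨w, Fw⟩ := h.ex hab ht
    have A := as G Ω U a b t w h hab Fw (sl t ht.2) (sl w Fw.2.1.2)
    rw [h.prod hab Fw, A.cz, A.czv, pow_three']
  obtain ⟨v, F⟩ := h.ex hab hz
  have A := as G Ω U a b z v h hab F sz (sl v F.2.1.2)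
  obtain ⟨t, ht, tt, tz, tv⟩ := ex_t h hab F sz Qz
  obtain ⟨s, hs, ss, sv, sz'⟩ := ex_t h hab (fr_symm F) (sl v F.2.1.2) (Q v F.2.1.2)
  have zz := iv_sq hz
  have vv := iv_sq F.2.1
  have zv := F.2.2.2
  have ti : t⁻¹ = t := inv_eq_of_mul_eq_one_right tt
  have si : s⁻¹ = s := inv_eq_of_mul_eq_one_right ss
  have t1 : t ≠ 1 := fun e => iv_ne hz (by simpa [e] using tv.symm)
  have tz' : z ≠ t := fun e => iv_ne hz (by
    rw [← e, zv, mul_assoc, zz, mul_one, ← zv] at tv; simpa using tv.symm)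
  have Ft : Fr z t a b := ⟨hz, iv_mk ht tt t1, tz', tz.symm⟩
  have tv' : t * v = z * v * t := by rw [← tv, mul_assoc _ t, tt, mul_one]
  have sz'' : s * z = v * z * s := by rw [← sz', mul_assoc _ s, ss, mul_one]
  obtain ⟨x, ex⟩ : ∃ x, x = t * s := ⟨_, rfl⟩
  have hx : x ∈ St G a b := ex ▸ mul_mem ht hs
  have xv : x * v = z * v * x := by rw [ex, mul_assoc, sv, ← mul_assoc, tv', mul_assoc]
  have xz : x * z = v * x := by
    rw [ex, mul_assoc, sz'', ← mul_assoc, ← mul_assoc, tv', mul_assoc _ t, tz, zv, mul_assoc v z,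
      ← mul_assoc z, zz, one_mul, mul_assoc]
  have xtx : x * t * x = t := by
    rw [ex, mul_assoc t s, mul_assoc, mul_assoc, ← mul_assoc t t, tt, one_mul, ss, mul_one]
  have txt : t * x * t⁻¹ = x⁻¹ := by
    rw [eq_inv_iff_mul_eq_one, ti, mul_assoc, mul_assoc, ← mul_assoc x, xtx, tt]
  obtain ⟨l1, l2⟩ := lin h hab A.ab F hx xz xv
  have cz : ∀ w, x * w * x⁻¹ = w → w ≠ z ∧ w ≠ v ∧ w ≠ z * v := fun w e => by
    refine ⟨?_, ?_, ?_⟩ <;> rintro rfl
    · exact F.2.2.1 (by rw [← e, xz]; simp)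
    · exact iv_ne hz (by rw [xv] at e; simpa using e)
    · rw [← mul_assoc, xz, mul_assoc v, xv, ← mul_assoc, ← mul_assoc, ← zv, mul_assoc z, vv] at e
      exact iv_ne F.2.1 (by simpa using e.symm)
  have c1 : x * z * x⁻¹ = v := by rw [xz]; simp
  have c2 : x * v * x⁻¹ = z * v := by rw [xv]; simp
  have c3 : x * (z * v) * x⁻¹ = z := by
    rw [← conj_mul, c1, c2, zv, ← mul_assoc, vv, one_mul]
  have p3 : ∀ w, x ^ 3 * w * (x ^ 3)⁻¹ = x * (x * (x * w * x⁻¹) * x⁻¹) * x⁻¹ := fun w => by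
    rw [pow_three]; group
  have gz : x ^ 3 * z = z * x ^ 3 := by rw [← mul_inv_eq_iff_eq_mul, p3, c1, c2, c3]
  have gv : x ^ 3 * v = v * x ^ 3 := by rw [← mul_inv_eq_iff_eq_mul, p3, c2, c3, c1]
  have x3 : x ^ 3 = 1 := by
    have tg : t * x ^ 3 * t⁻¹ = (x ^ 3)⁻¹ := by rw [← conj_pow, txt, inv_pow]
    have xg : x * x ^ 3 * x⁻¹ = x ^ 3 := by group
    have m := pow_mem hx 3
    have gx : x ^ 3 * x ^ 3 * x = x * (x ^ 3 * x ^ 3) := by group
    generalize x ^ 3 = g at gz gv tg xg m gx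
    have := A.cW _ (mul_mem m m) fun u hu _ => l1 _ (mul_mem m m) gx (fun u hu => by
      have n := neg' h hab Ft _ ((mem_normalizer_iff.1 (norm_CU r.toSp m.1 (mem_N.2 gz)) u).1 hu)
      rw [← conj_mul, ← conj_mul, tg, ← conj_inv, tg, neg' h hab Ft u hu] at n
      calc g * g * u = g * (g * u * g⁻¹)⁻¹⁻¹ * g := by group
        _ = _ := by rw [← n]; group) u hu
    obtain ⟨n1, n2, n3⟩ := cz g xg
    rcases h.noE8 a b z v g hab F m this gz gv with e | e | e | e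
    exacts [e, absurd e n1, absurd e n2, absurd e n3]
  obtain ⟨cd, m1, m2⟩ := l2 x3
  have x1 : x ≠ 1 := fun e => (cz z (by simp [e])).1 rfl
  have tx : t * x ≠ x * t := fun e => x1 (by
    rw [← e, mul_assoc, mul_eq_left] at xtx
    rwa [pow_three, xtx, mul_one] at x3)
  have inv := m1 t ht xtx (neg' h hab Ft)
  have hX : ({x, x⁻¹} : Set G) ⊆ St G a b := by
    rintro _ (rfl | rfl); exacts [hx, inv_mem hx]
  have nb := h.fx3 hab hz
  have nbx : CU U {x, x⁻¹} a ≠ ⊥ := fun e => nb (by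
    rw [cu2] at e
    rw [← card_eq_one, ← cd, e, card_bot])
  have tn := normX (Or.inr txt)
  rw [← cu2] at inv cd m2
  rcases al_of_comm r hab (h.loc _ a b hab hX ⟨x, Or.inl rfl, x1⟩ nbx)
    (fun u hu u' hu' => A.ab u hu.1 u' hu'.1) with ⟨h7, E, D⟩ | ⟨F', _, _, x', y', D⟩
  · have : CU U {x, x⁻¹} a ⊓ centralizer {t} = ⊥ := eq_bot_iff.2 fun u hu => odd_sq r hu.1.1 (by
      rw [← eq_inv_iff_mul_eq_one, ← inv u hu.1, ← mem_C.1 hu.2]; simp)
    have := (k3.an r hab hX D t tn).2 ht (fun p _ => by simp [tt]) 1 (by rw [this, card_bot])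
    omega
  have ng : ∀ c, t * x' c * t⁻¹ = x' (-c) := fun c => by rw [inv _ (x_mem D c), x_inv D]
  have th := (neg_act r hab D ht tn ng).2.2
  have cx : ∀ c, x * sl2h x' y' c = sl2h x' y' c * x := fun c =>
    (H72.HKS.kit1.fx r hab hX).2.2.2.1 (h_lx r hab hX D c) x (Or.inl rfl)
  have bas := H3.HK2.kit2.bas r.sr hab inf_le_left inf_le_left D
  have q' : Fintype.card F' % 4 = Nat.card (U a) % 4 := by
    rw [← card_F r hab D, cd, (h.tl hab hz).2]
  by_cases e : sl2h x' y' (-1) = 1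
  · rcases mod4 h a with q | q
    · obtain ⟨i, hi⟩ := ex_i (q'.trans q)
      have i0 : i ≠ 0 := fun e => by simp [e] at hi
      have he : Iv (sl2h x' y' i * t) a b := by
        refine iv_mk (mul_mem (h_st r hab D i0) ht) ?_ fun e' => tx ?_
        · rw [mul_assoc, ← mul_assoc t, th i i0, mul_assoc, tt, mul_one, D.rel.h_mul' i0 i0, hi, e]
        · rw [eq_inv_of_mul_eq_one_right e']
          exact (show Commute x _ from cx i).inv_right.eq.symm
      obtain ⟨F'', _, _, x'', y'', D', e', -⟩ := ld h hab he (sl _ he.2)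
      refine iv_ne he ?_
      rw [← e', ← mu_zeta r hab D D' (x_mem D 1) (mem_CU.2 ⟨(x_mem D 1).1, ?_⟩)
        (x_ne D one_ne_zero), e]
      rw [mul_assoc, mul_inv_eq_iff_eq_mul.1 (ng 1), ← mul_assoc, ← mul_assoc, D.rel.h_mul_x i0,
        pow_two, hi]
      simp
    · exact psl3 k3 h hab hz one sl Q hx x3 D e (q'.trans q) q
  have hz' : Iv (sl2h x' y' (-1)) a b := iv_mk (h_st r hab D (by simp)) (zeta_sq D) e
  have le : CU U {x, x⁻¹} a ≤ CU U {sl2h x' y' (-1)} a := fun u hu =>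
    mem_CU.2 ⟨hu.1, bas.2.2.2.2.2.2.2.1 u (mem_sup_left hu)⟩
  have xz' := cx (-1)
  have tz'' := th (-1) (by simp)
  generalize sl2h x' y' (-1) = z' at hz' le xz' tz''
  have eq : CU U {x, x⁻¹} a = CU U {z'} a := eq_of_le_of_card_ge le (by
    rw [cd]
    exact (Nat.pow_left_injective (by norm_num) ((cube' _ hz').symm.trans (cube' _ hz))).le)
  have F1 := fr_symm Ft
  have F2 : Fr t z' a b := ⟨Ft.2.1, hz', fun e => tx (e ▸ xz'.symm), tz''⟩
  obtain ⟨K, _, _, x₀, y₀, D₀, -, q₀⟩ := ld h hab hz sz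
  obtain ⟨f4, f6⟩ := m2 z' hz'.1 (iv_sq hz') xz'.symm eq _ (x_mem D₀ 1)
  rcases mod4 h a with q | q
  · exact x_ne D₀ one_ne_zero (f4 (g4 h hab F1 F2 (sl t Ft.2.1.2) (Q t Ft.2.1.2) q))
  have gK : z * z' ∈ Kh Ω {t} := by
    refine kh_of r hab ht (mul_mem hz.1 hz'.1) ?_ fun u hu => ?_
    · rw [mul_assoc, ← tz'', ← mul_assoc, ← tz, mul_assoc]
    · rw [← mul_inv_eq_iff_eq_mul, mul_inv_rev, mul_assoc z, ← mul_assoc, mul_assoc z,
        neg' h hab F2 u hu, neg' h hab F1 _ (inv_mem hu), inv_inv]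
  rcases (Q t Ft.2.1.2).2.2 _ gK with g | g
  · exact x_ne D₀ one_ne_zero (f4 g)
  · have := D₀.inj ((x_pow D₀ 1 25).symm.trans ((f6 g).trans D₀.rel.x_zero.symm))
    have f : (5 : K) = 0 := pow_eq_zero_iff (two_ne_zero) |>.1 (by
      push_cast at this; linear_combination this)
    exact no_i (q₀.trans q) 2 (by linear_combination f)

end H7.HKG
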