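/- O8 tower: the odd root groups of a finite Moufang octagon. -/
import Cfsg.Agent.H54.O8Spec

set_option autoImplicit false
set_option linter.unusedSectionVars false

namespace H7.O8

open H12.BN H54.O8 Subgroup
open H21.BN (mk sh)
open H59.BN (le_II II_le II_mono II_bot II_self)

variable {G : Type} [Group G] [Finite G] {x : MP 8 G}

theorem mk8 (x : MP 8 G) : MK x := mk (by omega)

theorem Uc (x : MP 8 G) {i j : ℤ} (h : j = i ∨ j = i + 16 ∨ i = j + 16) : x.U j = x.U i := by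
  rcases h with rfl | rfl | rfl
  exacts [rfl, x.per i, (x.per j).symm]

theorem mv {i : ℤ} {g : G} (hg : g ∈ x.U i) (j : ℤ) (h : j = i ∨ j = i + 16 ∨ i = j + 16 := by omega) :
    g ∈ x.U j := Uc x h ▸ hg

theorem inI {i j k : ℤ} {g : G} (hg : g ∈ x.U k) (h1 : i ≤ k := by omega) (h2 : k ≤ j := by omega) :
    g ∈ II x.U i j := le_II _ h1 h2 hg

theorem upI {i j k l : ℤ} {g : G} (hg : g ∈ II x.U k l) (h1 : i ≤ k := by omega) (h2 : l ≤ j := by omega) :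
    g ∈ II x.U i j := II_mono _ h1 h2 hg

theorem mu8 {i k : ℤ} {a g : G} (ha : a ∈ x.U i) (h1 : a ≠ 1) (hg : g ∈ x.U k) (j : ℤ)
    (h : j = 2 * i + 8 - k ∨ j = 2 * i + 24 - k ∨ j = 2 * i - 8 - k := by omega) :
    x.mu i a * g * (x.mu i a)⁻¹ ∈ x.U j := mv (x.mu_conj ha h1 hg) j

theorem mu8' {i k : ℤ} {a g : G} (ha : a ∈ x.U i) (h1 : a ≠ 1) (hg : g ∈ x.U k) (j : ℤ)
    (h : j = 2 * i + 8 - k ∨ j = 2 * i + 24 - k ∨ j = 2 * i - 8 - k := by omega) :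
    (x.mu i a)⁻¹ * g * x.mu i a ∈ x.U j := mv ((mk8 x).mu_conj' i a ha h1 k g hg) j

theorem cjI {i j : ℤ} {a g : G} (ha : a ∈ x.U i) (hg : g ∈ x.U j) (k l : ℤ) (h1 : i < j := by omega)
    (h2 : j < i + 8 := by omega) (h3 : k ≤ i + 1 := by omega) (h4 : j - 1 ≤ l := by omega) :
    a * g * a⁻¹ * g⁻¹ ∈ II x.U k l := upI (x.comm i j h1 h2 a ha g hg)

theorem adj8 {i j : ℤ} {a g : G} (ha : a ∈ x.U i) (hg : g ∈ x.U j) (h : j = i + 1 := by omega) :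
    Commute a g := (mk8 x).adj i a ha g (h ▸ hg)

theorem cmI {i j : ℤ} {a g : G} (h : ∀ k, i ≤ k → k ≤ j → ∀ u ∈ x.U k, Commute a u) (hg : g ∈ II x.U i j) :
    Commute a g :=
  (II_le (H := centralizer {a}) fun k a b u hu => mem_centralizer_singleton_iff.2 (h k a b u hu).symm.eq) hg a rfl

theorem mem_V {i : ℤ} {v : G} :
    v ∈ V x i ↔ v ∈ x.U i ∧ ∀ j, i - 4 ≤ j → j ≤ i + 4 → ∀ g ∈ x.U j, Commute v g :=
  and_congr_right fun _ => ⟨fun h _ a b g hg => (h g (inI hg a b)).symm, fun h _ hg => (cmI h hg).symm⟩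

theorem cv {i j : ℤ} {v g : G} (hv : v ∈ V x i) (hg : g ∈ x.U j) (h1 : i - 4 ≤ j := by omega)
    (h2 : j ≤ i + 4 := by omega) : Commute v g := (mem_V.1 hv).2 j h1 h2 g hg

theorem cvI {i j k : ℤ} {v g : G} (hv : v ∈ V x i) (hg : g ∈ II x.U j k) (h1 : i - 4 ≤ j := by omega)
    (h2 : k ≤ i + 4 := by omega) : Commute v g := cmI (fun _ _ _ _ hu => cv hv hu) hg

theorem muV' {i k : ℤ} {a g : G} (ha : a ∈ x.U i) (h1 : a ≠ 1) (hg : g ∈ V x k) (j : ℤ)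
    (h : j = 2 * i + 8 - k ∨ j = 2 * i + 24 - k ∨ j = 2 * i - 8 - k := by omega) :
    (x.mu i a)⁻¹ * g * x.mu i a ∈ V x j :=
  mem_V.2 ⟨mu8' ha h1 hg.1 j h, fun l a1 a2 u hu => by
    have := (cv hg (mu8 ha h1 hu (k + j - l))).eq
    calc _ = (x.mu i a)⁻¹ * (g * (x.mu i a * u * (x.mu i a)⁻¹)) * x.mu i a := by group
      _ = _ := by rw [this]; group⟩

theorem unR {i k : ℤ} {d d' c c' : G} (hd : d ∈ II x.U i (k - 1)) (hd' : d' ∈ II x.U i (k - 1))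
    (hc : c ∈ x.U k) (hc' : c' ∈ x.U k) (e : d * c = d' * c') (h : k - 8 ≤ i := by omega) : d = d' ∧ c = c' := by
  have : c = c' := mul_inv_eq_one.1 (x.disj' k _ (mul_mem hc (inv_mem hc')) (by
    rw [show c * c'⁻¹ = d⁻¹ * d' by rw [eq_inv_mul_iff_mul_eq, ← mul_assoc, e, mul_inv_cancel_right]]
    exact upI (mul_mem (inv_mem hd) hd')))
  exact ⟨mul_right_cancel (this ▸ e), this⟩

theorem top1 {i k : ℤ} {c : G} (hc : c ∈ x.U k) (hd : c ∈ II x.U i (k - 1)) (h : k - 8 ≤ i := by omega) :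
    c = 1 := x.disj' k _ hc (upI hd)

/-- the mirror image -/
def mir (x : MP 8 G) (c : ℤ) : MP 8 G := sh x.rev (9 - c)

theorem mir_U (x : MP 8 G) (c k : ℤ) : (mir x c).U k = x.U (c - k) :=
  congrArg x.U (by push_cast; ring)

theorem V_sh (c i : ℤ) : V (sh x c) i = V x (i + c) := Subgroup.ext fun _ => by
  rw [mem_V, mem_V]
  exact and_congr_right fun _ => ⟨fun h j a b g hg => h (j - c) (by omega) (by omega) g (mv hg _),
    fun h j a b g hg => h (j + c) (by omega) (by omega) g hg⟩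

theorem V_mir (c i : ℤ) : V (mir x c) i = V x (c - i) := Subgroup.ext fun _ => by
  rw [mem_V, mem_V, mir_U]
  exact and_congr_right fun _ => ⟨fun h j a b g hg => h (c - j) (by omega) (by omega) g
    (mir_U x c _ ▸ mv hg _), fun h j a b g hg => h (c - j) (by omega) (by omega) g (mir_U x c _ ▸ hg)⟩

theorem Hy_sh (h : Hy x) {c : ℤ} (hc : c % 2 = 0) : Hy (sh x c) :=
  ⟨fun _ => h.two _, fun i hi => V_sh (x := x) c i ▸ h.cen _ (by omega)⟩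

theorem Hy_mir (h : Hy x) {c : ℤ} (hc : c % 2 = 0) : Hy (mir x c) :=
  ⟨fun _ => h.two _, fun i hi => V_mir (x := x) c i ▸ h.cen _ (by omega)⟩

theorem Cd_sh (h : Cd x) {c : ℤ} (hc : c % 2 = 0) : Cd (sh x c) := fun i j hi hj => by
  rw [V_sh]; exact h _ _ (by omega) (by omega)

theorem Cd_mir (h : Cd x) {c : ℤ} (hc : c % 2 = 0) : Cd (mir x c) := fun i j hi hj => by
  rw [V_mir, mir_U]; exact h _ _ (by omega) (by omega)

theorem cm_drop {p c q a z : G} (h : Commute (p * c * q) (a * z)) (h1 : Commute p a) (h2 : Commute p z)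
    (h3 : Commute q a) (h4 : Commute q z) (h5 : Commute c z) : Commute c a := by
  have := ((h1.mul_right h2).inv_left.mul_left h).mul_left (h3.mul_right h4).inv_left
  rw [show p⁻¹ * (p * c * q) * q⁻¹ = c by group] at this
  simpa using this.mul_right h5.inv_right

theorem cm_cj {a b : G} (g : G) (h : Commute a b) : Commute (g⁻¹ * a * g) (g⁻¹ * b * g) := by
  simpa using h.conj g⁻¹

variable (A : A8 x)
include A

theorem invV {i : ℤ} {v : G} (hv : v ∈ V x i) (hi : i % 2 = 0 := by omega) : v⁻¹ = v :=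
  inv_eq_of_mul_eq_one_left (A.sqV i hi v hv)

theorem abU {i : ℤ} {a b : G} (ha : a ∈ x.U i) (hb : b ∈ x.U i) (hi : i % 2 = 1 := by omega) : Commute a b := by
  have k : ∀ a ∈ x.U i, a⁻¹ = a := fun a ha => inv_eq_of_mul_eq_one_left (A.sqU i hi a ha)
  have := k _ (mul_mem ha hb)
  rw [mul_inv_rev, k a ha, k b hb] at this
  exact this.symm

theorem r27 {i j : ℤ} {v u : G} (hv : v ∈ V x i) (hu : u ∈ x.U j) (k : ℤ) (hi : i % 2 = 0 := by omega)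
    (hj : j = i + 5 ∧ k = i + 2 ∨ j = i - 5 ∧ k = i - 2 := by omega) : v⁻¹ * (u⁻¹ * v * u) ∈ V x k := by
  by_cases h1 : u = 1
  · simp [h1]
  · rw [A.r27 i j hi (by omega) v hv u hu h1, inv_mul_cancel_left]
    exact muV' hu h1 hv k

theorem dec {v w : G} (hv : v ∈ V x 2) (hw : w ∈ V x 8) :
    ∃ v4 ∈ V x 4, ∃ c ∈ x.U 5, ∃ v6 ∈ V x 6, w⁻¹ * v * w = v * v4 * c * v6 := by
  by_cases h : v = 1 ∨ w = 1
  · exact ⟨1, one_mem _, 1, one_mem _, 1, one_mem _, by rcases h with rfl | rfl <;> simp⟩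
  rw [not_or] at h
  obtain ⟨c, hc, e⟩ := A.r28 2 8 5 rfl rfl rfl v hv h.1 w hw h.2
  exact ⟨_, muV' hv.1 h.1 hw 4, c, hc, _, muV' hw.1 h.2 hv 6, e⟩

omit A in
theorem un56 {d d' c c' z z' : G} (hd : d ∈ II x.U 1 4) (hd' : d' ∈ II x.U 1 4) (hc : c ∈ x.U 5)
    (hc' : c' ∈ x.U 5) (hz : z ∈ x.U 6) (hz' : z' ∈ x.U 6) (e : d * c * z = d' * c' * z') :
    c = c' ∧ z = z' := by
  have := unR (i := 1) (mul_mem (upI hd) (inI hc)) (mul_mem (upI hd') (inI hc')) hz hz' e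
  exact ⟨(unR (i := 1) (upI hd) (upI hd') hc hc' this.1).2, this.2⟩

theorem c37 {v w v4 c v6 : G} (hv : v ∈ V x 2) (hw : w ∈ V x 8) (h4 : v4 ∈ V x 4) (hc : c ∈ x.U 5)
    (h6 : v6 ∈ V x 6) (e : w⁻¹ * v * w = v * v4 * c * v6) :
    (∀ a ∈ x.U 3, Commute c a) ∧ ∀ a ∈ x.U 7, Commute c a := by
  refine ⟨fun a ha => ?_, fun a ha => ?_⟩
  · have hz := inv_mem (r27 A hw ha 6)
    have := cm_cj w (cv hv ha)
    rw [e, show w⁻¹ * a * w = a * (w⁻¹ * (a⁻¹ * w * a))⁻¹ by group] at this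
    exact cm_drop this ((cv hv ha).mul_left (cv h4 ha)) ((cv hv hz.1).mul_left (cv h4 hz.1)) (cv h6 ha)
      (cv h6 hz.1) (cv hz hc).symm
  · have hz := inv_mem (r27 A hv ha 4)
    have := cm_cj v (cv (inv_mem hw) ha)
    rw [show v⁻¹ * w⁻¹ * v = v4 * c * (v6 * w⁻¹) by
        calc _ = v⁻¹ * (w⁻¹ * v * w) * w⁻¹ := by group
          _ = _ := by rw [e]; group,
      show v⁻¹ * a * v = a * (v⁻¹ * (a⁻¹ * v * a))⁻¹ by group] at this
    exact cm_drop this (cv h4 ha) (cv h4 hz.1) ((cv h6 ha).mul_left (cv (inv_mem hw) ha))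
      ((cv h6 hz.1).mul_left (cv (inv_mem hw) hz.1)) (cv hz hc).symm

theorem la_mu {w : G} (hw : w ∈ V x 8) (w1 : w ≠ 1) :
    x.la 8 w = (x.ka 8 w)⁻¹ ∧ (x.mu 8 w)⁻¹ = x.mu 8 w := by
  have := (mk8 x).inv 8 w hw.1 w1
  rw [invV A hw] at this
  exact ⟨by rw [this.1, inv_inv], this.2.2.symm⟩

theorem onto0 {v w v4 v6 : G} (hv : v ∈ V x 2) (v1 : v ≠ 1) (hw : w ∈ V x 8) (w1 : w ≠ 1) (h4 : v4 ∈ V x 4)
    (h6 : v6 ∈ V x 6) (e : w⁻¹ * v * w = v * v4 * 1 * v6) {c : G} (hc : c ∈ x.U 5) :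
    ∃ v ∈ V x 2, ∃ v4 ∈ V x 4, ∃ v6 ∈ V x 6, w⁻¹ * v * w = v * v4 * c * v6 := by
  by_cases c1 : c = 1
  · exact ⟨v, hv, v4, h4, v6, h6, c1 ▸ e⟩
  obtain ⟨c', hc', e'⟩ := A.r28 2 8 5 rfl rfl rfl v hv v1 w hw w1
  have k6 := (un56 (mul_mem (inI hv.1) (inI h4.1)) (mul_mem (inI hv.1) (inI (muV' hv.1 v1 hw 4).1))
    (one_mem _) hc' h6.1 (muV' hw.1 w1 hv 6).1 (e.symm.trans e')).2
  obtain ⟨l1, l2⟩ := la_mu A hw w1
  have hk := mv (x.ka_mem hw.1 w1) 0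
  have ha := mu8 hw.1 w1 hc 3
  have U7 := fun b (hb : b ∈ x.U 1) => mu8' hw.1 w1 hb 7
  have U6 := fun b (hb : b ∈ x.U 2) => mu8' hw.1 w1 hb 6
  have V2 := fun b (hb : b ∈ V x 6) => muV' hw.1 w1 hb 2
  have hm : x.mu 8 w = x.ka 8 w * w * (x.ka 8 w)⁻¹ := by rw [MP.mu, l1]
  generalize x.mu 8 w = μ at *
  generalize x.ka 8 w = κ at *
  have cj : ∀ g, w⁻¹ * (κ⁻¹ * g * κ) * w = κ⁻¹ * (μ⁻¹ * g * μ) * κ := fun g => by rw [hm]; group
  have cK : ∀ {k : ℤ} {g : G}, g ∈ x.U k → 0 < k → k < 8 → ∃ d ∈ II x.U 1 (k - 1), κ⁻¹ * g * κ = d * g :=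
    fun hg a b => ⟨_, cjI (inv_mem hk) hg 1 _, by group⟩
  obtain ⟨a, rfl⟩ : ∃ a, c = μ⁻¹ * a * μ := ⟨μ * c * μ⁻¹, by group⟩
  rw [show μ * (μ⁻¹ * a * μ) * μ⁻¹ = a by group] at ha
  obtain ⟨d, hd, ea⟩ := cK ha (by omega) (by omega)
  obtain ⟨e1, h1, e2, h2, rfl⟩ := (mk8 x).splitL 1 _ (by omega) d hd
  have h2 : e2 ∈ x.U 2 := II_self x.U 2 ▸ upI h2
  obtain rfl : e1 = 1 := by
    by_contra n1
    have t := cm_cj κ (cv h6 ha)
    rw [ea, k6, ← cj, mul_assoc κ⁻¹, (cv hv hk).eq, inv_mul_cancel_left, e, mul_one] at t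
    have t2 := (((cv hv h1).mul_right (cv hv h2)).mul_right (cv hv ha)).mul_left
      (((cv h4 h1).mul_right (cv h4 h2)).mul_right (cv h4 ha))
    have t3 := t2.inv_left.mul_left t
    rw [inv_mul_cancel_left] at t3
    have t4 := (t3.mul_right (cv h6 ha).inv_right).mul_right (cv h6 h2).inv_right
    rw [mul_inv_cancel_right, mul_inv_cancel_right] at t4
    have := A.r27 6 1 rfl (by omega) v6 h6 e1 h1 n1
    rw [mul_assoc, t4.eq, inv_mul_cancel_left, left_eq_mul] at this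
    have := (conj_eq_one_iff (a := (x.mu 1 e1)⁻¹)).1 (by rwa [inv_inv])
    exact v1 ((conj_eq_one_iff (a := μ⁻¹)).1 (by rw [inv_inv, ← k6, this]))
  rw [one_mul] at ea
  have h6' := r27 A hw ha 6
  obtain ⟨D, hD, eD⟩ := cK hc (by omega) (by omega)
  have E1 : w⁻¹ * e2 * w = D * ((μ⁻¹ * a * μ) * a⁻¹ * (μ⁻¹ * a * μ)⁻¹) * (μ⁻¹ * a * μ) *
      (w⁻¹ * (a⁻¹ * w * a)) := by
    have t := (cv h6' (inv_mem ha)).eq
    calc _ = w⁻¹ * (e2 * a) * w * ((w⁻¹ * (a⁻¹ * w * a)) * a⁻¹) := by group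
      _ = _ := by rw [t, ← ea, cj, eD]; group
  have hD' : D * ((μ⁻¹ * a * μ) * a⁻¹ * (μ⁻¹ * a * μ)⁻¹) ∈ II x.U 1 4 := mul_mem (upI hD) (by
    simpa [mul_assoc] using mul_mem (inv_mem (inI ha : a ∈ II x.U 1 4)) (cjI ha hc 1 4))
  obtain ⟨b, hb, eb⟩ : ∃ b ∈ x.U 1, κ * e2 * κ⁻¹ = b * e2 :=
    ⟨_, II_self x.U 1 ▸ cjI hk h2 1 1, by group⟩
  obtain ⟨D1, hD1, eD1⟩ := cK (U7 b hb) (by omega) (by omega)
  obtain ⟨D2, hD2, eD2⟩ := cK (U6 e2 h2) (by omega) (by omega)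
  have E2 : w⁻¹ * e2 * w = D1 * (μ⁻¹ * b * μ) * (D2 * (μ⁻¹ * e2 * μ)) := by
    rw [← eD1, ← eD2]
    calc _ = w⁻¹ * (κ⁻¹ * (κ * e2 * κ⁻¹) * κ) * w := by group
      _ = _ := by rw [eb, cj]; group
  have m6 : w⁻¹ * e2 * w ∈ II x.U 1 6 := E1 ▸ mul_mem (mul_mem (upI hD') (inI hc)) (inI h6'.1)
  have b1 : μ⁻¹ * b * μ = 1 := top1 (i := 1) (U7 b hb) (by
    have := mul_mem (mul_mem (inv_mem (upI hD1)) m6) (inv_mem (mul_mem (upI hD2) (inI (U6 e2 h2))))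
    rw [E2, mul_assoc D1, inv_mul_cancel_left, mul_inv_cancel_right] at this
    exact upI this)
  have b1' : D1 = 1 := by simpa [b1] using eD1.symm
  rw [b1, b1', one_mul, one_mul] at E2
  have k := (unR (i := 1) (upI hD2) (mul_mem (upI hD') (inI hc)) (U6 e2 h2) h6'.1 (E2.symm.trans E1)).2
  have hv2 : e2 ∈ V x 2 := by
    have := V2 _ (k ▸ h6')
    rwa [show μ⁻¹ * (μ⁻¹ * e2 * μ) * μ = e2 by nth_rewrite 1 [l2]; nth_rewrite 4 [← l2]; group] at this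
  obtain ⟨u4, g4, c2, g5, u6, g6, e3⟩ := dec A hv2 hw
  exact ⟨e2, hv2, u4, g4, u6, g6, by
    rw [e3, (un56 (mul_mem (inI h2) (inI g4.1)) hD' g5 hc g6.1 h6'.1 (e3.symm.trans E1)).1]⟩

theorem onto (hC : Cd x) {w : G} (hw : w ∈ V x 8) (w1 : w ≠ 1) {c : G} (hc : c ∈ x.U 5) :
    ∃ v ∈ V x 2, ∃ v4 ∈ V x 4, ∃ v6 ∈ V x 6, w⁻¹ * v * w = v * v4 * c * v6 := by
  choose f4 h4 f5 h5 f6 h6 e using fun v : V x 2 => dec A v.2 hw
  by_cases inj : Function.Injective fun v => (⟨f5 v, h5 v⟩ : x.U 5)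
  · obtain ⟨v, k⟩ := ((Nat.bijective_iff_injective_and_card _).2 ⟨inj, hC 2 5 rfl rfl⟩).2 ⟨c, hc⟩
    exact ⟨v, v.2, _, h4 v, _, h6 v, by rw [e, show f5 v = c from congrArg Subtype.val k]⟩
  · obtain ⟨v, v', k, n⟩ := Function.not_injective_iff.1 inj
    have k : f5 v = f5 v' := congrArg Subtype.val k
    refine onto0 A (mul_mem (inv_mem v.2) v'.2) (fun d => n (Subtype.ext (inv_mul_eq_one.1 d))) hw w1
      (mul_mem (inv_mem (h4 v)) (h4 v')) (mul_mem (inv_mem (h6 v)) (h6 v')) ?_ hc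
    have t1 := (cv (inv_mem (h4 v)) (mul_mem (inv_mem v.2) v'.2).1).eq
    have t2 := ((cv (mul_mem (inv_mem v.2) v'.2) (h5 v')).mul_left
      (cv (mul_mem (inv_mem (h4 v)) (h4 v')) (h5 v'))).eq
    have t3 := ((cv (inv_mem (h6 v)) (mul_mem (inv_mem v.2) v'.2).1).mul_right
      (cv (inv_mem (h6 v)) (mul_mem (inv_mem (h4 v)) (h4 v')).1)).eq
    calc _ = (w⁻¹ * v * w)⁻¹ * (w⁻¹ * v' * w) := by group
      _ = (f6 v)⁻¹ * ((f5 v')⁻¹ * (((f4 v)⁻¹ * (v.1⁻¹ * v'.1))  * f4 v' * f5 v')) * f6 v' := by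
        rw [e, e, k]; group
      _ = _ := by rw [t1, mul_assoc _ _ (f4 v'), t2, inv_mul_cancel_left, t3]; group

variable (hH : Hy x) (hC : Cd x)
include hH hC

theorem c5 {c : G} (hc : c ∈ x.U 5) : (∀ a ∈ x.U 3, Commute c a) ∧ ∀ a ∈ x.U 7, Commute c a := by
  obtain ⟨w, hw, w1⟩ := hH.cen 8 rfl
  obtain ⟨v, hv, v4, h4, v6, h6, e⟩ := onto A hC hw w1 hc
  exact c37 A hv hw h4 hc h6 e

theorem c5I {c d : G} (hc : c ∈ x.U 5) (hd : d ∈ II x.U 3 7) : Commute c d := cmI (fun k a b u hu => by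
  obtain rfl | rfl | rfl | rfl | rfl : k = 3 ∨ k = 4 ∨ k = 5 ∨ k = 6 ∨ k = 7 := by omega
  exacts [(c5 A hH hC hc).1 u hu, (adj8 hu hc).symm, abU A hc hu, adj8 hc hu, (c5 A hH hC hc).2 u hu]) hd

theorem f25 {u w : G} (hu : u ∈ x.U 2) (hw : w ∈ V x 8) :
    ∃ d ∈ II x.U 3 6, ∃ e ∈ x.U 7, w⁻¹ * u * w = u * d * e ∧
    ∀ v ∈ V x 2, ∀ v4 ∈ V x 4, ∀ c ∈ x.U 5, ∀ v6 ∈ V x 6, w⁻¹ * v * w = v * v4 * c * v6 →
      c⁻¹ * u * c = u * (v⁻¹ * (e⁻¹ * v * e)) := by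
  obtain ⟨d, hd, e, he, k⟩ := (mk8 x).splitR 3 7 (by omega) _ (cjI (inv_mem hu) (inv_mem hw.1) 3 7)
  have k : w⁻¹ * u * w = u * d * e := by rw [mul_assoc u, ← k]; group
  refine ⟨d, upI hd, e, he, k, fun v hv v4 h4 c hc v6 h6 ev => ?_⟩
  have hz := r27 A hv he 4
  have t := cm_cj w (cv hv hu)
  rw [ev, k] at t
  have hf : u * d * e ∈ II x.U 2 7 := mul_mem (mul_mem (inI hu) (upI hd)) (inI he)
  have t1 := ((cvI h4 hf).inv_left.mul_left t).mul_left (cvI h6 hf).inv_left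
  rw [← (cv h4 hv.1).eq, show v4⁻¹ * (v4 * v * c * v6) * v6⁻¹ = v * c by group] at t1
  have t2 := ((cv hv hu).mul_right (cvI hv hd)).eq
  have t3 := ((c5I A hH hC hc (mul_mem (upI hd) (inI he))).mul_right (cv hz hc).symm.inv_right).eq
  have t4 := (cvI hz (mul_mem (upI hd) (inI he) : d * e ∈ II x.U 3 7)).inv_left.eq
  generalize hZ : v⁻¹ * (e⁻¹ * v * e) = z at *
  have : c⁻¹ * u * c * z⁻¹ * (d * e) = u * (d * e) :=
    calc _ = c⁻¹ * u * (c * (d * e * z⁻¹)) := by rw [← t4]; group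
      _ = c⁻¹ * v⁻¹ * (v * (u * d)) * v⁻¹ * e * v * c := by rw [t3, ← hZ]; group
      _ = (v * c)⁻¹ * (u * d * e * (v * c)) := by rw [t2]; group
      _ = _ := by rw [← t1.eq]; group
  exact mul_inv_eq_iff_eq_mul.1 (mul_right_cancel this)

theorem c52 {c u : G} (hc : c ∈ x.U 5) (hu : u ∈ x.U 2) : c⁻¹ * u⁻¹ * c * u ∈ V x 4 := by
  obtain ⟨w, hw, w1⟩ := hH.cen 8 rfl
  obtain ⟨v, hv, v4, h4, v6, h6, e⟩ := onto A hC hw w1 hc
  obtain ⟨d, -, f, hf, -, k⟩ := f25 A hH hC hu hw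
  rw [show c⁻¹ * u⁻¹ * c * u = (c⁻¹ * u * c)⁻¹ * u by group, k v hv v4 h4 c hc v6 h6 e, mul_inv_rev,
    inv_mul_cancel_right]
  exact inv_mem (r27 A hv hf 4)

theorem c15 {a c : G} (ha : a ∈ x.U 1) (hc : c ∈ x.U 5) : Commute a c := by
  by_cases a1 : a = 1
  · simp [a1]
  obtain ⟨w, hw, w1⟩ := hH.cen 8 rfl
  obtain ⟨v, hv, v4, h4, v6, h6, e⟩ := onto A hC hw w1 hc
  by_cases v1 : v = 1
  · rw [← (un56 (one_mem _) (mul_mem (inI hv.1) (inI h4.1)) (one_mem _) hc (one_mem _) h6.1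
      (by rw [← e, v1]; group)).1]
    exact Commute.one_right a
  obtain ⟨c', hc', e'⟩ := A.r28 2 8 5 rfl rfl rfl v hv v1 w hw w1
  have k6 := (un56 (mul_mem (inI hv.1) (inI h4.1)) (mul_mem (inI hv.1) (inI (muV' hv.1 v1 hw 4).1))
    hc hc' h6.1 (muV' hw.1 w1 hv 6).1 (e.symm.trans e')).2
  obtain ⟨-, l2⟩ := la_mu A hw w1
  obtain ⟨d0, hd0, k1⟩ := (mk8 x).key 1 a ha a1 w hw.1
  obtain ⟨d', hd', k2⟩ := (mk8 x).key' 8 w hw.1 w1 a ha
  obtain ⟨d, hd, f, hf, rfl⟩ := (mk8 x).splitR 3 7 (by omega) d0 (upI hd0)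
  have h2 := muV' ha a1 hw 2
  have k3 : w⁻¹ * a * w = a * (((x.mu 1 a)⁻¹ * w * x.mu 1 a) * d) * f := by
    calc _ = a * (a⁻¹ * w⁻¹ * a) * w⁻¹⁻¹ := by group
      _ = _ := by rw [invV A hw, k1, invV A hw, mul_assoc, mul_assoc _ w, A.sqV 8 rfl w hw]; group
  have ef := (unR (i := 2) (upI hd') (mul_mem (inI h2.1) (upI hd)) (mu8' hw.1 w1 ha 7) hf
    (mul_left_cancel (a := a) (by rw [← mul_assoc, ← k2, k3, mul_assoc a]))).2
  have f1 : f ≠ 1 := fun n => a1 ((conj_eq_one_iff (a := (x.mu 8 w)⁻¹)).1 (by rw [inv_inv, ef, n]))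
  have mf : x.mu 7 f = (x.mu 8 w)⁻¹ * x.mu 1 a * x.mu 8 w := by
    have := ((mk8 x).conj 1 7 (x.mu 8 w)⁻¹ (fun y => ⟨fun h => by simpa using mu8' hw.1 w1 h 7,
      fun h => by simpa [mul_assoc] using mu8 hw.1 w1 h 1⟩) (fun y => ⟨fun h => by
        simpa using mu8' hw.1 w1 h (7 + (8 : ℕ)), fun h => by
        simpa [mul_assoc] using mu8 hw.1 w1 h (1 + (8 : ℕ))⟩) a ha a1).2.2
    rwa [inv_inv, ef] at this
  have hz := muV' ha a1 h6 4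
  have z1 := A.r27 6 1 rfl (by omega) v6 h6 a ha a1
  have z2 := A.r27 2 7 rfl (by omega) v hv f hf f1
  have cz : Commute ((x.mu 1 a)⁻¹ * v6 * x.mu 1 a) (x.mu 8 w) :=
    ((cv hz (mv (x.ka_mem hw.1 w1) 0)).mul_right (cv hz hw.1)).mul_right (cv hz (mv (x.la_mem hw.1 w1) 0))
  rw [mf, show ((x.mu 8 w)⁻¹ * x.mu 1 a * x.mu 8 w)⁻¹ * v * ((x.mu 8 w)⁻¹ * x.mu 1 a * x.mu 8 w) =
    (x.mu 8 w)⁻¹ * ((x.mu 1 a)⁻¹ * (x.mu 8 w * v * (x.mu 8 w)⁻¹) * x.mu 1 a * x.mu 8 w) by group,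
    show x.mu 8 w * v * (x.mu 8 w)⁻¹ = v6 by rw [k6, l2], cz.eq, inv_mul_cancel_left] at z2
  have t := cm_cj w (cv hv ha)
  rw [e, k3] at t
  generalize (x.mu 1 a)⁻¹ * v6 * x.mu 1 a = z at *
  generalize (x.mu 1 a)⁻¹ * w * x.mu 1 a = d2 at *
  have hD : d2 * d ∈ II x.U 2 6 := mul_mem (inI h2.1) (upI hd)
  have t1 := (cvI h4 (mul_mem (mul_mem (inI ha) (upI hD)) (inI hf) : _ ∈ II x.U 1 7)).inv_left.mul_left t
  rw [← (cv h4 hv.1).eq, show v4⁻¹ * (v4 * v * c * v6) = v * c * v6 by group] at t1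
  have t2 := ((cv hv ha).mul_right (cvI hv hD)).eq
  have t3 := ((((cv h2 hc).symm.mul_right (c5I A hH hC hc (upI hd))).mul_right
    (c5I A hH hC hc (inI hf))).mul_right (cv hz hc).symm.inv_right).eq
  have t4 := (((cvI h6 hD).mul_right (cv h6 hf)).mul_right (cv h6 hz.1).inv_right).eq
  have t5 := (cvI hz (mul_mem (upI hD) (inI hf) : _ ∈ II x.U 1 7)).inv_left.eq
  have ht := cjI (inv_mem ha) (inv_mem hc) 2 4
  have t6 := (cvI h6 ht).eq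
  have t7 := (cvI hz ht).eq
  rw [inv_inv, inv_inv] at t6 t7
  have : a⁻¹ * c⁻¹ * a * c = 1 := by
    generalize hT : a⁻¹ * c⁻¹ * a * c = τ at *
    have s : a * τ * (d2 * d * f) = a * 1 * (d2 * d * f) :=
      calc _ = a * z⁻¹ * (z * τ) * z⁻¹ * z⁻¹ * (z * z) * (d2 * d * f) := by group
        _ = a * z⁻¹ * τ * (z * (d2 * d * f)) := by rw [t7]; group
        _ = a * z⁻¹ * τ * (z⁻¹ * (d2 * d * f)) := by rw [invV A hz]
        _ = a * (v6 * z)⁻¹ * (v6 * τ) * (d2 * d * f * z⁻¹) := by rw [t5]; group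
        _ = v6⁻¹ * a * τ * (v6 * (d2 * d * f * z⁻¹)) := by rw [← z1, t6]; group
        _ = v6⁻¹ * c⁻¹ * a * (c * (d2 * d * f * z⁻¹)) * v6 := by rw [t4, ← hT]; group
        _ = v6⁻¹ * c⁻¹ * v⁻¹ * (v * (a * (d2 * d))) * (f * z⁻¹) * c * v6 := by rw [t3]; group
        _ = (v * c * v6)⁻¹ * (a * (d2 * d) * f * (v * c * v6)) := by
          rw [t2, ← inv_mul_cancel_left v z, ← z2]; group
        _ = _ := by rw [← t1.eq]; group
    exact mul_left_cancel (mul_right_cancel s)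
  calc a * c = c * a * (a⁻¹ * c⁻¹ * a * c) := by group
    _ = _ := by rw [this, mul_one]

omit A hH hC in
theorem jobC (hA : JobA) : JobC := by
  intro G _ _ x hH hC
  have A := hA G x hH
  refine ⟨fun i j hi hj a ha b hb => ?_, fun i j hi hj a ha b hb => ?_, fun i j k hi hj a ha b hb => ?_,
    fun u hu w hw => f25 A hH hC hu hw, fun w hw w1 c hc => onto A hC hw w1 hc⟩
  · have h := Hy_sh hH (c := i - 5) (by omega)
    have := c5 (hA G _ h) h (Cd_sh hC (by omega)) (c := a) (mv ha _)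
    rcases hj with rfl | rfl
    exacts [this.2 b (mv hb _), this.1 b (mv hb _)]
  · have key : ∀ i : ℤ, i % 2 = 1 → ∀ a ∈ x.U i, ∀ b ∈ x.U (i + 4), Commute a b := fun i hi a ha b hb =>
      have h := Hy_sh hH (c := i - 1) (by omega)
      c15 (hA G _ h) h (Cd_sh hC (by omega)) (mv ha _) (mv hb _)
    rcases hj with rfl | rfl
    exacts [key i hi a ha b hb, (key (i - 4) (by omega) b hb a (mv ha _)).symm]
  · rcases hj with ⟨rfl, rfl⟩ | ⟨rfl, rfl⟩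
    · have h := Hy_mir hH (c := i + 5) (by omega)
      have := c52 (hA G _ h) h (Cd_mir hC (by omega)) (c := a) (u := b) (mir_U x _ _ ▸ mv ha _)
        (mir_U x _ _ ▸ mv hb _)
      rwa [V_mir, show i + 5 - 4 = i + 1 by ring] at this
    · have h := Hy_sh hH (c := i - 5) (by omega)
      have := c52 (hA G _ h) h (Cd_sh hC (by omega)) (c := a) (u := b) (mv ha _) (mv hb _)
      rwa [V_sh, show 4 + (i - 5) = i - 1 by ring] at this

end H7.O8
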