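import Cfsg.Agent.H63.A8Def
import Cfsg.Agent.H67.SAInd

/-! A8S-HS (row S3152): in the Higman-Sims case `S = W U ⟨t⟩` is a Sylow `2`-subgroup of `G`. -/

set_option autoImplicit false

namespace H7.A8HS

open H64.SG (O2 Syl Cz Cs Ns cjs Is2 Inv2 mem_Cz)
open H67.SA H63.A8 Subgroup

universe u

theorem fixV : ∀ a ∈ H32.HS.A, tau a = a → a ∈ H32.HS.V := by decide +kernel

theorem ontoV : ∀ s ∈ H32.HS.V, ∃ a, a ∈ H32.HS.A ∧ tau a * a⁻¹ = s := by decide +kernel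

theorem er_ne_ec {n : ℕ} {F : Type} [Field F] [Finite F] (hn : 2 ≤ n) : Er n F ≠ Ec n F := fun h => by
  have h1 := card_ZZ (n := n) (F := F) (by omega)
  rw [← Er_inf_Ec, ← h, inf_idem, card_Er] at h1
  have := Nat.pow_lt_pow_right (one_lt_card (F := F)) (show 1 < n by omega)
  rw [pow_one] at this; omega

/-- An automorphism normalising `U` and `Er` is diagonal. -/
theorem out_eq_one {n : ℕ} {F : Type} [Field F] [Finite F] (hp : Par8 n F) (A : FA n F)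
    {β : Au n F} (h1 : β ∈ St (UU n F)) (h2 : β ∈ St (Er n F)) : out n F β = 1 := by
  have hz := (A.nu β h1).1
  refine Prod.ext (A.fz β fun z hz' => ?_) ?_
  · obtain ⟨c, rfl⟩ := mem_ZZ.1 hz'
    obtain ⟨d, hd⟩ := mem_ZZ.1 ((hz _).1 hz')
    have h0 : (0 : Fin (n + 1)) ≠ la n := zero_ne_la (by have := hp.three; omega)
    rcases hp.fld c with rfl | rfl
    · simp
    · rcases hp.fld d with rfl | rfl
      · rw [x_zero, MulEquiv.map_eq_one_iff] at hd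
        rw [hd, map_one]
      · exact hd
  · rcases (A.nz β hz).2 with h | h
    · exact h.1
    · exact absurd (Subgroup.ext fun g => ((h2 g).trans (h.2.2 g).symm)) (er_ne_ec hp.two_le)

section

variable {n : ℕ} {F : Type} [Field F] [Finite F] [CharP F 2] {G : Type u} [Group G] [Finite G]
  {e : SLn n F →* G} {t : G} {W : Subgroup G} {φ : H32.HS.U →* G}

theorem isP_S (h : B1 e t) (m : HM e t W φ) : IsPGroup 2 ↥(φ.range ⊔ zpowers t) := by
  have h1 : IsPGroup 2 φ.range := by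
    rw [MonoidHom.range_eq_map]
    exact ((IsPGroup.of_card (p := 2) (n := 9) (by rw [H32.HS.card]; norm_num)).to_subgroup ⊤).map φ
  refine h1.to_sup_of_normal_left' (H64.SG.is2_of_sq h.inv.1).zpowers (zpowers_le.2 ?_)
  refine H98.mem_normalizer_of_cj_le ?_
  rintro _ ⟨_, ⟨s, rfl⟩, rfl⟩
  exact ⟨tau s, (m.ta s).symm⟩

theorem W_inf (h : B1 e t) (m : HM e t W φ) : W ⊓ Cz t = (Er n F).map e := by
  refine le_antisymm ?_ (le_inf ?_ ((map_le_range _ _).trans h.range_le))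
  · rw [← m.mA, ← m.mV]
    rintro _ ⟨⟨a, ha, rfl⟩, hc⟩
    refine mem_map_of_mem φ (fixV a ha (m.inj ?_))
    rw [← m.ta, mem_Cz.1 hc, mul_inv_cancel_right]
  · rw [← m.mA, ← m.mV]; exact map_mono H32.HS.V_le_A

theorem exists_w (h : B1 e t) (m : HM e t W φ) {v : G} (hv : v ∈ (Er n F).map e) :
    ∃ w ∈ W, w * t * w⁻¹ = t * v := by
  rw [← m.mV] at hv
  obtain ⟨s, hs, rfl⟩ := hv
  obtain ⟨a, ha, rfl⟩ := ontoV s hs
  refine ⟨φ a, m.mA ▸ mem_map_of_mem φ ha, ?_⟩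
  rw [map_mul, map_inv, ← m.ta, h.inv_eq,
    show t * (t * φ a * t * (φ a)⁻¹) = t * t * (φ a * t * (φ a)⁻¹) by group, h.inv.1, one_mul]

/-- A `2`-element of `C(t)` normalising `S` and `W` lies in `S`. -/
theorem mem_S (hp : Par8 n F) (A : FA n F) (h : CE e t) (m : HM e t W φ) {y : G} (h2 : Is2 y)
    (hc : y ∈ Cz t) (hS : y ∈ Ns (φ.range ⊔ zpowers t)) (hW : y ∈ Ns W) :
    y ∈ φ.range ⊔ zpowers t := by
  have hn := hp.two_le
  have hU : H98.IsSyl 2 ((UU n F).map e) e.range := H64.SG.syl_iff.1 syl_map_UU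
  have hUS : (UU n F).map e ≤ φ.range ⊔ zpowers t := (m.rng ▸ le_sup_right).trans le_sup_left
  have e1 : (φ.range ⊔ zpowers t) ⊓ e.range = (UU n F).map e :=
    hU.eq_of_le ((isP_S h.toB1 m).to_le inf_le_left) (le_inf hUS (map_le_range _ _)) inf_le_right
  have n1 : y ∈ Ns ((UU n F).map e) := e1 ▸ inf_normalizer_le_normalizer_inf ⟨hS, h.cz hc⟩
  have n2 : y ∈ Ns ((Er n F).map e) :=
    W_inf h.toB1 m ▸ inf_normalizer_le_normalizer_inf ⟨hW, le_normalizer hc⟩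
  obtain ⟨β, hβ⟩ := exists_ind hn h.ker (h.cz hc)
  have ho := out_eq_one hp A (hβ.st h.ker isP_UU n1)
    (hβ.st h.ker (isP_UU.to_le (Er_le_QQ.trans QQ_le_UU)) n2)
  obtain ⟨s, hs, rfl, k, hk, k2, e2, -⟩ := hβ.inner hn h.ker ho h2
  have hsU : e s ∈ (UU n F).map e := by
    refine zpowers_le.1 (hU.le_of_le_normalizer' (hs.map e).zpowers (zpowers_le.2 ⟨s, rfl⟩)
      (zpowers_le.2 ?_))
    exact map_mem_Ns (conj_mem_St.1 (hβ.st h.ker isP_UU n1))
  have hkt : t * k = k * t := by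
    have e3 : k = y * (e s)⁻¹ := by rw [e2, mul_inv_cancel_right]
    exact mem_Cz.1 (e3 ▸ mul_mem hc (inv_mem (h.toB1.mem_Cz s)))
  rw [e2]
  refine mul_mem ?_ (hUS hsU)
  rcases h.eq_or hk k2 hkt with rfl | rfl
  · exact one_mem _
  · exact mem_sup_right (mem_zpowers _)

end

theorem jobHS' (A : J8FA) : J8HS.{u} := by
  intro HC HT HB n F _ _ _ hp G _ _ e t w₁ w₂ w₃ φ h c m
  have hc := HC n F hp G e t w₁ w₂ w₃ φ h c m
  have ht := HT n F hp G e t w₁ w₂ w₃ φ h c m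
  have hb := HB n F hp G e t w₁ w₂ w₃ φ h c m
  have hWS : WW w₁ w₂ w₃ ≤ φ.range ⊔ zpowers t := (m.rng ▸ le_sup_left).trans le_sup_left
  refine H64.SG.syl_iff.2 (H98.isSyl_of_isSyl_normalizer ⟨le_inf le_top le_normalizer,
    isP_S h.toB1 m, fun Q hQ h1 h2 => le_antisymm (fun y hy => ?_) h1⟩)
  have hy1 : y ∈ Ns (φ.range ⊔ zpowers t) := (h2 hy).2
  have hv : t⁻¹ * (y * t * y⁻¹) ∈ (Er n F).map e := by
    by_contra hv
    exact hb (ht y (hc hy1) hv)
  obtain ⟨w, hw, e1⟩ := exists_w h.toB1 m hv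
  rw [mul_inv_cancel_left] at e1
  have h3 : w⁻¹ * y ∈ φ.range ⊔ zpowers t := by
    refine mem_S hp (A n F hp) h m
      (H64.SG.isPGroup_iff_is2.1 hQ _ (mul_mem (inv_mem (h1 (hWS hw))) hy)) (mem_Cz.2 ?_)
      (mul_mem (inv_mem (le_normalizer (hWS hw))) hy1)
      (mul_mem (inv_mem (le_normalizer hw)) (hc hy1).1)
    calc t * (w⁻¹ * y) = w⁻¹ * (w * t * w⁻¹) * y := by group
      _ = w⁻¹ * y * t := by rw [e1]; group
  simpa using mul_mem (hWS hw) h3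

theorem jobHS (A : J8FA) (_AB : J8AB.{u}) : J8HS.{u} := jobHS' A

end H7.A8HS
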