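import Cfsg.Agent.H67.SPIII
import Cfsg.Agent.H72.SPFR

/-! STD-SP chapter III, slot `T3`: additivity off the line `F u`. -/

set_option autoImplicit false
set_option linter.unusedSectionVars false
set_option linter.unusedSimpArgs false

namespace H7.SP3

open H67.UA hiding Par sg
open H67.SP H72.SPF
open H67.SA (cm)

universe u

variable {n : ℕ} {F : Type} [Field F] [StarRing F] [TrivialStar F] [CharP F 2] [Finite F] [FV n F]
  {G : Type u} [Group G] {e : XU n F →* G} {τ : Vn n F → G} {β : F} {t : G} {u v w z : Vn n F}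

/-- perpendicularity -/
local macro "hz" : tactic =>
  `(tactic| simp only [hf_add_left, hf_add_right, hf_smul_left, hr, hx, hf_zero_left, hf_zero_right,
    mul_zero, add_zero, *])

/-- identities in `S²(W)` -/
local macro "xe" : tactic =>
  `(tactic| (
    refine ac_ext fun y => ?_
    simp (disch := hz) only [m2, m3, ac_mul, ac_one, aE, hf_add_left, hf_add_right, hf_smul_left, hr,
      hx, hf_zero_left, hf_zero_right, *]
    ext i
    simp only [Pi.add_apply, Pi.smul_apply, smul_eq_mul, Pi.zero_apply]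
    grind))

theorem mvE (h : R0 e τ) {a b : Vn n F} (c : F) (h1 : hf b a = 0) (h2 : hf w a = 0)
    (h3 : hf w b = 0) (x : G) : τ w * (e (EE a b c) * x) = e (EE a b c) * (τ w * x) := by
  rw [← mul_assoc, ← h.fix (ac_EE_fix (FV.ok a b c h1) h2 h3), mul_assoc]

theorem swp (h : R1 e τ β) (huv : hf u v = 0) (x : G) :
    τ u * (τ v * x) = e (qq (β • v) u) * (τ v * (τ u * x)) := by
  rw [← h.cmp u v huv, cm]; group

theorem sq' (h : Sq e τ β) (x : G) : τ u * (τ u * x) = e (Tc β u) * x := by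
  rw [← h u, mul_assoc]

theorem tail {a b : G} (h : ∀ x, a * x = b * x) : a = b := mul_right_cancel (h 1)

theorem ssq (h : R1 e τ β) (hq : Sq e τ β) (huv : hf u v = 0) :
    sg e τ β u v * sg e τ β u v = 1 := tail fun x => by
  have hvu := hf_symm huv
  simp only [sg, map_mul, mul_assoc]
  simp (disch := hz) only [mvE h.toR0]
  rw [swp h (u := v) (v := u + v) (by hz), swp h (u := v) (v := u) (by hz)]
  simp (disch := hz) only [mvE h.toR0]
  rw [swp h (u := u) (v := u + v) (by hz)]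
  simp (disch := hz) only [mvE h.toR0, sq' hq]
  simp only [← mul_assoc, ← map_mul]
  rw [← map_one e]
  congr 2
  xe

theorem ssym (h : R1 e τ β) (huv : hf u v = 0) :
    sg e τ β v u = sg e τ β u v * e (qq (β • v) u) := tail fun x => by
  have hvu := hf_symm huv
  simp only [sg, map_mul, mul_assoc]
  rw [add_comm v, swp h (u := v) (v := u) (by hz)]
  simp (disch := hz) only [mvE h.toR0]
  simp only [← mul_assoc, ← map_mul]
  congr 5
  xe

theorem stau (h : R1 e τ β) (p : P3 u v w) :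
    τ w * sg e τ β u v = sg e τ β u v * τ w := tail fun x => by
  obtain ⟨h1, h2, h3⟩ := p
  have h4 := hf_symm h1
  have h5 := hf_symm h2
  have h6 := hf_symm h3
  simp only [sg, map_mul, mul_assoc]
  rw [swp h (u := w) (v := u + v) (by hz), swp h (u := w) (v := u) (by hz),
    swp h (u := w) (v := v) (by hz)]
  simp (disch := hz) only [mvE h.toR0]
  simp only [← mul_assoc, ← map_mul]
  congr 6
  xe

theorem sone (h : R1 e τ β) (huv : hf u v = 0) :
    sg e τ β u (v + u) = sg e τ β u v * e (Tc β u) := tail fun x => by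
  have hvu := hf_symm huv
  simp only [sg, map_mul, mul_assoc]
  rw [add_comm v u, ← add_assoc, v_add_self, zero_add, swp h (u := u) (v := u + v) (by hz)]
  simp (disch := hz) only [mvE h.toR0]
  rw [swp h (u := v) (v := u + v) (by hz), swp h (u := v) (v := u) (by hz)]
  simp (disch := hz) only [mvE h.toR0]
  simp only [← mul_assoc, ← map_mul]
  congr 5
  xe

theorem sfix (h : R0 e τ) {p : XU n F} (h1 : ac p u = u) (h2 : ac p v = v) :
    e p * sg e τ β u v = sg e τ β u v * e p := by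
  have := h.sg_eqv β p u v
  rwa [h1, h2, mul_inv_eq_iff_eq_mul] at this

theorem m2_conj (huv : hf u v = 0) (g : XU n F) (a b c : F) :
    g * m2 u v a b c * g⁻¹ = m2 (ac g u) (ac g v) a b c := by
  have hvu := hf_symm huv
  rw [m2, m2, ← jT, ← jT, ← ac_smul, qq, qq, ← jE (by hz)]
  group

/-- The standard trick for a product of two `sg`. -/
theorem st (aw : AW e t) (h : R1 e τ β) (ht : Tt e τ t) (huv : hf u v = 0) (l : Li u v)
    {a₁ b₁ a₂ b₂ : Vn n F} (h1 : P3 a₁ b₁ u) (h2 : P3 a₂ b₂ u) (hq : qq b₂ a₂ = qq b₁ a₁)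
    (hp : ∀ p, ac p u = u → ac p v = v → ac p a₁ = a₁ ∧ ac p b₁ = b₁ ∧ ac p a₂ = a₂ ∧ ac p b₂ = b₂) :
    ∃ a b c, sg e τ β a₁ b₁ * sg e τ β a₂ b₂ = e (m2 u v a b c) := by
  have hvu := hf_symm huv
  have k := hf_symm h1.uv
  have s1 := mul_inv_eq_iff_eq_mul.1 (h.toR0.sv aw.cen ht β _ _ h1.uv)
  have s2 := mul_inv_eq_iff_eq_mul.1 (h.toR0.sv aw.cen ht β _ _ h2.uv)
  have s3 := sfix (β := β) h.toR0 (ac_EE_self (FV.ok a₁ b₁ 0 k)) (ac_EE_fix (FV.ok a₁ b₁ 0 k) k (hx _))
  obtain ⟨a, b, c, k1 | k1⟩ := aw.v2 (sg e τ β a₁ b₁ * sg e τ β a₂ b₂) u v huv l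
    (by rw [mul_assoc, s2, hq, ← mul_assoc, ← mul_assoc, s1, mul_assoc _ _ (e _), ← s3, ← mul_assoc,
      mul_assoc t, ← map_mul, sqE k, map_one, mul_one, mul_assoc]) fun p p1 p2 => by
      obtain ⟨p3, p4, p5, p6⟩ := hp p p1 p2
      rw [mul_assoc, ← sfix h.toR0 p5 p6, ← mul_assoc, ← sfix h.toR0 p3 p4, mul_assoc]
  · exact ⟨a, b, c, k1⟩
  · have k2 : τ u * (t * e (m2 u v a b c)) = t * e (m2 u v a b c) * τ u := by
      rw [← k1, ← mul_assoc, stau h h1, mul_assoc, stau h h2, mul_assoc]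
    have k3 : ac (m2 u v a b c) u = u := by
      simp (disch := hz) only [m2, ac_mul, ac_EE_fix (FV.ok _ _ _ _)]
    rw [mul_assoc, h.fix k3, ← mul_assoc, ← mul_assoc, mul_left_inj, mul_inv_eq_iff_eq_mul.1 (ht u),
      mul_left_inj, mul_eq_left, map_eq_one_iff _ aw.inj] at k2
    exact absurd (Tc_eq_one (fun h0 => one_ne_zero (l 1 0 (by simp [h0])).1) (hx u) (star_one F) k2)
      one_ne_zero

/-- linear relations -/
local macro "vv " h:term : tactic =>
  `(tactic| (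
    ext i
    have := congrFun $h i
    simp only [Pi.add_apply, Pi.smul_apply, smul_eq_mul, Pi.zero_apply] at this ⊢
    grind))

theorem dep (l : Li u v) (h : ¬ Li3 u v w) : ∃ a b : F, w = a • u + b • v := by
  simp only [Li3, not_forall] at h
  obtain ⟨a, b, c, h1, h2⟩ := h
  have hc : c ≠ 0 := by
    rintro rfl
    exact h2 ⟨(l a b (by simpa using h1)).1, (l a b (by simpa using h1)).2, rfl⟩
  exact ⟨c⁻¹ * a, c⁻¹ * b, by vv h1⟩

theorem l3a (l : Li3 u v z) (a b : F) : Li3 u v (a • u + b • v + z) := fun x y c h => by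
  obtain ⟨h1, h2, rfl⟩ := l (x + c * a) (y + c * b) c (by vv h)
  exact ⟨by simpa using h1, by simpa using h2, rfl⟩

theorem l3b (l : Li3 u v z) {a b : F} (l' : Li u (a • u + b • v)) : Li3 u (a • u + b • v) z :=
  fun x y c h => by
  obtain ⟨-, -, rfl⟩ := l (x + y * a) (y * b) c (by vv h)
  exact ⟨(l' x y (by simpa using h)).1, (l' x y (by simpa using h)).2, rfl⟩

theorem l3s (l : Li3 u v z) : Li3 u z v := fun x y c h => by
  obtain ⟨h1, h2, h3⟩ := l x c y (by vv h)
  exact ⟨h1, h3, h2⟩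

theorem l32 (l : Li3 u v z) : Li u v := fun x y h => by
  obtain ⟨h1, h2, -⟩ := l x y 0 (by simpa using h)
  exact ⟨h1, h2⟩

theorem l2s (l : Li u v) : Li v u := fun x y h => (l y x (by rwa [add_comm])).symm

variable [FW n F] [hp : Par n F]

include hp in
theorem ex3 (huv : hf u v = 0) (l : Li u v) : ∃ z, P3 u v z ∧ Li3 u v z := by
  have h5 := hp.five
  obtain ⟨g, rfl, rfl⟩ := FW.w2 u v huv l
  have h1 := v1 (n := n) (F := F)
  refine ⟨ac g (ev ⟨2, by omega⟩), ⟨huv, ?_, ?_⟩, fun a b c h => ?_⟩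
  · rw [hf_ac, hfe, if_neg (by simp; omega)]
  · rw [hf_ac, hfe, if_neg (by rw [h1]; simp; omega)]
  · have h2 : a • ev 0 + b • ev 1 + c • ev ⟨2, by omega⟩ = (0 : Vn n F) :=
      ac_inj g (by rw [ac_add, ac_add, ac_smul, ac_smul, ac_smul, h, ac_zero])
    have h3 : c = 0 := by
      have := congrFun h2 ⟨2, by omega⟩
      simp only [Pi.add_apply, Pi.smul_apply, ev_apply, Fin.ext_iff, h1] at this
      simpa using this
    rw [h3, zero_smul, add_zero] at h2
    exact ⟨(li01 a b h2).1, (li01 a b h2).2, h3⟩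

include hp in
theorem saddi (h : R2 e τ β) (p : P3 u v w) (l1 : Li u v) (l2 : Li u w) (l3 : Li u (v + w)) :
    sg e τ β u (v + w) = sg e τ β u v * sg e τ β u w := by
  by_cases l : Li3 u v w
  · exact h.sadd3 u v w p l
  obtain ⟨a, b, rfl⟩ := dep l1 l
  obtain ⟨z, ⟨h1, h2, h3⟩, l4⟩ := ex3 p.uv l1
  have h4 := hf_symm h1
  have e1 : v + (a • u + b • v) = a • u + (1 + b) • v := by module
  have k1 := h.sadd3 u (a • u + (1 + b) • v) z ⟨by hz, h2, by hz⟩ (l3b l4 (e1 ▸ l3))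
  rw [← e1, add_assoc, h.sadd3 u v _ ⟨h1, by hz, by hz⟩ (l3a l4 a b),
    h.sadd3 u _ z ⟨by hz, h2, by hz⟩ (l3b l4 l2), ← mul_assoc] at k1
  exact (mul_right_cancel k1).symm

include hp in
theorem phi1 (aw : AW e t) (h : R2 e τ β) (ht : Tt e τ t) (a : F) (huv : hf u v = 0) (l : Li u v) :
    ∃ c, sg e τ β u (v + a • u) = sg e τ β u v * e (Tc c u) := by
  obtain ⟨z, p, l4⟩ := ex3 huv l
  have k : ∀ {v : Vn n F}, hf u v = 0 → Li u v →
      ∃ x y c, sg e τ β u v * sg e τ β u (v + a • u) = e (m2 u v x y c) := fun {v} huv l => by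
    have hvu := hf_symm huv
    exact st aw h.toR1 ht huv l ⟨huv, hx _, hvu⟩ ⟨by hz, hx _, by hz⟩ (sh _ _ _ _) fun p p1 p2 =>
      ⟨p1, p2, p1, by rw [ac_add, ac_smul, p1, p2]⟩
  obtain ⟨h1, h2, h3⟩ := p
  have h4 := hf_symm h1
  have h5 := hf_symm h2
  have h6 := hf_symm h3
  obtain ⟨x, y, c, k1⟩ := k huv l
  obtain ⟨x', y', c', k2⟩ := k h2 (l32 (l3s l4))
  have k3 := h.sadd3 u v (z + a • u) ⟨h1, by hz, by hz⟩ (by simpa [add_comm] using l3a l4 a 0)
  rw [add_left_comm, h.sadd3 u z (v + a • u) ⟨h2, by hz, by hz⟩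
    (by simpa [add_comm] using l3a (l3s l4) a 0)] at k3
  have k4 := h.sadd3 u v z ⟨h1, h2, h3⟩ l4
  rw [add_comm, h.sadd3 u z v ⟨h2, h1, h6⟩ (l3s l4)] at k4
  have k5 : sg e τ β u v * sg e τ β u (v + a • u) = sg e τ β u z * sg e τ β u (z + a • u) := by
    apply mul_left_cancel (a := sg e τ β u z)
    rw [← mul_assoc, k4, mul_assoc, k3, ← mul_assoc, ← mul_assoc, ssq h.toR1 h.sq h1,
      ssq h.toR1 h.sq h2]
  rw [k1, k2] at k5
  have k6 := aw.inj k5
  obtain ⟨-, rfl, -, rfl, -⟩ := aw.uq3 u v z x y 0 c 0 0 x' 0 y' 0 c' 0 ⟨h1, h2, h3⟩ l4 (by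
    calc _ = m2 u v x y c := by xe
      _ = m2 u z x' y' c' := k6
      _ = _ := by clear k6; xe)
  refine ⟨x, ?_⟩
  rw [show Tc x u = m2 u v x 0 0 by clear k6; xe, ← k1, ← mul_assoc, ssq h.toR1 h.sq h1, one_mul]

include hp in
theorem phi (aw : AW e t) (h : R2 e τ β) (ht : Tt e τ t) : ∃ f : F → F, f 1 = β ∧
    ∀ u v a, hf u v = 0 → Li u v → sg e τ β u (v + a • u) = sg e τ β u v * e (Tc (f a) u) := by
  have k : ∀ a : F, ∃ c, (a = 1 → c = β) ∧ ∀ u v, hf u v = 0 → Li u v →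
      sg e τ β u (v + a • u) = sg e τ β u v * e (Tc c u) := fun a => by
    by_cases ha : a = 1
    · exact ⟨β, fun _ => rfl, fun u v huv _ => by rw [ha, one_smul, sone h.toR1 huv]⟩
    obtain ⟨c, hc⟩ := phi1 aw h ht a p01 li01
    refine ⟨c, fun h => absurd h ha, fun u v huv l => ?_⟩
    obtain ⟨g, rfl, rfl⟩ := FW.w2 u v huv l
    rw [← ac_smul, ← ac_add, ← h.sg_eqv, ← h.sg_eqv, hc, ← jT, map_mul, map_mul, map_inv]
    group
  choose f f1 f2 using k
  exact ⟨f, f1 1 rfl, fun u v a => f2 a u v⟩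

include hp in
theorem scal (aw : AW e t) (h : R2 e τ β) (ht : Tt e τ t) {a : F} (ha : a ≠ 0) : ∃ b : F,
    ∀ u v, hf u v = 0 → Li u v → sg e τ β (a • u) v = sg e τ β u (a • v) * e (qq (b • v) u) := by
  obtain ⟨f, -, hf1⟩ := phi aw h ht
  have q := fun {u v : Vn n F} => ssq (u := u) (v := v) h.toR1 h.sq
  obtain ⟨p, r, b, k⟩ : ∃ p r b, ∀ u v, hf u v = 0 → Li u v →
      sg e τ β u (a • v) * sg e τ β (a • u) v = e (m2 u v p r b) := by
    have h1 := p01 (n := n) (F := F)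
    have h2 := hf_symm h1
    obtain ⟨p, r, b, k⟩ := st aw h.toR1 ht h1 li01 (a₁ := ev 0) (b₁ := a • ev 1) (a₂ := a • ev 0)
      (b₂ := ev 1) ⟨by hz, by hz, by hz⟩ ⟨by hz, by hz, by hz⟩ (by rw [qq_smul, star_trivial])
      fun p p1 p2 => ⟨p1, by rw [ac_smul, p2], by rw [ac_smul, p1], p2⟩
    refine ⟨p, r, b, fun u v huv l => ?_⟩
    obtain ⟨g, rfl, rfl⟩ := FW.w2 u v huv l
    rw [← ac_smul, ← ac_smul, ← h.sg_eqv, ← h.sg_eqv, ← m2_conj h1, map_mul, map_mul, map_inv, ← k]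
    group
  have k' : ∀ u v, hf u v = 0 → Li u v →
      sg e τ β (a • u) v = sg e τ β u (a • v) * e (m2 u v p r b) := fun u v huv l => by
    rw [← k u v huv l, ← mul_assoc, q (by hz), one_mul]
  have h1 := p01 (n := n) (F := F)
  have l := li01 (n := n) (F := F)
  generalize (ev 0 : Vn n F) = u at h1 l
  generalize (ev 1 : Vn n F) = v at h1 l
  have h2 := hf_symm h1
  have hr : r = 0 := by
    have k1 := k' u (v + u) (by hz) (l2s (li_add (l2s l)))
    rw [smul_add, hf1 u (a • v) a (by hz) (by simpa using li_sm l one_ne_zero ha),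
      show v + u = v + a⁻¹ • a • u by rw [inv_smul_smul₀ ha],
      hf1 (a • u) v a⁻¹ (by hz) (by simpa using li_sm l ha one_ne_zero), inv_smul_smul₀ ha,
      k' u v h1 l, mul_assoc, mul_assoc, mul_right_inj, ← map_mul, ← map_mul] at k1
    have k2 := aw.inj k1
    have k3 := (aw.uq2 u v (p + a * a * f a⁻¹) r b (f a + p + r) r (b + r) h1 l (by
      calc _ = m2 u v p r b * Tc (f a⁻¹) (a • u) := by clear k2; xe
        _ = _ := k2
        _ = _ := by clear k2; xe)).2.2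
    simpa using k3
  have hp : p = r := by
    have k1 := k' v u h2 (l2s l)
    rw [ssym h.toR1 (u := u) (v := a • v) (by hz), ssym h.toR1 (u := a • u) (v := v) (by hz),
      k' u v h1 l, mul_assoc, mul_assoc, mul_right_inj, ← map_mul, ← map_mul] at k1
    have k2 := aw.inj k1
    have k3 := (aw.uq2 u v 0 0 (β * a) (p + r) (p + r) (β * a) h1 l (by
      calc _ = qq (β • a • v) u := by clear k2; xe
        _ = _ := k2
        _ = _ := by clear k2; xe)).1
    grind
  exact ⟨b, fun u v huv l => by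
    have := hf_symm huv
    rw [k' u v huv l, hp, hr]; congr 2; xe⟩

theorem jobT3 : JobT3.{u} := by
  intro n F _ _ _ _ _ _ G _ _ e t b _ aw τ β h ht
  refine ⟨h, fun u v => ssq h.toR1 h.sq, fun u v => ssym h.toR1, fun u v w => stau h.toR1,
    fun u v w => saddi h, phi aw h ht, fun a u v huv l ha => ?_⟩
  have hr := rt_ne ha
  obtain ⟨c, k⟩ := scal aw h ht hr
  have hvu := hf_symm huv
  rw [← rt_sq a, sq, mul_smul, mul_smul, k _ v (by hz) (by simpa using li_sm l hr one_ne_zero),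
    k u _ (by hz) (by simpa using li_sm l one_ne_zero hr), mul_assoc, ← map_mul, mul_eq_left,
    ← map_one e]
  congr 1
  xe

end H7.SP3
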