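import Cfsg.Agent.H78.YUDef

/-! STD-SP endgame, unitary models, slot `RN`: pairs of root elements. -/

set_option autoImplicit false
set_option linter.unusedSectionVars false

namespace H7.YURN

open H64.SG (Cs cjs is2_of_sq)
open H67 H67.UA H64.YE H78.YU Subgroup H59.UM
open H67.SA (la)

variable {m : ℕ} {K : Type} [Field K] [StarRing K] [CharP K 2] [Finite K] [hp : Par m K]

theorem perp_of {u v : Vn m K} (hu : Iso u) (hv : Iso v) (h0 : v ≠ 0) {c : K} (hc : star c = c)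
    (c0 : c ≠ 0) (h : TT v * Tc c u = Tc c u * TT v) : hf v u = 0 := by
  have k := congrArg (fun g => ac g v) h
  simp only [ac_mul, ac_Tc hu hc, ac_Tc hv (star_one K), hf_add_left, hf_smul_left,
    show hf v v = 0 from hv, mul_zero, zero_smul, add_zero, zero_add, one_mul, add_eq_left,
    smul_eq_zero, h0, or_false, mul_eq_zero, c0, false_or] at k
  exact k.elim id hf_symm

theorem fix_Cs {g : XU m K} (h : ac g (ev 0) = ev 0) : g ∈ Cs (Z0 m K) := fun z hz => by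
  obtain ⟨c, hc, rfl⟩ := (FV.mem_Z z).1 hz
  have := Tc_conj H59.UM.iso0 hc g
  rw [h, mul_inv_eq_iff_eq_mul] at this
  exact this.symm

theorem mem_of_nli {v : Vn m K} (h : ¬ Li (ev 0) v) : TT v ∈ Z0 m K := by
  simp only [Li, not_forall] at h
  obtain ⟨a, b, h1, h2⟩ := h
  have hb : b ≠ 0 := by
    rintro rfl
    exact h2 ⟨by simpa [ev_ne] using h1, rfl⟩
  have e : v = (b⁻¹ * a) • ev 0 := by
    rw [mul_smul, eq_neg_of_add_eq_zero_left h1, neg_eq_iff_add_eq_zero.2 (v_add_self _), smul_smul,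
      inv_mul_cancel₀ hb, one_smul]
  exact (FV.mem_Z _).2 ⟨_, star_nm (b⁻¹ * a), by rw [e, TT, Tc_smul, mul_one]⟩

theorem jobRN : JobRN := by
  intro m K _ _ _ _ hp R
  have h5 := hp.five
  have h1 := v1 h5
  have i0 : Iso (ev 0 : Vn m K) := H59.UM.iso0
  have i1 : Iso (ev 1 : Vn m K) := by rw [Iso, hf_evv, if_neg (by omega)]
  have p01 : hf (ev 0 : Vn m K) (ev 1) = 0 := by rw [hf_evv, if_neg (by rw [Fin.val_zero]; omega)]
  have a0 : hf (ev (1 : Fin (m + 1)).rev : Vn m K) (ev 0) = 0 := by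
    rw [hf_evv, if_neg (by rw [Fin.val_rev, Fin.val_zero]; omega)]
  have a1 : hf (ev (1 : Fin (m + 1)).rev : Vn m K) (ev 1) = 1 := by
    rw [hf_evv, if_pos (by rw [Fin.val_rev]; omega)]
  have ar : Iso (ev (1 : Fin (m + 1)).rev : Vn m K) := by
    rw [Iso, hf_evv, if_neg (by rw [Fin.val_rev]; omega)]
  have b1 : hf (ev (la m) : Vn m K) (ev 1) = 0 := by rw [hf_evv, if_neg (by rw [Fin.val_last]; omega)]
  have l10 : Li (ev 1 : Vn m K) (ev 0) := fun a b h => by
    have k1 := congrArg (fun x => hf x (ev (1 : Fin (m + 1)).rev)) h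
    have k2 := congrArg (fun x => hf x (ev (la m))) h
    simp only [hf_add_left, hf_smul_left, hf_symm a0, hf_symm b1, hf0L, ← star_hf _ (ev 1), a1, b1,
      hf_zero_left] at k1 k2
    exact ⟨by simpa using k1, by simpa using k2⟩
  refine ⟨fun z hz z1 y hy hc h => ?_, ?_⟩
  · obtain ⟨c, c1, rfl⟩ := (FV.mem_Z z).1 hz
    have c0 : c ≠ 0 := by rintro rfl; exact z1 (EE_zero _)
    obtain ⟨v, v0, vi, rfl⟩ := (R.rt y).1 hy
    have p := perp_of i0 vi v0 c1 c0 hc
    rcases h with h | h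
    · exact eq_inv_of_mul_eq_one_left h ▸ inv_mem hz
    refine mem_of_nli fun l => ?_
    obtain ⟨w, -, wi, e⟩ := (R.rt _).1 h
    obtain ⟨g, g0, g1⟩ := H59.UM.w2 ⟨i0, vi, hf_symm p⟩ l
    have k : ∀ x, (c * hf x (ev 0)) • ev 0 + hf x v • v = hf x w • w := fun x => by
      have := congrArg (fun g => ac g x) e
      simp only [ac_mul, ac_Tc i0 c1, ac_Tc vi (star_one K), ac_Tc wi (star_one K), hf_add_left,
        hf_smul_left, hf_symm p, mul_zero, add_zero, one_mul, add_assoc, add_right_inj] at this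
      exact this
    have k1 := k (ac g (ev (la m)))
    have k2 := k (ac g (ev (1 : Fin (m + 1)).rev))
    rw [show hf (ac g (ev (la m))) (ev 0) = 1 by rw [← hfL0 (n := m), ← hf_ac g (ev _), g0],
      show hf (ac g (ev (la m))) v = 0 by rw [← g1, hf_ac, b1], mul_one, zero_smul, add_zero] at k1
    rw [show hf (ac g (ev (1 : Fin (m + 1)).rev)) (ev 0) = 0 by rw [← a0, ← hf_ac g (ev _), g0],
      show hf (ac g (ev (1 : Fin (m + 1)).rev)) v = 1 by rw [← g1, hf_ac, a1], mul_zero, zero_smul,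
      zero_add, one_smul] at k2
    generalize hf (ac g (ev (la m))) w = α at k1
    generalize hf (ac g (ev (1 : Fin (m + 1)).rev)) w = β at k2
    have k3 := (l (β * c) α (by rw [mul_smul, k1, k2, smul_comm, v_add_self])).2
    rw [k3, zero_smul] at k1
    exact smul_ne_zero c0 (ev_ne 0) k1
  obtain ⟨g, g0, g1⟩ := H59.UM.w2 ⟨i1, i0, hf_symm p01⟩ l10
  have e : g * r0 m K * g⁻¹ = TT (ev 1) := by rw [Tc_conj i0 (star_one K), g0]
  have z0 : r0 m K ∈ Z0 m K := (FV.mem_Z _).2 ⟨1, star_one K, rfl⟩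
  have PT : P0 m K ≤ T2 (Cs (Z0 m K)) := FW.genP _ fun v p => subset_closure
    ⟨fix_Cs (ac_EE_fix (ok_zero p.r (star_one K)) p.p (by simp)),
      is2_of_sq (Tc_mul_self p.r (star_one K))⟩
  refine ⟨g, fun h => ?_, ?_, fun d hd hr hz => ?_, ?_⟩
  · obtain ⟨c, c1, k⟩ := (FV.mem_Z _).1 h
    have := congrArg (fun g => ac g (ev (1 : Fin (m + 1)).rev)) (e.symm.trans k)
    simp only [ac_Tc i0 c1, ac_Tc i1 (star_one K), a0, a1, mul_zero, mul_one, zero_smul, one_smul,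
      add_right_inj] at this
    exact ev_ne 1 this
  · rintro _ ⟨z, hz, rfl⟩
    obtain ⟨c, c1, rfl⟩ := (FV.mem_Z z).1 hz
    refine fix_Cs ?_
    change ac (g * Tc c (ev 0) * g⁻¹) _ = _
    rw [Tc_conj i0 c1, g0, ac_Tc i1 c1, p01, mul_zero, zero_smul, add_zero]
  · obtain ⟨v, v0, vi, rfl⟩ := (R.rt d).1 hr
    have p := perp_of i0 vi v0 (star_one K) one_ne_zero (hd _ z0).symm
    obtain ⟨q, q0, q1⟩ := H59.UM.w2 ⟨i0, vi, hf_symm p⟩ (by_contra fun l => hz (mem_of_nli l))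
    refine ⟨q⁻¹, inv_mem (fix_Cs q0), r0 m K, z0, e.trans ?_⟩
    rw [Tc_conj vi (star_one K), ← q1, ac_inv_ac]
  · refine top_unique (GA.FP.top.ge.trans (sup_le (PT.trans le_sup_left) ?_))
    rw [SS_eq, closure_le]
    rintro _ ⟨a, rfl | rfl⟩
    · have p : Pp (ev (1 : Fin (m + 1)).rev : Vn m K) (a • ev 0) := by
        simpa using (⟨ar, i0, a0⟩ : Pp _ _).smul 1 a
      exact mem_sup_left (PT (ac_EE_fix p.ok (hf_symm a0) (by rw [hf_smul_right, i0, mul_zero])))
    · have p : Pp (ev (0 : Fin (m + 1)).rev : Vn m K) (a • ev 1) := by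
        simpa [rev0] using (⟨isoL, i1, b1⟩ : Pp _ _).smul 1 a
      have f : ac (ss 1 0 a : XU m K) (ev 1) = ev 1 :=
        ac_EE_fix p.ok (by rw [rev0, hf_symm b1]) (by rw [hf_smul_right, i1, mul_zero])
      refine mem_sup_right ⟨g⁻¹ * ss 1 0 a * g, PT ?_, by simp [mul_assoc]⟩
      rw [mem_PP, ac_mul, ac_mul, g0, f, ← g0, ac_inv_ac]

end H7.YURN
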