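/- Tower JS, slot Q2: centralizers around the extraspecial group `2^{1+6}_-`. -/
import Cfsg.Agent.H8.JSKit
import Cfsg.Agent.H78.Perp

set_option autoImplicit false
set_option maxRecDepth 100000
set_option linter.unusedSectionVars false

namespace H7.JSQ2

open Cfsg Subgroup H98 H1.Gold H8.JS
open H4.M2 (X g y p q r s t z a h)
open H4.QJ (tau)

universe u

variable {G : Type u} [Group G] [Finite G]

/-- An involution `e` acting on `C`: a `2`-element of `C` outside `⟨ζ⟩` gives one that is fixed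
by `e` modulo `⟨ζ⟩`. -/
theorem two_mem {C : Subgroup G} {e ζ : G} (e2 : e * e = 1) (z2 : ζ * ζ = 1) (zC : ζ ∈ C)
    (hz : ∀ c ∈ C, Commute c ζ) (ez : Commute e ζ) (hn : e ∈ nor C)
    (k : ∀ c ∈ C, (∃ n, c ^ 2 ^ n = 1) → c * e * c⁻¹ = e ∨ c * e * c⁻¹ = e * ζ → c = 1 ∨ c = ζ)
    {b : G} (hb : b ∈ C) {n : ℕ} (b2 : b ^ 2 ^ n = 1) : b = 1 ∨ b = ζ := by
  have := Fact.mk Nat.prime_two
  have n1 : zpowers e ≤ nor (zpowers ζ) := le_normalizer_of_le_centralizer (zpowers_le.2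
    (mem_centralizer_iff.2 (by rintro _ ⟨i, rfl⟩; exact (ez.symm.zpow_left i).eq)))
  have mP : ∀ w ∈ zpowers e ⊔ zpowers ζ, w = 1 ∨ w = ζ ∨ w = e ∨ w = e * ζ := fun w hw => by
    obtain ⟨c, hc, d, hd, rfl⟩ := (mem_sup_left_norm n1).1 hw
    rcases (H78.mem_zpowers_invol e2 _).1 hc with rfl | rfl <;>
      rcases (H78.mem_zpowers_invol z2 _).1 hd with rfl | rfl <;> simp
  have pP : IsPGroup 2 ↥(zpowers e ⊔ zpowers ζ) :=
    (isPGroup_zpowers (k := 1) (by simpa [sq] using e2)).to_sup_of_normal_right'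
      (isPGroup_zpowers (k := 1) (by simpa [sq] using z2)) n1
  have n2 : zpowers e ≤ nor C := zpowers_le.2 hn
  have n3 : zpowers e ⊔ C ≤ nor C := sup_le n2 le_normalizer
  have cz : ∀ w ∈ zpowers e ⊔ C, Commute w ζ := fun w hw => by
    obtain ⟨_, ⟨i, rfl⟩, d, hd, rfl⟩ := (mem_sup_left_norm n2).1 hw
    exact (ez.zpow_left i).mul_left (hz d hd)
  obtain ⟨T, hT, l⟩ := exists_isSyl_le pP (sup_le_sup_left (zpowers_le.2 zC) _)
  have eP : e ∈ zpowers e ⊔ zpowers ζ := mem_sup_left (mem_zpowers e)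
  have zP : ζ ∈ zpowers e ⊔ zpowers ζ := mem_sup_right (mem_zpowers ζ)
  obtain rfl : zpowers e ⊔ zpowers ζ = T := by
    by_contra ne
    obtain ⟨w, hw, w1⟩ := SetLike.exists_of_lt (lt_inf_normalizer hT.isPGroup (lt_of_le_of_ne l ne))
    obtain ⟨d, hd, c, hc, rfl⟩ := (mem_sup_left_norm n2).1 (hT.le hw.1)
    have dP := (le_sup_left : zpowers e ≤ zpowers e ⊔ zpowers ζ) hd
    have c1 : c ∈ T := (mul_mem_cancel_left (l dP)).1 hw.1
    have c2 : c ∈ nor (zpowers e ⊔ zpowers ζ) := (mul_mem_cancel_left (le_normalizer dP)).1 hw.2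
    refine w1 (mul_mem dP ?_)
    have c3 : c * e * c⁻¹ = e ∨ c * e * c⁻¹ = e * ζ := by
      rcases mP _ (conj_mem_of_mem_normalizer c2 eP) with r | r | r
      · exact .inl (by rw [r, conj_eq_one_iff.1 r])
      · have : e = ζ := by
          rw [mul_inv_eq_iff_eq_mul, ← (hz c hc).eq, mul_right_inj] at r; exact r
        exact .inl (r.trans this.symm)
      · exact r
    rcases k c hc (isPGroup_iff_forall.1 hT.isPGroup c c1) c3 with rfl | rfl
    exacts [one_mem _, zP]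
  obtain ⟨d, hd, r⟩ := hT.exists_cj_le (isPGroup_zpowers b2) (zpowers_le.2 (mem_sup_right hb))
  have m := r (conj_mem_cj (mem_zpowers b))
  have : d * b * d⁻¹ = 1 ∨ d * b * d⁻¹ = ζ := k _ (conj_mem_of_mem_normalizer (n3 hd) hb)
    ⟨n, by rw [conj_pow, b2]; simp⟩ (.inl (mul_inv_eq_iff_eq_mul.2 (by
      rcases mP _ m with f | f | f | f <;> rw [f]
      · simp
      · exact ez.eq.symm
      · exact ((Commute.refl e).mul_left ez.symm).eq)))
  refine this.imp conj_eq_one_iff.1 fun f => ?_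
  rwa [mul_inv_eq_iff_eq_mul, ← (cz d hd).eq, mul_right_inj] at f

theorem dihedral {H : Type*} [Group H] {B B' : H} (h1 : B * B = 1) (h2 : B' * B' = 1) {k : ℕ}
    (h3 : (B⁻¹ * B') ^ (2 * k + 1) = 1) :
    (B⁻¹ * B') ^ (k + 1) * B' * ((B⁻¹ * B') ^ (k + 1))⁻¹ = B := by
  obtain ⟨d, rfl⟩ : ∃ d, B' = B * d := ⟨B⁻¹ * B', by group⟩
  rw [inv_mul_cancel_left] at h3 ⊢
  have i : B⁻¹ = B := inv_eq_of_mul_eq_one_right h1
  have e : B⁻¹ * d * B⁻¹⁻¹ = d⁻¹ := eq_inv_of_mul_eq_one_left (by rw [inv_inv, i, ← h2]; group)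
  have e' : B⁻¹ * d ^ (k + 1) * B⁻¹⁻¹ = (d ^ (k + 1))⁻¹ := by rw [← conj_pow, e, inv_pow]
  calc _ = B * (B⁻¹ * d ^ (k + 1) * B⁻¹⁻¹) * d * (d ^ (k + 1))⁻¹ := by group
    _ = B * (d ^ (2 * k + 1))⁻¹ := by rw [e']; group
    _ = B := by rw [h3]; simp

variable {j : X →* G} {e : G} {O : Subgroup G} {v x : G}

theorem tr_mul {Q : Subgroup G} {ζ n n' : G} (X : H78.XS Q ζ) (h1 : Tr Q ζ n) (h2 : Tr Q ζ n') :
    Tr Q ζ (n * n') := fun u hu => by
  have hz : n * ζ * n⁻¹ = ζ := (h1 ζ X.z_mem).resolve_right fun f =>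
    X.z_ne (conj_eq_one_iff.1 (f.trans X.z_sq))
  rw [show n * n' * u * (n * n')⁻¹ = n * (n' * u * n'⁻¹) * n⁻¹ by group]
  rcases h2 u hu with f | f <;> rw [f]
  · exact h1 u hu
  · rw [← conj_mul, hz]
    rcases h1 u hu with f | f <;> rw [f]
    · exact .inr rfl
    · exact .inl (by rw [mul_assoc, X.z_sq, mul_one])

theorem tr_pow {Q : Subgroup G} {ζ n : G} (X : H78.XS Q ζ) (h1 : Tr Q ζ n) (k : ℕ) : Tr Q ζ (n ^ k) := by
  induction k with
  | zero => exact fun u _ => .inl (by simp)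
  | succ k ih => exact pow_succ n k ▸ tr_mul X ih h1

theorem inn {Q : Subgroup G} {ζ n : G} (X : H78.XS Q ζ) (h1 : Tr Q ζ n) : ∃ u ∈ Q, u⁻¹ * n ∈ cen Q := by
  obtain ⟨u, hu, r⟩ := X.exists_inner (fun w => n * w * n⁻¹) (fun _ _ _ _ => by group)
    ((h1 ζ X.z_mem).resolve_right fun f => X.z_ne (conj_eq_one_iff.1 (f.trans X.z_sq))) h1
  refine ⟨u, hu, mem_centralizer_iff.2 fun w hw => ?_⟩
  calc w * (u⁻¹ * n) = u⁻¹ * (u * w * u⁻¹) * n := by group
    _ = _ := by rw [← r w hw]; group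

section
variable (S : St j e O) (D : SD j e O v x)
include S D

theorem zz : j z * j z = 1 := by rw [← map_mul, show z * z = 1 by decide +kernel, map_one]

theorem z1 : j z ≠ 1 := fun f => absurd (S.inj (f.trans j.map_one.symm)) (by decide +kernel)

theorem vz : Commute v (j z) := D.vc z rfl

theorem vinv : v⁻¹ = j z * v := by
  rw [inv_eq_iff_mul_eq_one, ← mul_assoc, (vz S D).eq, mul_assoc, D.v2, zz S D]

theorem ev : e * v * e = j z * v := by
  have := D.ve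
  rw [mul_inv_eq_iff_eq_mul] at this
  rw [mul_assoc, this, ← mul_assoc, ← mul_assoc, S.e2, one_mul]

theorem nev : ¬ Commute e v := fun c => z1 S D (by
  have := ev S D
  rwa [c.eq, mul_assoc, S.e2, mul_one, eq_comm, mul_eq_right] at this)

theorem xex : x * e * x = v * e := by rw [← D.xe, mul_assoc _ _ e, mul_assoc x e e, S.e2, mul_one]

theorem nxv : ¬ Commute x v := fun c => nev S D (by
  have h1 : Commute (x * e) v := D.xe ▸ (Commute.refl _).mul_right (Commute.refl _)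
  simpa using c.inv_left.mul_left h1)

/-- An element of `C(e, Q₀)` commuting with `v` lies in `O × ⟨z⟩`. -/
theorem kv {b : G} (hb : Commute b e) (h1 : ∀ w ∈ [p, q, r, s], Commute b (j w)) (h2 : Commute b v) :
    ∃ o ∈ O, b = o ∨ b = o * j z := by
  obtain ⟨o, ho, d, hd, rfl⟩ := S.kQ hb (h1 p (by simp)) (h1 q (by simp)) (h1 r (by simp)) (h1 s (by simp))
  have c : Commute d v := by simpa using (Commute.inv_left (D.vo o ho).symm).mul_left h2
  simp only [List.mem_cons, List.not_mem_nil, or_false] at hd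
  rcases hd with rfl | rfl | rfl | rfl
  · exact ⟨o, ho, .inl (mul_one o)⟩
  · exact (nev S D c).elim
  · exact ⟨o, ho, .inr rfl⟩
  · exact (nev S D (by simpa using c.mul_left (vz S D).symm.inv_left)).elim

omit D in
/-- Conjugates under `C(e, z)` of elements centralizing `C₀` centralize `C₀`. -/
theorem cc0 {b u : G} (hb : b * e = e * b) (hz : b * j z = j z * b)
    (hu : ∀ w, w * z = z * w → u * j w = j w * u) (w : X) (hw : w * z = z * w) :
    Commute (b * u * b⁻¹) (j w) := by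
  obtain ⟨θ, hθ⟩ := S.act b hb
  have f := S.fix hθ hz
  have := hu (θ.symm w) (θ.injective (by simpa [f] using hw))
  rw [← θ.apply_symm_apply w, ← hθ]
  exact Commute.conj this b

theorem conj_v {b : G} (hb : b * e = e * b) (hz : b * j z = j z * b) :
    b * v * b⁻¹ = v ∨ b * v * b⁻¹ = j z * v := by
  have c0 := cc0 S hb hz D.vc
  have be : b * e * b⁻¹ = e := mul_inv_eq_iff_eq_mul.2 hb
  have bz : b * j z * b⁻¹ = j z := mul_inv_eq_iff_eq_mul.2 hz
  have h1 : b * v * b⁻¹ * e * (b * v * b⁻¹)⁻¹ = e * j z := by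
    calc _ = b * (v * (b⁻¹ * (b * e * b⁻¹) * b) * v⁻¹) * b⁻¹ := by rw [be]; group
      _ = b * e * b⁻¹ * (b * j z * b⁻¹) := by rw [conj_mul, ← D.ve]; group
      _ = _ := by rw [be, bz]
  have h2 : b * v * b⁻¹ * (b * v * b⁻¹) = j z := by rw [conj_mul, D.v2, bz]
  have m4 : ∀ w ∈ [p, q, r, s], w * z = z * w := by decide +kernel
  have k : ∀ w ∈ [p, q, r, s], Commute (v⁻¹ * (b * v * b⁻¹)) (j w) := fun w hw =>
    (Commute.inv_left (D.vc w (m4 w hw))).mul_left (c0 w (m4 w hw))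
  obtain ⟨o, ho, d, hd, f⟩ := S.kQ (b := v⁻¹ * (b * v * b⁻¹)) (mul_inv_eq_iff_eq_mul.1 (by
    calc _ = v⁻¹ * (b * v * b⁻¹ * e * (b * v * b⁻¹)⁻¹) * v := by group
      _ = e := by rw [h1, ← D.ve]; group)) (k p (by simp)) (k q (by simp)) (k r (by simp)) (k s (by simp))
  rw [eq_mul_of_inv_mul_eq f] at h2 ⊢
  have oz : Commute o (j z) := S.oj o ho z
  have oe : Commute o e := S.oe o ho
  have ov : Commute o v := (D.vo o ho).symm
  have sq : ∀ d, Commute o d → v * (o * d) * (v * (o * d)) = o * o * (v * d * (v * d)) := fun d c => by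
    rw [ov.symm.left_comm, (ov.mul_right c).symm.mul_mul_mul_comm]
  have ve : v * e * (v * e) = 1 := by
    rw [mul_assoc, ← mul_assoc e, ev S D, ← vinv S D, mul_inv_cancel]
  have no : o * o ≠ j z := fun f => z1 S D (by
    rw [← f, S.o0 ho (k := 2) (by rw [show o ^ 2 ^ 2 = o * o * (o * o) by simp [pow_succ, mul_assoc], f, zz S D]), mul_one])
  simp only [List.mem_cons, List.not_mem_nil, or_false] at hd
  rcases hd with rfl | rfl | rfl | rfl
  · rw [sq 1 (Commute.one_right o), mul_one, D.v2, mul_eq_right] at h2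
    exact .inl (by simp [S.o2 ho h2])
  · rw [sq _ oe, ve, mul_one] at h2
    exact (no h2).elim
  · rw [sq _ oz, (vz S D).symm.mul_mul_mul_comm, zz S D, mul_one, D.v2, mul_eq_right] at h2
    exact .inr (by simp [S.o2 ho h2, (vz S D).eq])
  · rw [sq _ (oe.mul_right oz), ← mul_assoc v, ((vz S D).mul_left (S.ec z)).symm.mul_mul_mul_comm, ve,
      zz S D, mul_one, mul_one] at h2
    exact (no h2).elim

theorem conj_x {b : G} (hb : b * e = e * b) (hz : b * j z = j z * b) (hv : b * v * b⁻¹ = v) :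
    b * x * b⁻¹ = x ∨ b * x * b⁻¹ = x * j z := by
  have c0 := cc0 S hb hz D.xc
  have be : b * e * b⁻¹ = e := mul_inv_eq_iff_eq_mul.2 hb
  have xi : x⁻¹ = x := inv_eq_of_mul_eq_one_right D.x2
  have h1 : b * x * b⁻¹ * e * (b * x * b⁻¹)⁻¹ = x * e * x⁻¹ := by
    calc _ = b * (x * (b⁻¹ * (b * e * b⁻¹) * b) * x⁻¹) * b⁻¹ := by rw [be]; group
      _ = b * v * b⁻¹ * (b * e * b⁻¹) := by rw [conj_mul, ← xex S D, xi]; group
      _ = _ := by rw [be, hv, xi, xex S D]
  have h2 : b * x * b⁻¹ * (b * x * b⁻¹) = 1 := by rw [conj_mul, D.x2]; simp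
  have m4 : ∀ w ∈ [p, q, r, s], w * z = z * w := by decide +kernel
  have k : ∀ w ∈ [p, q, r, s], Commute (x⁻¹ * (b * x * b⁻¹)) (j w) := fun w hw =>
    (Commute.inv_left (D.xc w (m4 w hw))).mul_left (c0 w (m4 w hw))
  obtain ⟨o, ho, d, hd, f⟩ := S.kQ (b := x⁻¹ * (b * x * b⁻¹)) (mul_inv_eq_iff_eq_mul.1 (by
    calc _ = x⁻¹ * (b * x * b⁻¹ * e * (b * x * b⁻¹)⁻¹) * x := by group
      _ = e := by rw [h1]; group)) (k p (by simp)) (k q (by simp)) (k r (by simp)) (k s (by simp))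
  rw [eq_mul_of_inv_mul_eq f] at h2 ⊢
  have oz : Commute o (j z) := S.oj o ho z
  have oe : Commute o e := S.oe o ho
  have ox : Commute o x := (D.xo o ho).symm
  have xz : Commute x (j z) := D.xc z rfl
  have sq : ∀ d, Commute o d → x * (o * d) * (x * (o * d)) = o * o * (x * d * (x * d)) := fun d c => by
    rw [ox.symm.left_comm, (ox.mul_right c).symm.mul_mul_mul_comm]
  have no : o * o * v ≠ 1 := fun f => nev S D (by
    rw [eq_inv_of_mul_eq_one_right f]; exact (oe.mul_left oe).symm.inv_right)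
  simp only [List.mem_cons, List.not_mem_nil, or_false] at hd
  rcases hd with rfl | rfl | rfl | rfl
  · rw [sq 1 (Commute.one_right o), mul_one, D.x2, mul_one] at h2
    exact .inl (by simp [S.o2 ho h2])
  · rw [sq _ oe, D.xe] at h2
    exact (no h2).elim
  · rw [sq _ oz, xz.symm.mul_mul_mul_comm, zz S D, mul_one, D.x2, mul_one] at h2
    exact .inr (by simp [S.o2 ho h2])
  · rw [sq _ (oe.mul_right oz), ← mul_assoc x, (xz.mul_left (S.ec z)).symm.mul_mul_mul_comm, D.xe,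
      zz S D, mul_one] at h2
    exact (no h2).elim

variable (Q : QD j e v x)
include Q

omit S D Q in
theorem gen {u : G} (hu : u ∈ [j p, j q, j k1, j k2, x, v]) : u ∈ QQ j v x := subset_closure hu

omit S D Q in
theorem mem0 : ∀ w ∈ [p, q, r, s, k1, k2, k1⁻¹, k1 * k2], j w ∈ QQ j v x := fun w hw => by
  have k : ∀ u ∈ [p, q, k1, k2], u ∈ ((QQ j v x).comap j).toSubmonoid := fun u hu => by
    simp only [List.mem_cons, List.not_mem_nil, or_false] at hu
    rcases hu with rfl | rfl | rfl | rfl <;> exact gen (by simp)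
  obtain ⟨l, -, rfl⟩ := (by unfold k1 k2; decide +kernel : ∀ w ∈ [p, q, r, s, k1, k2, k1⁻¹, k1 * k2],
    ∃ l ∈ [[0], [1], [2], [3], [2, 2, 2], [2, 3], [0, 1, 3], [0, 1, 3, 2]], w = H49.wd [p, q, k1, k2] l) w hw
  exact H49.wd_mem k l

theorem ez (b : G) (hb : b * e = e * b) (hz : b * j z = j z * b) : b ∈ nor (QQ j v x) := by
  have zQ := Q.xs.z_mem
  have ce : Commute e (j z) := S.ec z
  wlog hv : b * v * b⁻¹ = v generalizing b
  · refine (mul_mem_cancel_left Q.en).1 (this (e * b) ((Commute.refl e).mul_left hb) (ce.mul_left hz) ?_)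
    rw [show e * b * v * (e * b)⁻¹ = e * (b * v * b⁻¹) * e⁻¹ by group,
      (conj_v S D hb hz).resolve_left hv, S.einv, ← mul_assoc, ce.eq, mul_assoc (j z), mul_assoc (j z),
      ev S D, ← mul_assoc, zz S D, one_mul]
  have k : ∀ u ∈ [p, q, k1, k2], b * j u * b⁻¹ ∈ QQ j v x := fun u hu => by
    obtain ⟨θ, hθ⟩ := S.act b hb
    obtain ⟨w, hw, f⟩ := dec0 θ (S.fix hθ hz)
    obtain ⟨u', hu', f'⟩ : ∃ u' ∈ [p, q, r, s, k1, k2, k1⁻¹, k1 * k2], θ u = w * u' * w⁻¹ := by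
      rcases f with rfl | rfl
      · exact ⟨u, by
          simp only [List.mem_cons, List.not_mem_nil, or_false] at hu ⊢
          tauto, rfl⟩
      · refine ⟨tau u, ?_, rfl⟩
        simp only [List.mem_cons, List.not_mem_nil, or_false] at hu
        rcases hu with rfl | rfl | rfl | rfl
        · simp [tau_p]
        · simp [tau_q]
        · rw [show tau k1 = k1⁻¹ by rw [k1, map_mul, tau_r, tau_s]; decide +kernel]; simp
        · rw [show tau k2 = k1 * k2 by rw [k1, k2, map_mul, tau_s, tau_t]; decide +kernel]; simp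
    rw [hθ, f', map_mul, map_mul, map_inv]
    exact conj_mem_of_mem_normalizer (Q.cn w hw) (mem0 u' hu')
  refine mem_normalizer_of_cj_le (map_le_iff_le_comap.2 ((closure_le _).2 fun u hu => ?_))
  show b * u * b⁻¹ ∈ QQ j v x
  simp only [Set.mem_setOf_eq, List.mem_cons, List.not_mem_nil, or_false] at hu
  rcases hu with rfl | rfl | rfl | rfl | rfl | rfl
  exacts [k p (by simp), k q (by simp), k k1 (by simp), k k2 (by simp), by
    rcases conj_x S D hb hz hv with f | f <;> rw [f]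
    exacts [gen (by simp), mul_mem (gen (by simp)) zQ], hv.symm ▸ gen (by simp)]

theorem cq (b : G) (hb : b ∈ cen (QQ j v x)) : ∃ m, Odd m ∧ (b ^ m = 1 ∨ b ^ m = j z) := by
  have cm : ∀ c ∈ cen (QQ j v x), ∀ u ∈ QQ j v x, Commute c u := fun c hc u hu =>
    (mem_centralizer_iff.1 hc u hu).symm
  have c4 : ∀ c ∈ cen (QQ j v x), ∀ w ∈ [p, q, r, s], Commute c (j w) := fun c hc w hw =>
    cm c hc _ (mem0 w (by
      simp only [List.mem_cons, List.not_mem_nil, or_false] at hw ⊢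
      tauto))
  have m4 : ∀ w ∈ [p, q, r, s], w * z = z * w := by decide +kernel
  obtain ⟨n, m, hm, f⟩ := Nat.exists_eq_two_pow_mul_odd (orderOf_pos b).ne'
  refine ⟨m, hm, two_mem S.e2 (zz S D) (mem_centralizer_iff.2 fun u hu => (Q.xs.z_comm u hu).symm)
    (fun c hc => cm c hc _ Q.xs.z_mem) (S.ec z) (normalizer_le_normalizer_centralizer _ Q.en)
    (fun c hc ⟨k, c2⟩ r => ?_) (pow_mem hb m) (n := n) (by rw [← pow_mul, mul_comm, ← f, pow_orderOf_eq_one])⟩
  have cv := cm c hc v (gen (by simp))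
  rcases r with r | r
  · obtain ⟨o, ho, rfl | rfl⟩ := kv S D (mul_inv_eq_iff_eq_mul.1 r) (c4 c hc) cv
    · exact .inl (S.o0 ho c2)
    · exact .inr (by rw [S.o1 ho c2, one_mul])
  · obtain ⟨o, ho, f⟩ := kv S D (b := v⁻¹ * c) (mul_inv_eq_iff_eq_mul.1 (by
      calc _ = v⁻¹ * (c * e * c⁻¹) * v := by group
        _ = e := by rw [r, ← D.ve]; group))
      (fun w hw => (Commute.inv_left (D.vc w (m4 w hw))).mul_left (c4 c hc w hw))
      ((Commute.refl v).inv_left.mul_left cv)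
    have h1 : Commute x (v⁻¹ * c) := by
      rcases f with f | f <;> rw [f]
      exacts [D.xo o ho, Commute.mul_right (D.xo o ho) (D.xc z rfl)]
    exact (nxv S D (by simpa using h1.mul_right (cm c hc x (gen (by simp))).symm.inv_right)).elim

theorem odd_pow {n : G} (h1 : Tr (QQ j v x) (j z) n) :
    ∃ u ∈ QQ j v x, ∃ c, n = u * c ∧ Commute u c ∧ ∃ m, Odd m ∧ c ^ m ∈ QQ j v x := by
  obtain ⟨u, hu, hc⟩ := inn Q.xs h1
  obtain ⟨m, hm, f⟩ := cq S D Q _ hc
  refine ⟨u, hu, _, (mul_inv_cancel_left u n).symm, mem_centralizer_iff.1 hc u hu, m, hm, ?_⟩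
  rcases f with f | f <;> rw [f]
  exacts [one_mem _, Q.xs.z_mem]

theorem triv2 (n : G) (k : ℕ) (h1 : Tr (QQ j v x) (j z) n) (h2 : n ^ 2 ^ k ∈ QQ j v x) :
    n ∈ QQ j v x := by
  obtain ⟨u, hu, c, rfl, cm, m, hm, f⟩ := odd_pow S D Q h1
  rw [cm.mul_pow, mul_mem_cancel_left (pow_mem hu _)] at h2
  refine mul_mem hu ?_
  have := (Nat.coprime_two_right.2 hm).pow_right k
  have e1 : c = (c ^ m) ^ Nat.gcdA m (2 ^ k) * (c ^ 2 ^ k) ^ Nat.gcdB m (2 ^ k) := by
    rw [← zpow_natCast, ← zpow_natCast, ← zpow_mul, ← zpow_mul, ← zpow_add, ← Nat.gcd_eq_gcd_ab, this]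
    simp
  exact e1 ▸ mul_mem (zpow_mem f _) (zpow_mem h2 _)

theorem cos (b : G) (hb : b ∈ nor (QQ j v x)) (b' : G) (hb' : b' ∈ nor (QQ j v x))
    (h1 : b * b ∈ QQ j v x) (h2 : b' * b' ∈ QQ j v x) (h3 : Tr (QQ j v x) (j z) (b⁻¹ * b')) :
    ∃ n, Tr (QQ j v x) (j z) n ∧ n ∈ nor (QQ j v x) ∧ ∃ u ∈ QQ j v x, n * b' * n⁻¹ = b * u := by
  obtain ⟨u, hu, c, e1, cm, _, ⟨k, rfl⟩, f⟩ := odd_pow S D Q h3
  have h4 : (b⁻¹ * b') ^ (2 * k + 1) ∈ QQ j v x := by
    rw [e1, cm.mul_pow]; exact mul_mem (pow_mem hu _) f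
  let π := QuotientGroup.mk' ((QQ j v x).subgroupOf (nor (QQ j v x)))
  have o : ∀ w : nor (QQ j v x), (w : G) ∈ QQ j v x → π w = 1 := fun w hw =>
    (QuotientGroup.eq_one_iff w).2 hw
  have := dihedral (B := π ⟨b, hb⟩) (B' := π ⟨b', hb'⟩) (k := k) (by rw [← map_mul]; exact o _ h1)
    (by rw [← map_mul]; exact o _ h2) (by rw [← map_inv, ← map_mul, ← map_pow]; exact o _ h4)
  rw [← map_inv, ← map_mul, ← map_pow, ← map_inv, ← map_mul, ← map_mul] at this
  rw [eq_comm, ← inv_mul_eq_one, ← map_inv, ← map_mul] at this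
  have m := mem_subgroupOf.1 ((QuotientGroup.eq_one_iff _).1 this)
  exact ⟨_, tr_pow Q.xs h3 (k + 1), pow_mem (mul_mem (inv_mem hb) hb') _, _, m,
    (mul_inv_cancel_left _ _).symm⟩

end

theorem jobQ2 : JobQ2.{u} := fun _ _ _ _ _ _ _ _ S D Q =>
  ⟨ez S D Q, cq S D Q, fun _ => inn Q.xs, triv2 S D Q, cos S D Q⟩

end H7.JSQ2
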