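/- Tower CX, job LocO: the local form of the vanishing theorem at a centric subgroup. -/
import Cfsg.Agent.H24.CxKit

set_option autoImplicit false

namespace H7.CxLocO

open Subgroup Cfsg H98 H24.Cx

universe u

variable {p : ℕ} {G : Type u} [Group G]

theorem up_cen (Γ Y : Subgroup G) : Up p Γ Y (Cen p) where
  mono P Q _ _ h hP g hg hp := h (hP g (centralizer_le h hg) hp)
  inv g _ P _ hP x hx hp := by
    rw [← cj_centralizer, mem_cj] at hx
    refine mem_cj.2 (hP _ hx ?_)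
    have := isPGroup_cj g⁻¹ hp
    rw [cj, MonoidHom.map_zpowers] at this
    rwa [MulEquiv.coe_toMonoidHom, MulAut.conj_apply, inv_inv] at this

theorem ZZ_anti {P Q : Subgroup G} (hQ : IsPGroup p Q) (h : P ≤ Q) (hP : Cen p P) : ZZ Q ≤ ZZ P :=
  fun a ha => ⟨hP a (centralizer_le h ha.2) (hQ.to_le (zpowers_le.2 ha.1)), centralizer_le h ha.2⟩

theorem secH_ZZ (Γ Y : Subgroup G) : SecH p Γ Y (Cen p) ZZ fun _ => ⊥ where
  up := up_cen Γ Y
  le1 _ _ _ := bot_le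
  le2 _ _ _ := inf_le_left
  com P _ _ g hg a ha := by rw [mem_bot, ha.2 g hg]; group
  antiA P Q _ hQ h hP := ZZ_anti hQ.isP h hP
  antiB _ _ _ _ _ _ := le_rfl
  eqA g _ P _ _ := by rw [ZZ, cj_inf, cj_centralizer]; exact le_rfl
  eqB g _ P _ _ := (cj_bot g).le

theorem up_UT {Γ Y : Subgroup G} (hp : Pair p Γ Y) (m : ℕ) : Up p Γ Y (UT m Y) where
  mono P Q _ _ h := fun ⟨A, h1, h2⟩ => ⟨A, h1.trans h, h2⟩
  inv g hg P _ := fun ⟨A, h1, h2, h3, h4⟩ => ⟨cj g A, cj_mono g h1,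
    by rw [← cj_centralizer]; exact cj_mono g h2, by rwa [card_cj],
    fun h => h4 (cj_le_cj_iff.1 (h.trans (cj_eq_self (hp.nor hg)).ge))⟩

theorem comm_map {N : Subgroup G} {A : Subgroup N} :
    A.map N.subtype ≤ centralizer (A.map N.subtype : Set G) ↔ A ≤ centralizer (A : Set N) := by
  refine ⟨fun h a ha b hb => Subtype.ext (h ⟨a, ha, rfl⟩ _ ⟨b, hb, rfl⟩), ?_⟩
  rintro h _ ⟨a, ha, rfl⟩ _ ⟨b, hb, rfl⟩
  exact congrArg Subtype.val (h ha b hb)

theorem UT_map {N Y : Subgroup G} {m : ℕ} (P : Subgroup N) :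
    UT m Y (P.map N.subtype) ↔ UT m (Y.subgroupOf N) P := by
  constructor
  · rintro ⟨A, h1, h2, h3, h4⟩
    have e : (A.subgroupOf N).map N.subtype = A :=
      map_subgroupOf_eq_of_le (h1.trans (map_subtype_le P))
    rw [← e] at h1 h2 h3 h4
    exact ⟨_, (map_le_map_iff_of_injective N.subtype_injective).1 h1, comm_map.1 h2,
      by rwa [card_subtype] at h3, fun h => h4 (map_le_iff_le_comap.2 h)⟩
  · rintro ⟨A, h1, h2, h3, h4⟩
    exact ⟨A.map N.subtype, map_mono h1, comm_map.2 h2, by rwa [card_subtype],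
      fun h => h4 (map_le_iff_le_comap.1 h)⟩

theorem conj_mem_ZZ {Y : Subgroup G} {g a : G} (hg : g ∈ normalizer (Y : Set G)) :
    g * a * g⁻¹ ∈ ZZ Y ↔ a ∈ ZZ Y := by
  conv_lhs => rw [← cj_eq_self hg, ZZ, ← cj_centralizer, ← cj_inf, conj_mem_cj_iff]
  rfl

/-- The centre of `Y` as a module for the normaliser. -/
def ZW (Y : Subgroup G) : Type u := Additive (ZZ Y)

instance (Y : Subgroup G) : AddCommGroup (ZW Y) :=
  { (inferInstance : AddGroup (Additive (ZZ Y))) with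
    add_comm := fun a b => Subtype.ext (b.toMul.2.2 _ a.toMul.2.1) }

/-- The underlying element. -/
def ZW.val {Y : Subgroup G} (w : ZW Y) : G := (Additive.toMul w).1

/-- The element of the module with a given value. -/
def ZW.mk {Y : Subgroup G} (a : G) (h : a ∈ ZZ Y) : ZW Y := Additive.ofMul ⟨a, h⟩

theorem ZW.ext {Y : Subgroup G} {v w : ZW Y} (h : v.val = w.val) : v = w := Subtype.ext h

theorem ZW.mem {Y : Subgroup G} (w : ZW Y) : w.val ∈ ZZ Y := (Additive.toMul w).2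

instance (Y : Subgroup G) : DistribMulAction (normalizer (Y : Set G)) (ZW Y) where
  smul g w := Additive.ofMul ⟨g * w.val * g⁻¹, (conj_mem_ZZ g.2).2 w.mem⟩
  one_smul w := ZW.ext (show (1 : G) * w.val * 1⁻¹ = w.val by simp)
  mul_smul g h w := ZW.ext (show (g * h : G) * w.val * (g * h : G)⁻¹ =
    g * (h * w.val * (h : G)⁻¹) * (g : G)⁻¹ by group)
  smul_zero g := ZW.ext (show (g : G) * 1 * (g : G)⁻¹ = 1 by simp)
  smul_add g v w := ZW.ext (show (g : G) * (v.val * w.val) * (g : G)⁻¹ =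
    g * v.val * (g : G)⁻¹ * (g * w.val * (g : G)⁻¹) by group)

theorem ZW.smul_val {Y : Subgroup G} (g : normalizer (Y : Set G)) (w : ZW Y) :
    (g • w).val = g * w.val * (g : G)⁻¹ := rfl

/-- The inclusion of the centre in the normaliser. -/
def ZW.ι (Y : Subgroup G) : Multiplicative (ZW Y) →* normalizer (Y : Set G) where
  toFun w := ⟨w.toAdd.val, le_normalizer w.toAdd.mem.1⟩
  map_one' := rfl
  map_mul' _ _ := rfl

open Classical in
/-- The evaluation map. -/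
noncomputable def θ (Y : Subgroup G) : ZG G →+ ZW Y :=
  ZG.lift fun g => if h : g ∈ ZZ Y then ZW.mk g h else 0

theorem θ_of {Y : Subgroup G} {a : G} (h : a ∈ ZZ Y) : (θ Y (ZG.of a)).val = a := by
  rw [θ, ZG.lift_of, dif_pos h]
  rfl

theorem θ_smul {Y : Subgroup G} (g : normalizer (Y : Set G)) (w : ZG G) :
    θ Y ((g : G) • w) = g • θ Y w := by
  refine DFunLike.congr_fun (ZG.hom_ext (f := (θ Y).comp (DistribSMul.toAddMonoidHom _ (g : G)))
    (g := (DistribSMul.toAddMonoidHom _ g).comp (θ Y)) fun a => ?_) w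
  change θ Y ((g : G) • ZG.of a) = g • θ Y (ZG.of a)
  rw [ZG.smul_of]
  by_cases h : a ∈ ZZ Y
  · exact ZW.ext (by rw [θ_of ((conj_mem_ZZ g.2).2 h), ZW.smul_val, θ_of h])
  · rw [θ, ZG.lift_of, ZG.lift_of, dif_neg h, dif_neg ((conj_mem_ZZ g.2).not.2 h), smul_zero]

theorem θ_SV {Y A : Subgroup G} (h : A ≤ ZZ Y) {w : ZG G} (hw : w ∈ SV A ⊥) : θ Y w = 0 := by
  refine (AddSubgroup.closure_le (θ Y).ker).2 ?_ hw
  rintro _ (⟨a, ha, b, hb, rfl⟩ | ⟨b, hb, rfl⟩)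
  · change θ Y _ = 0
    rw [map_sub, map_sub, sub_sub, sub_eq_zero]
    refine ZW.ext ((θ_of (h (mul_mem ha hb))).trans ?_)
    change _ = (θ Y (ZG.of a)).val * (θ Y (ZG.of b)).val
    rw [θ_of (h ha), θ_of (h hb)]
  · exact ZW.ext ((θ_of (h (mem_bot.1 hb ▸ one_mem A))).trans (mem_bot.1 hb))

theorem jobLocO : JobLocO.{u} := by
  intro sk sat tm p _ G X _ _ _ Y m n hX hY hC hm
  have hp : Pair p (normalizer (Y : Set G)) Y := ⟨hY, le_normalizer, le_rfl⟩
  have hp' : Pair p ⊤ (Y.subgroupOf (normalizer (Y : Set G))) :=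
    ⟨hY.comap_subtype, le_top, (normalizer_eq_top _).ge⟩
  have hfin : Finite (ZW Y) := inferInstanceAs (Finite (Additive (ZZ Y)))
  have hM : Mod p (⊤ : Subgroup (normalizer (Y : Set G))) (⊤ : AddSubgroup (ZW Y)) := by
    obtain ⟨e, he⟩ := hY.exists_card_eq
    refine ⟨inferInstance, fun _ _ _ _ => trivial, e, fun w _ => ZW.ext ?_⟩
    have h := pow_card_eq_one' (x := (⟨w.val, w.mem.1⟩ : Y))
    rw [he] at h
    exact (congrArg Subtype.val h :)
  have hT : Up p ⊤ (Y.subgroupOf (normalizer (Y : Set G))) fun _ => True :=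
    ⟨fun _ _ _ _ _ _ => trivial, fun _ _ _ _ _ => trivial⟩
  refine (van_iso1 hX hp (hX.subgroup _) hp'
    (((sk G ⊥ ⊥).2.2.2.2 p _ Y _ _ _ hp (secH_ZZ _ Y)).cutL hp (up_UT hp m))
    (sys_FU hp' hM hT (up_UT hp' m) fun _ _ _ => trivial) (normalizer (Y : Set G)).subtype
    (fun _ _ => rfl) (by rw [← MonoidHom.range_eq_map, range_subtype])
    (fun x => ⟨fun h y hy => h y.1 hy, fun h y hy => h ⟨y, le_normalizer hy⟩ hy⟩) (θ Y)
    (fun g _ => θ_smul g) fun P hP => ?_).2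
    (tm p _ X _ ⊤ ⊤ (hX.subgroup _) hM n ⊤ _ _ _ le_rfl hp' hT (up_UT hp' m) (fun _ _ _ => trivial)
      (fun _ _ _ => trivial) fun P hP => sat p _ _ (ZW.ι Y) _ P m
        (fun a b h => ZW.ext (congrArg Subtype.val h :)) (fun _ _ => rfl) ?_ ?_ hP.ge hP.isP
        fun A h1 h2 => ?_)
  · have h1 : Y ≤ P.map (normalizer (Y : Set G)).subtype := fun y hy =>
      ⟨⟨y, le_normalizer hy⟩, hP.ge hy, rfl⟩
    have h2 : Cen p (P.map (normalizer (Y : Set G)).subtype) := fun g hg h =>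
      h1 (hC g (centralizer_le h1 hg) h)
    have h3 := ZZ_anti (hP.isP.map _) h1 hC
    rw [FU_true]
    by_cases h : UT m (Y.subgroupOf (normalizer (Y : Set G))) P
    · exact Or.inl ⟨(cut_pos ((UT_map P).2 h)).le, (FU_pos h).le⟩
    rw [cut_neg ((UT_map P).not.2 h), FU_neg h, secU, secV, cut_pos h2, cut_pos h2]
    have h4 := (sk G (ZZ (P.map (normalizer (Y : Set G)).subtype)) ⊥).1
    refine Or.inr ⟨fun w hw => ?_, fun w hw => ⟨ZG.of w.val, AddSubgroup.subset_closure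
      ⟨_, ⟨h1 w.mem.1, ?_⟩, rfl⟩, sub_eq_zero.2 (ZW.ext (θ_of w.mem).symm)⟩,
      fun w hw => ⟨fun h0 => ?_, θ_SV h3⟩⟩
    · obtain ⟨a, ha, e⟩ := h4 w hw
      rw [sub_eq_zero.1 ((map_sub _ _ _).symm.trans (θ_SV h3 e))]
      refine ⟨trivial, fun g hg => ZW.ext ?_⟩
      rw [ZW.smul_val, θ_of (h3 ha), ha.2 g ⟨g, hg, rfl⟩, mul_inv_cancel_right]
    · rintro _ ⟨g, hg, rfl⟩
      exact mul_inv_eq_iff_eq_mul.1 (congrArg ZW.val (hw.2 g hg))
    · obtain ⟨a, ha, e⟩ := h4 w hw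
      rw [sub_eq_zero.1 ((map_sub _ _ _).symm.trans (θ_SV h3 e))] at h0
      have h5 : a ∈ (⊥ : Subgroup G) := (θ_of (h3 ha)).symm.trans (congrArg ZW.val h0)
      rw [← sub_add_cancel w (ZG.of a)]
      exact add_mem e (AddSubgroup.subset_closure (Or.inr ⟨a, h5, rfl⟩))
  · rintro _ ⟨w, rfl⟩
    exact w.toAdd.mem.1
  · rintro y hy _ ⟨w, rfl⟩
    exact Subtype.ext (w.toAdd.mem.2 y hy).symm
  · rw [← card_subtype]
    exact hm _ (map_le_iff_le_comap.2 h1) (comm_map.2 h2)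

end H7.CxLocO
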