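/- D3 tower (row S5261): characteristic subgroups and automorphisms of the Sylow subgroup. -/
import Cfsg.Agent.H90.D3Kit

set_option autoImplicit false
set_option linter.unusedSectionVars false
set_option linter.unusedSimpArgs false

open Subgroup H90.RF H90.D3

universe v

namespace H7.D3AS

variable {K : Type*} [Field K] {T : CF K}

theorem a_of {u : Co T} (h : (cm (xb T 1) u).c = 0) : u.a = 0 := by simpa [cm_c, xb] using h

theorem b_of {u : Co T} (h : (cm (xa T 1) u).c = 0) : u.b = 0 := by simpa [cm_c, xa] using h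

theorem Z4_of {u : Co T} (h : ∀ s, cm s u ∈ sZ3 T) : u ∈ sZ4 T := ⟨a_of (h _).2.2, b_of (h _).2.2⟩

theorem Z3_of {u : Co T} (h : ∀ s, cm s u ∈ sW T) : u ∈ sZ3 T := by
  obtain ⟨ha, hb⟩ := Z4_of fun s => W_le (h s)
  refine ⟨ha, hb, T.inj (T.inj ?_)⟩
  have := (T.ded (a := 0) (b := T.σ (T.σ u.c)) (c := T.σ u.c) fun t => by
    have e := (h (xa T t)).2.2.2
    simp only [cm_d, xa, ha, hb, CF.zero_cr, CF.sh_zero, CF.cr_zero, CF.cr, map_zero] at e
    linear_combination -e).2.1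
  simpa using this

theorem W_of {u : Co T} (h : ∀ s, cm s u ∈ sZ T) : u ∈ sW T := by
  have h3 := Z3_of fun s => Z_le (h s)
  refine ⟨h3.1, h3.2.1, h3.2.2, T.tr_nd fun t => ?_⟩
  have e := (h (xa T t)).2.2.2.2
  rw [cm_e3 _ h3] at e
  simpa [xa, mul_comm] using e

theorem Z_of {u : Co T} (h : ∀ s, cm s u ∈ (⊥ : Subgroup (Co T))) : u ∈ sZ T := by
  have h2 := W_of fun s => (bot_le : ⊥ ≤ sZ T) (h s)
  refine ⟨h2.1, h2.2.1, h2.2.2.1, h2.2.2.2, ?_⟩
  have e := congrArg Co.g (mem_bot.1 (h (xb T 1)))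
  rw [cm_g3 _ (W_le h2)] at e
  simpa [xb] using e

variable [Finite K]

theorem ch : CH T := fun θ a => by
  have p0 : Pr θ (⊥ : Subgroup (Co T)) := fun c hc => by rw [mem_bot.1 hc, a.one]; exact one_mem _
  have pt : Pr θ (⊤ : Subgroup (Co T)) := fun _ _ => trivial
  have p1 : Pr θ (sZ T) := fun c hc => Z_of fun s =>
    a.cm_mem' le_rfl pt p0 trivial (fun y _ => mem_bot.2 (cm_one y hc)) s trivial
  have p2 : Pr θ (sW T) := fun c hc => W_of fun s =>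
    a.cm_mem' le_rfl pt p1 trivial (fun y _ => cm_Z y hc) s trivial
  have p3 : Pr θ (sZ3 T) := fun c hc => Z3_of fun s =>
    a.cm_mem' le_rfl pt p2 trivial (fun y _ => cm_W y hc) s trivial
  have p4 : Pr θ (sZ4 T) := fun c hc => Z4_of fun s =>
    a.cm_mem' le_rfl pt p3 trivial (fun y _ => cm_Z3 y hc) s trivial
  have p5 : Pr θ (sQ1 T) := fun c hc => T.tr_nd fun v => by
    have e := (a.cm_mem le_top p3 p1 trivial (fun y hy => cm_Q1 hc hy.1) (xd T v) ⟨rfl, rfl, rfl⟩).2.2.2.2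
    rw [cm_e3 _ ⟨rfl, rfl, rfl⟩] at e
    simpa [xd] using e
  have q2 : Pr θ (sQ2 T) := fun c hc => by
    have e := congrArg Co.g (mem_bot.1 (a.cm_mem le_top p2 p0 trivial
      (fun y hy => mem_bot.2 (cm_Q2_W hc hy)) (xe T 1) ⟨rfl, rfl, rfl, rfl⟩))
    rw [cm_g3 _ ⟨rfl, rfl, rfl⟩] at e
    simpa [xe, mem_sQ2] using e
  refine ⟨fun i => ?_, q2⟩
  rcases i with _ | _ | _ | _ | _ | _ | i
  exacts [p0, p1, p2, p3, p4, p5, pt]

section Co
variable {θ : Co T → Co T}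

theorem md (a : Au ⊤ θ) {X : Subgroup (Co T)} (p : Pr θ X) {u w : Co T} (h : u⁻¹ * w ∈ X) :
    (θ u)⁻¹ * θ w ∈ X := by
  have := p _ h
  rwa [a.mul _ trivial _ trivial, a.inv trivial] at this

theorem ea (a : Au ⊤ θ) (p : ∀ i, Pr θ (z0 T i)) {u w : Co T} (h : w.a = u.a) : (θ w).a = (θ u).a :=
  mod5.1 (md a (p 5) (mod5.2 h))

theorem eb (a : Au ⊤ θ) (p : ∀ i, Pr θ (z0 T i)) {u w : Co T} (hu : u ∈ sQ1 T) (hw : w ∈ sQ1 T)
    (h : w.b = u.b) : (θ w).b = (θ u).b :=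
  ((mod4 (p 5 u hu)).1 (md a (p 4) ((mod4 hu).2 ⟨hw, h⟩))).2

theorem ec (a : Au ⊤ θ) (p : ∀ i, Pr θ (z0 T i)) {u w : Co T} (hu : u ∈ sZ4 T) (hw : w ∈ sZ4 T)
    (h : w.c = u.c) : (θ w).c = (θ u).c :=
  ((mod3 (p 4 u hu)).1 (md a (p 3) ((mod3 hu).2 ⟨hw, h⟩))).2

theorem ed (a : Au ⊤ θ) (p : ∀ i, Pr θ (z0 T i)) {u w : Co T} (hu : u ∈ sZ3 T) (hw : w ∈ sZ3 T)
    (h : w.d = u.d) : (θ w).d = (θ u).d :=
  ((mod2 (p 3 u hu)).1 (md a (p 2) ((mod2 hu).2 ⟨hw, h⟩))).2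

theorem ee (a : Au ⊤ θ) (p : ∀ i, Pr θ (z0 T i)) {u w : Co T} (hu : u ∈ sW T) (hw : w ∈ sW T)
    (h : w.e = u.e) : (θ w).e = (θ u).e :=
  ((mod1 (p 2 u hu)).1 (md a (p 1) ((mod1 hu).2 ⟨hw, h⟩))).2

/-- the commutator of the two generators -/
theorem rc (a : Au ⊤ θ) (p : ∀ i, Pr θ (z0 T i)) (t : K) (l : T.k) :
    (θ (xc T (t * l))).c = (θ (xa T t)).a * (θ (xb T l)).b := by
  have h0 : (θ (xb T l)).a = 0 := p 5 _ rfl
  rw [ec a p (u := cm (xb T l) (xa T t)) (cm_Z4 _ _) ⟨rfl, rfl⟩ (by simp [cm_c, xa, xb, xc]),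
    a.cm trivial trivial, cm_c, h0]
  ring

theorem rd (a : Au ⊤ θ) (p : ∀ i, Pr θ (z0 T i)) (t r : K) :
    (θ (xd T (T.cr t r))).d = T.cr (θ (xa T t)).a (θ (xc T r)).c := by
  have h0 : θ (xc T r) ∈ sZ4 T := p 4 _ ⟨rfl, rfl⟩
  rw [ed a p (u := cm (xc T r) (xa T t)) (cm_Z3' ⟨rfl, rfl⟩ _) ⟨rfl, rfl, rfl⟩ (by simp [cm_d, xa, xd, xc]),
    a.cm trivial trivial, cm_d, h0.1, h0.2]
  simp

theorem re (a : Au ⊤ θ) (p : ∀ i, Pr θ (z0 T i)) (t w : K) :
    (θ (xe T (T.trk (t * w)))).e = T.tr ((θ (xa T t)).a * (θ (xd T w)).d) := by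
  have h0 : θ (xd T w) ∈ sZ3 T := p 3 _ ⟨rfl, rfl, rfl⟩
  rw [ee a p (u := cm (xd T w) (xa T t)) (cm_W' ⟨rfl, rfl, rfl⟩ _) ⟨rfl, rfl, rfl, rfl⟩
    (by rw [cm_e3' ⟨rfl, rfl, rfl⟩]; rfl), a.cm trivial trivial, cm_e3' h0]

theorem ad (a : Au ⊤ θ) (p : ∀ i, Pr θ (z0 T i)) (t r : K) :
    (θ (xd T (t + r))).d = (θ (xd T t)).d + (θ (xd T r)).d := by
  have h0 : θ (xd T r) ∈ sZ3 T := p 3 _ ⟨rfl, rfl, rfl⟩
  rw [xd_add, a.mul _ trivial _ trivial, Co.mul_d, h0.1]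
  simp

theorem y_ne (a : Au ⊤ θ) (p : ∀ i, Pr θ (z0 T i)) : (θ (xb T 1)).b ≠ 0 := fun e => by
  have : xb T 1 ∈ sZ4 T := a.mem_of le_top (p 4) trivial ⟨p 5 _ rfl, e⟩
  simpa [xb] using this.2

theorem a_inj (a : Au ⊤ θ) (p : ∀ i, Pr θ (z0 T i)) {t : K} (e : (θ (xa T t)).a = 0) : t = 0 :=
  a.mem_of (Y := sQ1 T) le_top (p 5) trivial e

end Co

theorem as0 (θ : Co T → Co T) (a : Au ⊤ θ) (h : SL T θ) : ∃ δ : Pm T, Cg (z0 T) 6 θ (sd δ) := by
  obtain ⟨x, φ, h⟩ := h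
  have p := (ch θ a).1
  have hx : x ≠ 0 := fun e => one_ne_zero (a_inj a p (t := 1) (by rw [h, e, zero_mul]))
  have hc : ∀ t, (θ (xc T t)).c = x * (θ (xb T 1)).b * φ t := fun t => by
    have := rc a p t 1
    rw [OneMemClass.coe_one, mul_one, h] at this
    rw [this]; ring
  have hb : ∀ l : T.k, (θ (xb T l)).b = (θ (xb T 1)).b * φ l := fun l => by
    have := rc a p 1 l
    rw [one_mul, hc, h, map_one, mul_one, mul_assoc] at this
    exact (mul_left_cancel₀ hx this).symm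
  have hd : ∀ t, (θ (xd T t)).d = T.sh x * (θ (xb T 1)).b * φ t := fun t => by
    have k : ∀ t r, (θ (xd T (T.cr t r))).d = T.sh x * (θ (xb T 1)).b * φ (T.cr t r) := fun t r => by
      rw [rd a p, h, hc, mul_assoc, T.cr_mul, T.cr_fix (Co.hb _), T.map_cr, mul_assoc]
    obtain ⟨t, r, t', r', rfl⟩ := T.exists_cr_add t
    rw [ad a p, k, k, map_add, mul_add]
  have he : ∀ l : T.k, (θ (xe T l)).e = T.nm x * (θ (xb T 1)).b * φ l := fun l => by
    obtain ⟨w, hw⟩ := T.exists_tr (a := 1) one_ne_zero l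
    have := re a p 1 w
    rw [show T.trk (1 * w) = l from Subtype.ext hw, h, hd, map_one, mul_one,
      show x * (T.sh x * (θ (xb T 1)).b * φ w) = T.nm x * (θ (xb T 1)).b * φ w by rw [← T.mul_sh]; ring,
      T.tr_fix (by simp), ← T.map_tr] at this
    rw [this, ← hw, one_mul]
  refine ⟨⟨x, (θ (xb T 1)).bk, φ, hx, y_ne a p⟩, Cg_of (pr_sd_z0 _) p (fun u => ?_) (fun u hu => ?_)
    (fun u hu => ?_) (fun u hu => ?_) (fun u hu => ?_) fun u hu => ?_⟩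
  · rw [ea a p (u := xa T u.a) (w := u) rfl, h]; rfl
  · rw [eb a p (u := xb T u.bk) rfl hu rfl, hb]; rfl
  · rw [ec a p (u := xc T u.c) ⟨rfl, rfl⟩ hu rfl, hc]; rfl
  · rw [ed a p (u := xd T u.d) ⟨rfl, rfl, rfl⟩ hu rfl, hd]; rfl
  · rw [ee a p (u := xe T u.ek) ⟨rfl, rfl, rfl, rfl⟩ hu rfl, he]; rfl
  · have h0 : θ (xe T u.gk) ∈ sW T := p 2 _ ⟨rfl, rfl, rfl, rfl⟩
    conv_lhs => rw [Z_cm hu, a.cm trivial trivial, cm_g3 _ (W_le h0), h0.2.2.2, he]
    simp [sd_g]; ring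

/-- the field part of the semilinearity -/
theorem fld (F G : K → K) (ψ : T.k ≃+* T.k) (D : K) (hD : T.σ D = D) (Fa : ∀ x y, F (x + y) = F x + F y)
    (Ga : ∀ x y, G (x + y) = G x + G y) (Fl : ∀ (l : T.k) x, F (l * x) = ψ l * F x)
    (Gl : ∀ (l : T.k) x, G (l * x) = ψ l * G x) (F1 : F 1 = 1) (Fi : ∀ x, F x = 0 → x = 0)
    (Gs : ∀ x, G (T.sh x) = T.sh (F x)) (Gc : ∀ x y, G (T.cr x y) = T.cr (F x) (F y))
    (ht : ∀ x y, T.tr (F x * G y) = D * ψ (T.trk (x * y))) : ∃ φ : RingAut K, ∀ x, F x = φ x := by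
  have G1 : G 1 = 1 := by simpa [F1] using Gs 1
  have Fs : ∀ x y, F (x - y) = F x - F y := fun x y => by
    rw [eq_sub_iff_add_eq, ← Fa, sub_add_cancel]
  have Gsub : ∀ x y, G (x - y) = G x - G y := fun x y => by
    rw [eq_sub_iff_add_eq, ← Ga, sub_add_cancel]
  have Fk : ∀ l : T.k, F l = ψ l := fun l => by simpa [F1] using Fl l 1
  have Gk : ∀ l : T.k, G l = ψ l := fun l => by simpa [G1] using Gl l 1
  have tF : ∀ x, T.tr (F x) = D * ψ (T.trk x) := fun x => by simpa [G1] using ht x 1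
  have tG : ∀ x, T.tr (G x) = D * ψ (T.trk x) := fun x => by simpa [F1] using ht 1 x
  have GF : ∀ x, G x = F x + (1 - D) * ψ (T.trk x) := fun x => by
    have := Gc 1 x
    rw [F1, T.one_cr, T.one_cr, Gsub, tF, ← T.coe_trk, Gk] at this
    linear_combination -this
  have h3 : 3 * (1 - D) = 0 := by
    obtain ⟨w, hw⟩ := T.exists_tr (a := 1) one_ne_zero 1
    have := tG w
    rw [GF, T.tr_add, tF, T.tr_of_fix (by simp [hD]), show T.trk w = 1 from Subtype.ext (by simpa using hw),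
      map_one] at this
    simpa using this
  have D1 : D = 1 := by
    by_cases e3 : (3 : K) = 0
    swap
    · exact (sub_eq_zero.1 ((mul_eq_zero.1 h3).resolve_left e3)).symm
    obtain ⟨a, ha, hk⟩ : ∃ a, T.tr a = 0 ∧ T.σ a ≠ a := by
      obtain ⟨v, w, hv, hw, n⟩ := T.exists_perp2 1
      rw [one_mul] at hv hw
      by_contra hc
      push Not at hc
      exact n (by simp only [CF.wg, hc v hv, hc w hw]; ring)
    have hs : T.tr (T.sh a) ≠ 0 := fun e => hk (sub_eq_zero.1 (pow_eq_zero_iff (n := 3) (by norm_num) |>.1 (by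
      have e1 := congrArg T.σ e
      simp only [CF.tr, CF.sh, map_mul, map_add, T.cube] at e ha
      have e4 : T.σ (T.σ a) = -a - T.σ a := by linear_combination ha
      rw [e4] at e
      linear_combination (a - T.σ a) * e + (a * (T.σ a) ^ 2 * (-1) + a ^ 2 * T.σ a) * e3)))
    have a2 : a ^ 2 = T.sh a - T.tr (T.sh a) := by
      have := T.sq_mul a 1
      rw [mul_one, mul_one, ha, T.cr_comm, T.one_cr] at this
      linear_combination this
    have a3 : T.cr a (a ^ 2) = (-T.nmk a : T.k) := by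
      have := T.cr_mul a 1 a
      rw [mul_one, T.one_cr, ha, ← pow_two] at this
      rw [this]; push_cast [CF.coe_nmk]; rw [← T.mul_sh]; ring
    have hb : T.tr (F a) = 0 := by rw [tF, show T.trk a = 0 from Subtype.ext ha]; simp
    have bk : T.σ (F a) ≠ F a := fun e => by
      obtain ⟨l, hl⟩ := ψ.surjective ⟨F a, e⟩
      have := Fi (a - l) (by rw [Fs, Fk, hl, sub_self])
      exact hk (by rw [sub_eq_zero.1 this, T.σ_k])
    have e1 : F (a ^ 2) = T.sh (F a) - (2 - D) * ψ (T.trk (T.sh a)) := by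
      have := GF (T.sh a)
      rw [Gs] at this
      rw [a2, Fs, ← T.coe_trk, Fk]
      linear_combination -this
    have e2 := Gc a (a ^ 2)
    rw [a3, Gk, e1] at e2
    have e5 := tG (T.sh a)
    rw [Gs] at e5
    have s0 : (ψ (T.trk (T.sh a)) : K) ≠ 0 := fun e =>
      hs (congrArg Subtype.val ((map_eq_zero_iff ψ ψ.injective).1 (Subtype.ext e)))
    have sk : T.σ (ψ (T.trk (T.sh a))) = ψ (T.trk (T.sh a)) := T.σ_k _
    have nk : T.σ (ψ (-T.nmk a)) = ψ (-T.nmk a) := T.σ_k _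
    generalize (ψ (T.trk (T.sh a)) : K) = s at e2 e5 s0 sk
    generalize (ψ (-T.nmk a) : K) = n at e2 nk
    generalize F a = b at e2 e5 hb bk
    have two : T.σ 2 = 2 := map_ofNat _ 2
    have e6 : n = -T.nm b + ((2 - D) * s - T.tr (T.sh b)) * b := by
      rw [e2]
      simp only [CF.tr, CF.sh, CF.cr, CF.nm, map_mul, map_add, map_sub, T.cube, hD, sk, two] at hb ⊢
      have e4 : T.σ (T.σ b) = -b - T.σ b := by linear_combination hb
      rw [e4]; ring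
    have e7 := congrArg T.σ e6
    simp only [map_add, map_mul, map_sub, map_neg, CF.σ_nm, CF.σ_tr, nk, hD, sk, two] at e7
    have e8 : (2 - D) * s - T.tr (T.sh b) = 0 :=
      mul_right_cancel₀ (sub_ne_zero.2 bk) (by linear_combination e6 - e7)
    have : (1 - D) * s = 0 := by linear_combination -e8 - e5 + (1 - D) * s * e3
    exact (sub_eq_zero.1 ((mul_eq_zero.1 this).resolve_right s0)).symm
  have GF' : ∀ x, G x = F x := fun x => by rw [GF, D1]; ring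
  refine hua_mul F Fa F1 fun a c => ?_
  have := ht a c
  rw [GF', D1, one_mul] at this
  rw [T.sq_mul, Fs, ← T.coe_trk, Fl, ← GF' (T.cr _ _), Gc, ← GF' (T.sh a), Gs, T.sq_mul, this]

theorem as1 (A : A1 T) (hl : ∃ l : T.k, l ≠ 0 ∧ l ≠ 1) (θ : Co T → Co T) (a : Au ⊤ θ) : SL T θ := by
  have p := (ch θ a).1
  obtain ⟨ψ, hψ⟩ := A θ (a.restrict (Y := sQ1 T) le_top (p 5))
  have hy := y_ne a p
  have yk : T.σ (θ (xb T 1)).b = (θ (xb T 1)).b := Co.hb _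
  have hC : ∀ t, (θ (xc T t)).c = (θ (xb T 1)).b * (θ (xa T t)).a := fun t => by
    have := rc a p t 1
    rw [OneMemClass.coe_one, mul_one] at this
    rw [this, mul_comm]
  have sc : ∀ (l : T.k) t, (xc T t).sm l = xc T (l * t) := fun l t => by ext <;> simp [xc, Co.sm]
  have sdd : ∀ (l : T.k) t, (xd T t).sm l = xd T (l * t) := fun l t => by ext <;> simp [xd, Co.sm]
  have se : ∀ l : T.k, (xe T 1).sm l = xe T l := fun l => by ext <;> simp [xe, Co.sm]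
  have Fl : ∀ (l : T.k) t, (θ (xa T (l * t))).a = ψ l * (θ (xa T t)).a := fun l t => by
    have := (hψ l (xc T t) rfl).2.1
    rw [sc, sm_c, hC, hC, mul_left_comm] at this
    exact mul_left_cancel₀ hy this
  have Hl : ∀ (l : T.k) t, (θ (xc T (l * t))).d = ψ l * (θ (xc T t)).d := fun l t => by
    simpa only [sc, sm_d] using (hψ l (xc T t) rfl).2.2.1
  have Gl : ∀ (l : T.k) t, (θ (xd T (l * t))).d = ψ l * (θ (xd T t)).d := fun l t => by
    simpa only [sdd, sm_d] using (hψ l (xd T t) rfl).2.2.1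
  have El : ∀ l : T.k, (θ (xe T l)).e = ψ l * (θ (xe T 1)).e := fun l => by
    simpa only [se, sm_e] using (hψ l (xe T 1) rfl).2.2.2
  have Fa : ∀ s t, (θ (xa T (s + t))).a = (θ (xa T s)).a + (θ (xa T t)).a := fun s t => by
    rw [xa_add, a.mul _ trivial _ trivial, Co.mul_a]
  have k1 : ∀ t, (θ (xd T (T.sh t))).d - (θ (xb T 1)).b * T.sh (θ (xa T t)).a =
      (θ (xc T t)).d - T.cr (θ (xa T t)).a (θ (xb T 1)).c := fun t => by
    have h0 : (θ (xb T 1)).a = 0 := p 5 _ rfl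
    have h1 : θ (xc T t) ∈ sZ4 T := p 4 _ ⟨rfl, rfl⟩
    have h2 : (θ (cm (xa T t) (xb T 1))).a = 0 := p 5 _ (cm_a _ _)
    have := ed a p (u := xc T t * cm (xa T t) (xb T 1)) (w := xd T (T.sh t))
      ⟨by simp [xc], by simp [xc], by simp [xc, cm_c, xa, xb]⟩ ⟨rfl, rfl, rfl⟩ (by simp [xc, xd, cm_d, xa, xb])
    rw [this, a.mul _ trivial _ trivial, Co.mul_d, h2, a.cm trivial trivial, cm_d, h0]
    simp only [CF.zero_cr, CF.sh_zero]
    ring
  have Gs : ∀ t, (θ (xd T (T.sh t))).d = (θ (xb T 1)).b * T.sh (θ (xa T t)).a := fun t => by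
    obtain ⟨l, l0, l1⟩ := hl
    have n0 : (ψ l : K) ≠ 0 := fun e => l0 ((map_eq_zero_iff ψ ψ.injective).1 (Subtype.ext e))
    have n1 : (ψ l : K) - 1 ≠ 0 := fun e =>
      l1 (ψ.injective (Subtype.ext (by simpa using sub_eq_zero.1 e)))
    have e1 := k1 t
    have e2 := k1 (l * t)
    rw [T.sh_mul, T.sh_of_fix (T.σ_k l), pow_two, mul_assoc, Gl, Gl, Fl, Hl, T.sh_mul, T.sh_of_fix (T.σ_k _),
      T.cr_comm, T.cr_fix (T.σ_k _), T.cr_comm] at e2
    exact sub_eq_zero.1 (mul_left_cancel₀ (mul_ne_zero n0 n1) (by linear_combination e2 - ψ l * e1))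
  have hx : (θ (xa T 1)).a ≠ 0 := fun e => one_ne_zero (a_inj a p e)
  obtain ⟨x, ex⟩ : ∃ x, x = (θ (xa T 1)).a := ⟨_, rfl⟩
  obtain ⟨y, ey⟩ : ∃ y, y = (θ (xb T 1)).b := ⟨_, rfl⟩
  rw [← ex] at hx
  rw [← ey] at hy yk hC Gs
  have sx : T.sh x ≠ 0 := T.sh_eq_zero.not.2 hx
  have nx : T.nm x ≠ 0 := T.nm_eq_zero.not.2 hx
  obtain ⟨φ, hφ⟩ := fld (T := T) (fun t => x⁻¹ * (θ (xa T t)).a) (fun t => (T.sh x * y)⁻¹ * (θ (xd T t)).d) ψ
    ((T.nm x * y)⁻¹ * (θ (xe T 1)).e) (by simp [yk]) (fun s t => by simp only [Fa, mul_add])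
    (fun s t => by simp only [ad a p, mul_add]) (fun l t => by simp only [Fl]; ring)
    (fun l t => by simp only [Gl]; ring) (by simp only [← ex]; exact inv_mul_cancel₀ hx)
    (fun t e => a_inj a p ((mul_eq_zero.1 e).resolve_left (inv_ne_zero hx)))
    (fun t => by simp only [Gs, T.sh_mul, T.sh_inv]; field_simp)
    (fun t r => by simp only [rd a p, hC, T.cr_mul, T.cr_fix yk, T.sh_inv]; field_simp)
    (fun t w => by
      have := re a p t w
      rw [El] at this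
      rw [show x⁻¹ * (θ (xa T t)).a * ((T.sh x * y)⁻¹ * (θ (xd T w)).d) =
        (T.nm x * y)⁻¹ * ((θ (xa T t)).a * (θ (xd T w)).d) by rw [← T.mul_sh]; field_simp,
        T.tr_fix (by simp [yk]), ← this]
      ring)
  exact ⟨x, φ, fun t => by rw [← hφ]; field_simp⟩

theorem jobCH : JobCH.{v} := fun _ _ _ _ _ _ _ => ch

theorem jobAS0 : JobAS0.{v} := fun _ _ _ _ _ _ _ _ => as0

theorem jobAS1 : JobAS1.{v} := fun _ _ _ _ _ _ _ A _ => as1 A

end H7.D3AS
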