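import Cfsg.Agent.H20.DGSpec

/-! Tower DG (S3579), slot D1: a coset of `A` in `P` has an element of order not dividing `p`. -/

set_option autoImplicit false

namespace H7.DgD1

open Subgroup MulAction Cfsg H98 H20.DG

universe u v

section

variable {G : Type u} {Ω : Type v} [Group G] [Finite G] [MulAction G Ω] {p : ℕ}

/-- An element of `P` fixing a point with orbit of length `p` fixes the orbit. -/
theorem fix_orbit (hp : p.Prime) {P : Subgroup G} (hP : IsPGroup p P) {a : Ω}
    (ha : (stabilizer G a).relIndex P = p) {y : G} (hy : y ∈ P) (hya : y • a = a) {g : G}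
    (hg : g ∈ P) : y • (g • a) = g • a := by
  haveI := Fact.mk hp
  obtain ⟨n, hn⟩ := IsPGroup.iff_card.1 hP
  have hn0 : n ≠ 0 := by
    rintro rfl
    have h1 : ((stabilizer G a).subgroupOf P).index ∣ Nat.card P := index_dvd_card _
    rw [hn, pow_zero] at h1
    change (stabilizer G a).relIndex P ∣ 1 at h1
    rw [ha] at h1
    exact hp.one_lt.ne' (Nat.dvd_one.1 h1)
  have hN : ((stabilizer G a).subgroupOf P).Normal := by
    apply normal_of_index_eq_minFac_card
    rw [hn, hp.pow_minFac hn0]
    exact ha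
  have h1 := hN.conj_mem ⟨y, hy⟩ (mem_subgroupOf.2 hya) ⟨g, hg⟩⁻¹
  rw [mem_subgroupOf, mem_stabilizer_iff] at h1
  have h2 : (g⁻¹ * y * g) • a = a := by simpa using h1
  rw [mul_smul, mul_smul, inv_smul_eq_iff] at h2
  exact h2

/-- Elements of `A` moving `a` to a given point are few when `A` does not fix `a`. -/
theorem few (hp : p.Prime) {A : Subgroup G} (hA : IsPGroup p A) {a : Ω}
    (ha : ¬ A ≤ stabilizer G a) (c : Ω) :
    {b : G | b ∈ A ∧ b • a = c}.ncard * p ≤ Nat.card A := by
  haveI := Fact.mk hp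
  by_cases hne : {b : G | b ∈ A ∧ b • a = c}.Nonempty
  swap
  · rw [Set.not_nonempty_iff_eq_empty.1 hne]
    simp
  obtain ⟨b0, hb0, e0⟩ := hne
  have h1 : {b : G | b ∈ A ∧ b • a = c}.ncard ≤ Nat.card ((stabilizer G a).subgroupOf A) := by
    rw [← Nat.card_coe_set_eq]
    refine Nat.card_le_card_of_injective (fun b => ⟨⟨b0⁻¹ * b.1, mul_mem (inv_mem hb0) b.2.1⟩,
      mem_subgroupOf.2 (mem_stabilizer_iff.2 ?_)⟩) ?_
    · change (b0⁻¹ * b.1) • a = a
      rw [mul_smul, b.2.2, inv_smul_eq_iff, e0]
    · intro b b' h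
      have h' : b0⁻¹ * b.1 = b0⁻¹ * b'.1 := congrArg (fun z => (z.1.1 : G)) h
      exact Subtype.ext (mul_left_cancel h')
  have h2 : p ≤ ((stabilizer G a).subgroupOf A).index := by
    obtain ⟨k, hk⟩ := hA.index ((stabilizer G a).subgroupOf A)
    have hk0 : k ≠ 0 := by
      rintro rfl
      rw [pow_zero] at hk
      exact ha (relIndex_eq_one.1 hk)
    rw [hk]
    exact Nat.le_self_pow hk0 p
  calc _ ≤ Nat.card ((stabilizer G a).subgroupOf A) * ((stabilizer G a).subgroupOf A).index :=
        Nat.mul_le_mul h1 h2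
    _ = Nat.card A := card_mul_index _

end

theorem jobD1 : JobD1.{u, v} := by
  intro G Ω _ _ _ _ p q P A O hy hqp b1 x hx hxA
  classical
  by_contra hcon
  push Not at hcon
  have hp := hy.pp
  haveI := Fact.mk hp
  haveI := Fintype.ofFinite G
  haveI := Fintype.ofFinite Ω
  have hP : IsPGroup p P := b1.syl.isPGroup
  have hA : IsPGroup p A := b1.el.isPGroup
  have hxb : ∀ b ∈ A, x * b ∉ A := fun b hb h =>
    hxA (by simpa using mul_mem h (inv_mem hb))
  -- each `x b` fixes at least `p` points off `O`
  have low : ∀ b ∈ A, p ≤ {a : Ω | a ∉ O ∧ (x * b) • a = a}.ncard := by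
    intro b hb
    have hy1 : x * b ≠ 1 := fun h => hxb b hb (h ▸ one_mem A)
    have ho : orderOf (x * b) = p := orderOf_eq_prime (hcon b hb) hy1
    have hyP : x * b ∈ P := mul_mem hx (b1.le hb)
    obtain ⟨a, ha⟩ : ∃ a : Ω, (x * b) • a = a := by
      by_contra h
      push Not at h
      exact hy.nd ⟨x * b, ho ▸ hp, h⟩
    have haO : a ∉ O := fun h => hxb b hb (b1.inP a h ⟨hyP, ha⟩)
    have h1 : (Ob P a).ncard = p := by rw [ncard_Ob, b1.out a haO]
    rw [← h1]
    refine Set.ncard_le_ncard ?_ (Set.toFinite _)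
    rintro _ ⟨g, hg, rfl⟩
    refine ⟨fun h => haO ((b1.orb _ h a).2 ⟨g⁻¹, inv_mem hg, inv_smul_smul g a⟩), ?_⟩
    exact fix_orbit hp hP (b1.out a haO) hyP ha hg
  -- each point off `O` is fixed by few `x b`
  have up : ∀ a, a ∉ O → {b : G | b ∈ A ∧ (x * b) • a = a}.ncard * p ≤ Nat.card A := by
    intro a haO
    by_cases hAa : A ≤ stabilizer G a
    · have he : {b : G | b ∈ A ∧ (x * b) • a = a} = ∅ := by
        refine Set.eq_empty_of_forall_notMem fun b ⟨hb, e⟩ => hxA ?_
        have hxa : x ∈ stabilizer G a := by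
          have := mul_mem (mem_stabilizer_iff.2 e) (inv_mem (hAa hb))
          simpa using this
        have hle : A.subgroupOf P ≤ (stabilizer G a).subgroupOf P := subgroupOf_mono P hAa
        have hi : (A.subgroupOf P).index = ((stabilizer G a).subgroupOf P).index := by
          change A.relIndex P = (stabilizer G a).relIndex P
          rw [b1.idx, b1.out a haO]
        have heq : A.subgroupOf P = (stabilizer G a).subgroupOf P := by
          refine eq_of_le_of_card_ge hle (le_of_eq ?_)
          have c1 := card_mul_index (A.subgroupOf P)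
          have c2 := card_mul_index ((stabilizer G a).subgroupOf P)
          rw [hi, ← c2] at c1
          exact (Nat.eq_of_mul_eq_mul_right (Nat.pos_of_ne_zero index_ne_zero_of_finite) c1).symm
        have : (⟨x, hx⟩ : P) ∈ A.subgroupOf P := heq ▸ mem_subgroupOf.2 hxa
        exact mem_subgroupOf.1 this
      rw [he]
      simp
    · have he : {b : G | b ∈ A ∧ (x * b) • a = a} = {b : G | b ∈ A ∧ b • a = x⁻¹ • a} := by
        ext b
        simp only [Set.mem_setOf_eq, mul_smul, eq_inv_smul_iff]
      rw [he]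
      exact few hp hA hAa _
  -- double counting
  set s : Finset G := Finset.univ.filter (· ∈ A) with hs
  set t : Finset Ω := Finset.univ.filter (· ∉ O) with ht
  have key := Finset.card_mul_le_card_mul (s := s) (t := t) (fun b a => (x * b) • a = a)
    (m := p) (n := Nat.card A / p) (fun b hb => by
      have hb' : b ∈ A := (Finset.mem_filter.1 hb).2
      refine (low b hb').trans (le_of_eq ?_)
      rw [← Set.ncard_coe_finset]
      congr 1
      ext a
      simp [ht, Finset.bipartiteAbove]) (fun a ha => by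
      have ha' : a ∉ O := (Finset.mem_filter.1 ha).2
      rw [Nat.le_div_iff_mul_le hp.pos]
      refine le_trans (le_of_eq ?_) (up a ha')
      rw [← Set.ncard_coe_finset]
      congr 2
      ext b
      simp [hs, Finset.bipartiteBelow])
  have hsc : s.card = Nat.card A := by
    rw [← Set.ncard_coe_finset, ← Nat.card_coe_set_eq]
    congr 2
    ext b
    simp [hs]
  have htc : p ^ 2 + t.card = 2 * p * q := by
    rw [← hy.card, ← Set.ncard_add_ncard_compl O, b1.cardO, ← Set.ncard_coe_finset]
    congr 2
    ext a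
    simp [ht]
  have h1 : Nat.card A / p * p ≤ Nat.card A := Nat.div_mul_le_self _ _
  have h2 : Nat.card A * (p * p) ≤ Nat.card A * t.card := by
    calc Nat.card A * (p * p) = s.card * p * p := by rw [hsc, mul_assoc]
      _ ≤ t.card * (Nat.card A / p) * p := Nat.mul_le_mul_right p key
      _ = t.card * (Nat.card A / p * p) := mul_assoc _ _ _
      _ ≤ t.card * Nat.card A := Nat.mul_le_mul_left _ h1
      _ = Nat.card A * t.card := mul_comm _ _
  have h3 : p * p ≤ t.card := Nat.le_of_mul_le_mul_left h2 Nat.card_pos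
  have h4 : p * q < p * p := Nat.mul_lt_mul_of_pos_left hqp hp.pos
  nlinarith

end H7.DgD1
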