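/- FS tower: the bridge from split polygons to Moufang polygons, and central elations. -/
import Cfsg.Agent.H7.FSSpec
import Cfsg.Agent.H12.BNMp

set_option autoImplicit false

namespace H7.FS

open H67 H64 H54 H12.BN H12.BP Cfsg Subgroup
open scoped Pointwise commutatorElement

section dict
variable {W ι : Type} [Group W] [Finite W] {s : ι → W} {P : ι → Set W} {C : Type}

theorem om_in (E : Exch s P) (i j : ι) (l : ℤ) :
    ∀ k : ℤ, k - (mm s i j : ℕ) ≤ l → l < k → om s i j l ∈ rt s P i j k := by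
  have e : ∀ l, om s i j (l + 2) = s i * s j * om s i j l := fun l => by
    unfold om
    rw [(by omega : (l + 2) / 2 = 1 + l / 2), (by omega : (l + 2) % 2 = l % 2), zpow_add, zpow_one, mul_assoc]
  refine int_ind2 (p := fun l => ∀ k : ℤ, k - (mm s i j : ℕ) ≤ l → l < k → om s i j l ∈ rt s P i j k)
    (fun k a b => ?_) (fun k a b => ?_) (fun l => ⟨fun h k a b => ?_, fun h k a b => ?_⟩) l
  · rw [show om s i j 0 = 1 by simp [om]]; exact rt_pos E i j (by omega) (by omega)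
  · rw [show om s i j 1 = s i * 1 by simp [om], rt_refl_i E, ← Set.mem_compl_iff, ← rt_neg E]
    exact rt_pos E i j (by omega) (by omega)
  · rw [show k = k - 2 + 2 by ring, rt_add_two, e, inv_mul_cancel_left]
    exact h _ (by omega) (by omega)
  · have := h (k + 2) (by omega) (by omega)
    rwa [rt_add_two, e, inv_mul_cancel_left] at this

theorem om_out (E : Exch s P) (i j : ι) {l k : ℤ} (h1 : k ≤ l) (h2 : l < k + (mm s i j : ℕ)) :
    om s i j l ∉ rt s P i j k := by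
  rw [← Set.mem_compl_iff, ← rt_neg E]
  exact om_in E i j l _ (by omega) (by omega)

omit [Finite W] in
theorem om_perk (i j : ι) (l t : ℤ) : om s i j (l + t * (2 * (mm s i j : ℕ))) = om s i j l := by
  induction t using Int.induction_on with
  | zero => simp
  | succ t ih => rw [← ih, ← om_per i j (l + t * _)]; congr 1; ring
  | pred t ih => rw [← ih, ← om_per i j (l + (-t - 1) * _)]; congr 1; ring

theorem om_red (E : Exch s P) (i j : ι) {l k : ℤ} (h : om s i j l ∈ rt s P i j k) :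
    ∃ t : ℤ, k - (mm s i j : ℕ) ≤ l + t * (2 * (mm s i j : ℕ)) ∧ l + t * (2 * (mm s i j : ℕ)) < k := by
  have hp : (0 : ℤ) < 2 * (mm s i j : ℕ) := by have := mm_pos (s := s) i j; omega
  set m : ℤ := ((mm s i j : ℕ) : ℤ) with hm
  have a := Int.emod_nonneg (l - (k - m)) hp.ne'
  have b := Int.emod_lt_of_pos (l - (k - m)) hp
  have c := Int.emod_add_mul_ediv (l - (k - m)) (2 * m)
  refine ⟨-((l - (k - m)) / (2 * m)), by linarith, ?_⟩
  by_contra d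
  rw [← om_perk i j l (-((l - (k - m)) / (2 * m)))] at h
  exact om_out E i j (by linarith) (by linarith) h

omit [Finite W] in
theorem om_pred (E : Exch s P) (i j : ι) (l : ℤ) : om s i j l * s (ta i j (l - 1)) = om s i j (l - 1) := by
  have := om_succ (s := s) i j (l - 1)
  rw [sub_add_cancel] at this
  rw [this, E.mul_s_mul_s]

omit [Finite W] [Group W] in
theorem ta_or {i j : ι} (h : ∀ k, k = i ∨ k = j) (t : ι) (l : ℤ) : t = ta i j l ∨ t = ta i j (l - 1) := by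
  unfold ta
  rcases h t with e | e <;> split_ifs <;> first | exact Or.inl e | exact Or.inr e | omega

theorem half_rt (E : Exch s P) {i j : ι} (A : HalfSp P) (l : ℤ) (h1 : om s i j l ∈ A.1) :
    (om s i j (l + 1) ∉ A.1 → A.1 = rt s P i j (l + 1)) ∧
      (om s i j (l - 1) ∉ A.1 → A.1 = rt s P i j (l + (mm s i j : ℕ))) := by
  have hp := mm_pos (s := s) i j
  refine ⟨fun h2 => ?_, fun h2 => ?_⟩
  · obtain ⟨B, hB⟩ := rt_half E i j (l + 1)
    rw [← hB, half_eq E A h1 (om_succ (s := s) i j l ▸ h2), half_eq E B (i := ta i j l)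
      (hB ▸ om_in E i j l _ (by omega) (by omega))
      (by rw [hB, ← om_succ]; exact om_out E i j le_rfl (by omega))]
  · obtain ⟨B, hB⟩ := rt_half E i j (l + (mm s i j : ℕ))
    rw [← hB, half_eq E A h1 (om_pred E i j l ▸ h2), half_eq E B (i := ta i j (l - 1))
      (hB ▸ om_in E i j l _ (by omega) (by omega))
      (by rw [hB, om_pred E, ← om_per]; exact om_out E i j (by omega) (by omega))]

theorem all_rt (E : Exch s P) {i j : ι} (h : ∀ k, k = i ∨ k = j) (A : HalfSp P) :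
    ∃ k, A.1 = rt s P i j k := by
  obtain ⟨w, t, h1, h2⟩ := exists_bdry E A
  obtain ⟨l, rfl⟩ := om_surj E h w
  rcases ta_or h t l with rfl | rfl
  · exact ⟨_, (half_rt E A l h1).1 (om_succ (s := s) i j l ▸ h2)⟩
  · exact ⟨_, (half_rt E A l h1).2 (om_pred E i j l ▸ h2)⟩

variable {Δ : Bld s P C} {a : W → C} {i j : ι} {G : Type} [Group G] [MulAction G C] (h : RT Δ a i j G)
include h

local notation "X" => vx Δ a i j
local notation "ℰ" => EE Δ a i j G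
local notation "𝑚" => ((mm s i j : ℕ) : ℤ)

theorem to_RG {g : G} {k : ℤ} (h0 : ∀ l, k - 𝑚 ≤ l → l ≤ k → g • X l = X l)
    (h1 : ∀ l, k - 𝑚 < l → l < k → g ∈ Bl G ℰ 1 (X l)) :
    MulAction.toPerm g ∈ Δ.RG a (rt s P i j k) := by
  have h3 := h.three
  have key : ∀ w ∈ rt s P i j k, ∃ l, k - 𝑚 ≤ l ∧ l < k ∧ om s i j l = w := fun w hw => by
    obtain ⟨l, rfl⟩ := om_surj Δ.E h.all w
    obtain ⟨t, a, b⟩ := om_red Δ.E i j hw
    exact ⟨_, a, b, om_perk i j l t⟩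
  refine ⟨h.inv g, fun w hw => ?_, fun w hw t ht z hz => ?_⟩ <;> obtain ⟨l, a1, a2, rfl⟩ := key w hw
  · exact h.fix_c.2 ⟨h0 _ a1 (by omega), h0 _ (by omega) (by omega)⟩
  · rcases ta_or h.all t l with rfl | rfl
    · have : l + 1 < k := by
        by_contra d
        exact om_out Δ.E i j (l := l + 1) (by omega) (by omega) (om_succ (s := s) i j l ▸ ht)
      have e := mem_Bl1.1 (h1 (l + 1) (by omega) this)
      refine h.star e.1 e.2 ?_
      rw [add_sub_cancel_right]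
      exact Bld.Res.trans (ra (Δ.δ_symm_s (h.adjc l))) (ra hz)
    · have : k - 𝑚 < l := by
        by_contra d
        rw [om_pred Δ.E, ← om_per] at ht
        exact om_out Δ.E i j (by omega) (by omega) ht
      have e := mem_Bl1.1 (h1 l this a2)
      exact h.star e.1 e.2 (ra hz)

theorem of_RG {g : G} {k : ℤ} (hg : MulAction.toPerm g ∈ Δ.RG a (rt s P i j k)) {l : ℤ} (h1 : k - 𝑚 ≤ l)
    (h2 : l ≤ k) : g • X l = X l := by
  have h3 := h.three
  by_cases d : l = k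
  · have := (h.fix_c.1 (hg.2.1 _ (om_in Δ.E i j (l - 1) k (by omega) (by omega)))).2
    rwa [sub_add_cancel] at this
  · exact (h.fix_c.1 (hg.2.1 _ (om_in Δ.E i j l k (by omega) (by omega)))).1

theorem mv1 {S : G → Prop} {k : ℤ}
    (hS : ∀ y, ℰ (X k) y → y ≠ X (k - 1) → ∃ g, S g ∧ g • X k = X k ∧ g • X (k + 1) = y) {z : C}
    (hz : Δ.δ (a (om s i j (k - 1))) z = s (ta i j (k - 1))) : ∃ g, S g ∧ g • a (om s i j k) = z := by
  have e1 := h.adjc (k - 1)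
  rw [sub_add_cancel] at e1
  have r : Δ.Res {ta i j (k - 1)} (a (om s i j k)) z := Bld.Res.trans (ra (Δ.δ_symm_s e1)) (ra hz)
  obtain ⟨t, t1, t2⟩ := h.nbv r
  obtain ⟨g, g0, g1, g2⟩ := hS _ ⟨t, k, t1, t2⟩ fun e => by
    rw [vx, ta_eq i j (l := k - 1 - 1) (k := k) (by omega)] at e
    rw [Δ.eq_of_res_res (ta_ne h.ne (by omega)) (pan_eq e).2.symm (ra hz), Δ.δ_self] at hz
    exact Δ.E.s_ne_one _ hz.symm
  rw [h.vx', h.sm_pan] at g2
  rw [vx, h.sm_pan] at g1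
  exact ⟨g, g0, Δ.eq_of_res_res (ta_ne h.ne (by omega)) (pan_eq g2).2 ((pan_eq g1).2.trans r)⟩

theorem mv2 {S : G → Prop} {k : ℤ}
    (hS : ∀ y, ℰ (X k) y → y ≠ X (k + 1) → ∃ g, S g ∧ g • X k = X k ∧ g • X (k - 1) = y) {z : C}
    (hz : Δ.δ (a (om s i j k)) z = s (ta i j (k - 1))) : ∃ g, S g ∧ g • a (om s i j (k - 1)) = z := by
  have e1 := h.adjc (k - 1)
  have hv := h.vx' (k - 1)
  rw [sub_add_cancel] at e1 hv
  obtain ⟨t, t1, t2⟩ := h.nbv (ra hz)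
  obtain ⟨g, g0, g1, g2⟩ := hS _ ⟨t, k, t1, t2⟩ fun e => by
    rw [h.vx'] at e
    rw [Δ.eq_of_res_res (ta_ne h.ne (by omega)) (pan_eq e).2.symm (ra hz), Δ.δ_self] at hz
    exact Δ.E.s_ne_one _ hz.symm
  rw [vx, ta_eq i j (l := k - 1 - 1) (k := k) (by omega), h.sm_pan] at g2
  rw [hv, h.sm_pan] at g1
  exact ⟨g, g0, Δ.eq_of_res_res (ta_ne h.ne (by omega)) (pan_eq g2).2
    ((pan_eq g1).2.trans ((ra e1).trans (ra hz)))⟩

theorem RG_le (hG : GD Δ a) {S : G → Prop} {k : ℤ}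
    (hS : ∀ y, ℰ (X k) y → y ≠ X (k - 1) → ∃ g, S g ∧ g • X k = X k ∧ g • X (k + 1) = y)
    (hR : ∀ g, S g → MulAction.toPerm g ∈ Δ.RG a (rt s P i j k)) {φ : Equiv.Perm C}
    (hφ : φ ∈ Δ.RG a (rt s P i j k)) : ∃ g, S g ∧ MulAction.toPerm g = φ := by
  have h3 := h.three
  have e1 := h.adjc (k - 1)
  have e2 := om_succ (s := s) i j (k - 1)
  rw [sub_add_cancel] at e1 e2
  have m := om_in Δ.E i j (k - 1) k (by omega) (by omega)
  obtain ⟨g, g0, g1⟩ := mv1 h hS (z := φ (a (om s i j k))) (by rw [← hφ.2.1 _ m, hφ.1, e1])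
  obtain ⟨A, hA⟩ := rt_half Δ.E i j k
  rw [← hA] at hφ hR m
  refine ⟨g, g0, inv_mul_eq_one.1 (hG.reg A _ m (ta i j (k - 1)) ?_ _ (mul_mem (inv_mem (hR g g0)) hφ) ?_)⟩
  · rw [← e2, hA]; exact om_out Δ.E i j le_rfl (by omega)
  · rw [← e2, Equiv.Perm.mul_apply, ← g1, Equiv.Perm.inv_eq_iff_eq]; rfl

end dict

theorem jobBrM : JobBrM := by
  intro G _ _ P U hc hU Δ a hδ ha hn i j hall hij
  have R := rt_of hδ ha hc hall hij
  obtain ⟨p, hp, hpU, hr⟩ := reg_two hδ hn R hU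
  let Q := (sup_of hn R hU).toSP hpU
  have h3 := R.three
  have hR : ∀ k g, g ∈ Q.Pp (k - (mm (sim P) i j : ℕ)) k →
      MulAction.toPerm g ∈ Δ.RG a (rt (sim P) (asc P) i j k) := fun k g hg =>
    to_RG R (fun l a b => SP.Pp.fix hg l a b) fun l a b =>
      hr l (R.pol.x (l - 1)) (R.pol.x (l + 1)) (R.pol.ex (by omega)) (R.pol.ex (by omega))
        (R.pol.nx (by omega)) g (SP.Pp.U hg (l - 1) l (by ring) (by omega) (by omega))
        (SP.Pp.fix hg _ (by omega) (by omega))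
  have hS : ∀ k y, EE Δ a i j G (vx Δ a i j k) y → y ≠ vx Δ a i j (k - 1) →
      ∃ g, g ∈ Q.Pp (k - (mm (sim P) i j : ℕ)) k ∧ g • vx Δ a i j k = vx Δ a i j k ∧
        g • vx Δ a i j (k + 1) = y := fun k y e hy => by
    obtain ⟨g, g1, g2⟩ := Q.K2' (i := k - (mm (sim P) i j : ℕ)) (k := k) (by omega) (by omega) e hy
    exact ⟨g, g1, SP.Pp.fix g1 k (by omega) le_rfl, g2⟩
  have hM : Δ.Mou a := fun A w hw t ht z hz => by
    obtain ⟨l, rfl⟩ := om_surj Δ.E hall w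
    rcases ta_or hall t l with rfl | rfl
    · rw [← om_succ] at ht ⊢
      obtain ⟨g, g1, g2⟩ := mv1 R (hS (l + 1)) (z := z) (by rwa [add_sub_cancel_right])
      exact ⟨_, (half_rt Δ.E A l hw).1 ht ▸ hR _ g g1, g2⟩
    · rw [om_pred Δ.E] at ht ⊢
      obtain ⟨g, g1, g2⟩ := mv2 R (S := fun g => g ∈ Q.Pp l (l + (mm (sim P) i j : ℕ))) (k := l)
        (fun y e hy => by
          obtain ⟨g, g1, g2⟩ := Q.K2 (i := l) (k := l + (mm (sim P) i j : ℕ)) le_rfl e hy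
          exact ⟨g, g1, SP.Pp.fix g1 l le_rfl (by omega), g2⟩) hz
      exact ⟨_, (half_rt Δ.E A l hw).2 ht ▸ hR _ g (by rwa [add_sub_cancel_right]), g2⟩
  have hirr : Irr (sim P) := fun J ⟨x, hx⟩ ⟨y, hy⟩ => ⟨x, hx, y, hy, by
    rcases hall x with rfl | rfl <;> rcases hall y with rfl | rfl
    exacts [absurd hx hy, hij.symm, hij, absurd hx hy]⟩
  have hG := jobGRD _ _ _ _ _ Δ a ha hirr ⟨i, j, R.ne⟩ hM
  have hUU : IsPGroup p (Δ.UU a) := by
    refine ((U_p (G := G) (p := p) (R.pol.x 0) (R.pol.x 1)).map (H38.BNF.ρ P)).to_le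
      (iSup₂_le fun A hA φ hφ => ?_)
    obtain ⟨k, hk⟩ := all_rt Δ.E hall A
    rw [hk] at hφ hA
    obtain ⟨g, g1, rfl⟩ := RG_le R hG (hS k) (hR k) hφ
    obtain ⟨t, t1, t2⟩ := om_red Δ.E i j (l := 0) (k := k) (by simpa [om] using hA)
    have := SP.Pp.U g1 _ _ rfl t1 t2
    rw [Q.perk, add_right_comm, Q.perk] at this
    exact ⟨g, this, rfl⟩
  refine ⟨hM, iSup_le fun A φ hφ => ?_, p, hp, hUU, fun h8 => ?_⟩
  · obtain ⟨k, hk⟩ := all_rt Δ.E hall A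
    obtain ⟨g, -, rfl⟩ := RG_le R hG (hS k) (hR k) (hk ▸ hφ)
    exact ⟨g, rfl⟩
  · haveI := Fact.mk hp
    have hq : ∀ k, ∃ r, qw P (sim P k) = p ^ r := fun k => by
      rw [← card_wdist_eq, ← hδ, Δ.card_adj k (a 1), ← hG.card]
      exact IsPGroup.iff_card.1 (hUU.to_le
        (H38.BNF.RG_le_UU ((Δ.E.wdata Δ.inj).p k) (Δ.E.one_mem k)))
    obtain ⟨r, h1⟩ := hq i
    obtain ⟨r', h2⟩ := hq j
    obtain ⟨t, ht⟩ := fh8 i j h8
    rw [h1, h2, mul_assoc, ← pow_add] at ht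
    obtain ⟨u, rfl⟩ : 2 ∣ t := Nat.prime_two.dvd_of_dvd_pow (n := 2) ⟨_, by rw [sq, ← ht]⟩
    exact ((Nat.prime_dvd_prime_iff_eq Nat.prime_two hp).1
      (Nat.prime_two.dvd_of_dvd_pow (n := r + r') ⟨u * u, by linarith⟩)).symm

theorem cm_of {n : ℕ} {G : Type} [Group G] (x : MP n G) {i j : ℤ} (hij : j ≠ i) (h1 : j < i + n)
    (h2 : i < j + n) {v g : G} (hv : v ∈ x.U i) (hg : g ∈ x.U j) (hc : ∀ u ∈ ({v, v⁻¹} : Set G),
    g * u * g⁻¹ ∈ x.U i) : v * g = g * v := by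
  rcases lt_or_gt_of_ne hij with d | d
  · have := x.disj' i _ (mul_mem (hc v (Or.inl rfl)) (inv_mem hv))
      (H59.BN.II_mono _ (by omega) le_rfl (x.comm j i d h2 g hg v hv))
    exact (commutatorElement_eq_one_iff_mul_comm.1 this).symm
  · have e : ⁅v, g⁆ = v * (g * v⁻¹ * g⁻¹) := by rw [commutatorElement_def]; group
    have := x.disj i _ (e ▸ mul_mem hv (hc _ (Or.inr rfl)))
      (H59.BN.II_mono _ le_rfl (by omega) (x.comm i j d h1 v hv g hg))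
    exact commutatorElement_eq_one_iff_mul_comm.1 this

section aut
variable {W ι : Type} [Group W] [Finite W] {s : ι → W} {P : ι → Set W} {C : Type} [Finite C]
  {Δ : Bld s P C} {a : W → C} {i j : ι}

open H38.BNF

theorem rt_aut (ha : Δ.Apt a) (hG : GD Δ a) (hij : i ≠ j) (h : ∀ k, k = i ∨ k = j) (h3 : 3 ≤ mm s i j) :
    RT Δ a i j Δ.Aut := by
  refine ⟨ha, hij, h, h3, fun g => g.2, fun x y x' y' e => ?_, fun g hg => Subtype.ext (Equiv.ext hg)⟩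
  have key : ∀ x y, ∃ g ∈ Δ.Aut, g (a 1) = x ∧ g (a (Δ.δ x y)) = y := fun x y => by
    obtain ⟨k, hk, rfl⟩ := trans_KK hG x
    obtain ⟨u, hu, e⟩ := trans_UU hG (k⁻¹ y)
    refine ⟨k * u, KK_le_Aut (mul_mem hk (UU_le_KK hu)), by rw [Equiv.Perm.mul_apply, UU_fix hu], ?_⟩
    rw [← KK_le_Aut hk, pai] at e
    rw [Equiv.Perm.mul_apply, e, pai]
  obtain ⟨g, hg, g1, g2⟩ := key x y
  obtain ⟨g', hg', g1', g2'⟩ := key x' y'
  refine ⟨⟨g' * g⁻¹, mul_mem hg' (inv_mem hg)⟩, ?_, ?_⟩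
  · show g' (g⁻¹ x) = x'
    rw [← g1, pia, g1']
  · show g' (g⁻¹ y) = y'
    rw [← g2, pia, e, g2']

theorem sup_aut (hG : GD Δ a) (h : RT Δ a i j Δ.Aut) : Sup h.pol ((Δ.UU a).subgroupOf Δ.Aut) := by
  have k : ∀ g : Δ.Aut, g.1 (a 1) = a 1 ↔ g • h.pol.x 0 = h.pol.x 0 ∧ g • h.pol.x 1 = h.pol.x 1 :=
    fun g => by
      refine Iff.trans ?_ (h.fix_c (l := 0))
      rw [show om s i j 0 = 1 by simp [om]]; rfl
  obtain ⟨w0, h0⟩ := Δ.E.exists_isLongest Set.univ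
  have key : ∀ b : Δ.Aut, b.1 (a 1) = a 1 → ∃ u ∈ Δ.UU a, u⁻¹ * b ∈ Δ.HH a := fun b hb => by
    obtain ⟨u, hu, e⟩ := trans_UU hG (b.1 (a (1 * w0)))
    rw [← hb, b.2, h.apt.mul] at e
    refine ⟨u, hu, Bld.mem_HH h0 h.apt (u := 1) (mul_mem (inv_mem (KK_le_Aut (UU_le_KK hu))) b.2) ?_ ?_⟩
    · rw [Equiv.Perm.mul_apply, hb, UU_fix (inv_mem hu)]
    · rw [Equiv.Perm.mul_apply, ← e, pia, one_mul]
  refine ⟨fun u hu => ((k u).1 (UU_fix hu)).1, fun u hu => ((k u).1 (UU_fix hu)).2,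
    fun b b0 b1 v hv => ?_, fun b b0 b1 => ?_⟩ <;> obtain ⟨u, hu, e⟩ := key b ((k b).2 ⟨b0, b1⟩)
  · have := mul_mem (mul_mem hu ((mem_normalizer_iff.1 (HH_norm_UU e) _).1 hv)) (inv_mem hu)
    show b.1 * v.1 * b.1⁻¹ ∈ Δ.UU a
    simpa [mul_assoc] using this
  · refine ⟨⟨u, KK_le_Aut (UU_le_KK hu)⟩, hu, fun l => ?_⟩
    rw [← inv_smul_eq_iff, ← mul_smul]
    exact (h.fix_c.1 (e.2 _)).1

theorem exSP (hG : GD Δ a) (h : RT Δ a i j Δ.Aut) {p n : ℕ} (hp : IsPGroup p (Δ.UU a)) (hn : mm s i j = n) :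
    ∃ Q : SP Δ.Aut (EE Δ a i j Δ.Aut) p n, vx Δ a i j = Q.x ∧
      ∀ g : Δ.Aut, g.1 ∈ Δ.UU a → g ∈ H12.BP.U Δ.Aut p (Q.x 0) (Q.x 1) := by
  subst hn
  have S := sup_aut hG h
  have hp' : IsPGroup p ((Δ.UU a).subgroupOf Δ.Aut) :=
    hp.of_equiv (subgroupOfEquivOfLe (UU_le_KK.trans KK_le_Aut)).symm
  exact ⟨S.toSP hp', rfl, fun g hg => le_U hp' (fun a ha => ⟨S.f0 a ha, S.f1 a ha⟩) S.nor hg⟩

omit [Finite C] in
theorem Bl_RG (h : RT Δ a i j Δ.Aut) {n r : ℕ} (hn : mm s i j = n) (hr : n = 2 * r)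
    (Q : Pol n Δ.Aut (EE Δ a i j Δ.Aut)) (hx : vx Δ a i j = Q.x) {k : ℤ} {g : Δ.Aut}
    (hg : g ∈ Bl Δ.Aut (EE Δ a i j Δ.Aut) r (Q.x (k - r))) : g.1 ∈ Δ.RG a (rt s P i j k) :=
  to_RG h (fun l a b => by rw [hx]; exact Q.Bl_fx hg l (by omega))
    fun l a b => by rw [hx]; exact Q.Bl_x hg 1 l (by omega)

omit [Finite C] in
theorem Bl_cm (h : RT Δ a i j Δ.Aut) {n r : ℕ} (hn : mm s i j = n) (hr : n = 2 * r)
    (Q : Pol n Δ.Aut (EE Δ a i j Δ.Aut)) (hx : vx Δ a i j = Q.x) {x : MP n (Equiv.Perm C)}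
    (hm : IsMP Δ a i j x) {k l : ℤ} {g : Δ.Aut}
    (hg : g ∈ Bl Δ.Aut (EE Δ a i j Δ.Aut) r (Q.x (k - r))) (h0 : l ≠ k) (h1 : k - r ≤ l) (h2 : l ≤ k + r)
    {u : Equiv.Perm C} (hu : u ∈ x.U l) : g.1 * u = u * g.1 := by
  have h3 := h.three
  have hu' := hm l ▸ hu
  have f : (⟨u, hu'.1⟩ : Δ.Aut) • Q.x (k - r) = Q.x (k - r) := by
    rw [← hx]; exact of_RG h (g := ⟨u, hu'.1⟩) (k := l) hu' (by omega) (by omega)
  refine cm_of x h0 (by omega) (by omega) (hm k ▸ Bl_RG h hn hr Q hx hg) hu ?_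
  rintro _ (rfl | rfl) <;> rw [hm]
  · exact Bl_RG h hn hr Q hx (Q.Bl_cj' f hg)
  · exact Bl_RG h hn hr Q hx (Q.Bl_cj' f (inv_mem hg))

end aut

theorem act_all {n p k : ℕ} {G V : Type} [Group G] [Finite G] [MulAction G V] {E : V → V → Prop}
    (Q : SP G E p n) {e : ℤ} (h : Act G E p k (Q.x e)) (l : ℤ) (hl : (l - e) % 2 = 0) :
    Act G E p k (Q.x l) := by
  obtain ⟨g, hg⟩ := Q.rot ((l - e) / 2)
  rw [← Q.xe (by omega : e + 2 * ((l - e) / 2) = l), ← hg]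
  obtain ⟨z, hz, k⟩ := h _ (Q.ex (j := e + 1) (by omega))
  exact Q.act_of (Q.einv g (Q.ex (j := e + 1) (by omega))) (Z_cj g hz)
    fun c => k (by simpa [mul_assoc] using Q.Bl_cj g⁻¹ c)

theorem jobBrL : JobBrL := by
  intro W ι _ _ s P C _ Δ a ha hG i j hij hall
  refine ⟨fun p hp hU h6 x hm => ?_, fun hU h8 x hm => ?_⟩
  · haveI := Fact.mk hp
    have R := rt_aut ha hG hij hall (by omega)
    obtain ⟨Q, hx, -⟩ := exSP hG R hU h6
    have key : ∀ k l : ℤ, Act Δ.Aut (EE Δ a i j Δ.Aut) p 2 (Q.x (k - 2)) → k - 3 ≤ l → l ≤ k + 3 →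
        x.Cm k l := fun k l hA h1 h2 u hu v hv => by
      have dec : ∀ u ∈ x.U k, ∃ g ∈ Bl Δ.Aut (EE Δ a i j Δ.Aut) 3 (Q.x (k - (3 : ℕ))), g.1 = u :=
        fun u hu => RG_le R hG (k := k) (fun y e hy => by
          rw [hx] at e hy ⊢
          obtain ⟨g, g1, g2⟩ := Q.Ctr (w := Q.x (k - (3 : ℕ))) (b := Q.x (k - 1)) (y := Q.x (k + 1)) hA
            (Q.ex (by omega)) (Q.ex (by omega)) (Q.ex (by omega)) (Q.nx (by omega)) (Q.nx (by omega))
            (Q.ex (by omega)) e (Q.nx (by omega)) hy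
          exact ⟨g, g1, Q.Bl_fx g1 k (by omega), g2⟩)
          (fun g hg => Bl_RG R h6 rfl Q.toPol hx hg) (hm k ▸ hu)
      obtain ⟨g, hg, rfl⟩ := dec u hu
      by_cases d : l = k
      · obtain ⟨g', hg', rfl⟩ := dec v (d ▸ hv)
        exact congrArg Subtype.val (Q.Mcom (Q.CM hA (Q.ex (by omega)) hg) (Q.CM hA (Q.ex (by omega)) hg'))
      · exact Bl_cm R h6 rfl Q.toPol hx hm hg d (by omega) (by omega) hv
    rcases Q.act_or (k := 2) (by omega) (by omega) (Q.ex (i := 0) (j := 1) (by omega)) with hA | hA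
    · exact Or.inl fun k l a b c => key k l (act_all Q hA _ (by omega)) b c
    · exact Or.inr fun k l a b c => key _ _ (act_all Q hA _ (by omega)) (by omega) (by omega)
  · have R := rt_aut ha hG hij hall (by omega)
    obtain ⟨Q, hx, hQ⟩ := exSP hG R hU h8
    have pos : ∀ k, (1 : W) ∈ rt s P i j k → x.U k ≤ Δ.UU a := fun k hk => by
      obtain ⟨A, hA⟩ := rt_half Δ.E i j k
      rw [hm, ← hA]
      exact H38.BNF.RG_le_UU A (hA ▸ hk)
    have two : ∀ k, IsPGroup 2 (x.U k) := fun k => by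
      by_cases d : (1 : W) ∈ rt s P i j k
      · exact hU.to_le (pos k d)
      · rintro ⟨g, hg⟩
        by_cases e : g = 1
        · exact ⟨0, Subtype.ext (by simp [e])⟩
        have := x.mu_conj hg e hg
        rw [show 2 * k + (8 : ℕ) - k = k + (mm s i j : ℕ) by omega] at this
        obtain ⟨r, hr⟩ := hU ⟨_, pos _ (by rw [rt_neg Δ.E]; exact d) this⟩
        exact ⟨r, Subtype.ext (by simpa [conj_pow] using congrArg Subtype.val hr)⟩
    obtain ⟨z, hz, z1⟩ := Q.Zne (Q.ex (i := 0) (j := 1) (by omega))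
    have key : ∀ k : ℤ, 1 ≤ k → k ≤ 8 → z ∈ Bl Δ.Aut (EE Δ a i j Δ.Aut) 4 (Q.x (k - (4 : ℕ))) →
        z.1 ∈ x.U k ∧ z.1 ≠ 1 ∧ ∀ l : ℤ, k - 4 ≤ l → l ≤ k + 4 → ∀ g ∈ x.U l, z.1 * g = g * z.1 :=
      fun k k1 k2 hB => ⟨hm k ▸ Bl_RG R h8 rfl Q.toPol hx hB, fun e => z1 (Subtype.ext e),
        fun l h1 h2 g hg => by
          by_cases d : l = k
          · have m := pos k (rt_pos Δ.E i j k1 (by omega)) (d ▸ hg)
            exact (congrArg Subtype.val (Z.com hz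
              (hQ ⟨g, H38.BNF.KK_le_Aut (H38.BNF.UU_le_KK m)⟩ m))).symm
          · exact Bl_cm R h8 rfl Q.toPol hx hm hB d (by omega) (by omega) hg⟩
    rcases Q.act_or (k := 3) (by omega) (by omega) (Q.ex (i := 0) (j := 1) (by omega)) with hA | hA
    · obtain ⟨k1, k2, k3⟩ := key 5 (by omega) (by omega) (Q.in8 hA (Q.ex (by omega)) (Z.sy hz))
      exact Or.inr ⟨fun k => two _, z.1, k1, k2, fun l a b => k3 _ (by omega) (by omega)⟩
    · obtain ⟨k1, k2, k3⟩ := key 4 (by omega) (by omega) (Q.in8 hA (Q.ex (by omega)) hz)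
      exact Or.inl ⟨two, z.1, k1, k2, fun l a b => k3 _ (by omega) (by omega)⟩

end H7.FS
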