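import Cfsg.Agent.H7.HKT

/-! The linear algebra of job G2b. -/

set_option autoImplicit false

namespace H7.HKG

section Pure

variable {H M : Type*} [Group H] [AddCommGroup M] [DistribMulAction H M] {z v x t g : H}

/-- A four-group without fixed points, permuted cyclically by `x`. -/
structure Cyc (M : Type*) [AddCommGroup M] [DistribMulAction H M] (z v x : H) : Prop where
  two : ∀ w : M, (2 : ℤ) • w = 0 → w = 0
  zz : z * z = 1
  vv : v * v = 1
  zv : z * v = v * z
  xz : x * z = v * x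
  xv : x * v = z * v * x
  nf : ∀ w : M, z • w = w → v • w = w → w = 0

namespace Cyc

variable (h : Cyc M z v x)
include h

theorem z2 (w : M) : z • z • w = w := by rw [← mul_smul, h.zz, one_smul]

theorem v2 (w : M) : v • v • w = w := by rw [← mul_smul, h.vv, one_smul]

theorem c (w : M) : v • z • w = z • v • w := by rw [← mul_smul, ← h.zv, mul_smul]

theorem x1 (w : M) : x • z • w = v • x • w := by rw [← mul_smul, h.xz, mul_smul]

theorem x2 (w : M) : x • v • w = z • v • x • w := by rw [← mul_smul, h.xv, mul_smul, mul_smul]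

theorem sum (w : M) : w + z • w + v • w + z • v • w = 0 := by
  refine h.nf _ ?_ ?_
  · simp only [smul_add, h.z2]; abel
  · simp only [smul_add, h.v2, h.c]; abel

theorem nv {u : M} (e : v • u = u) : z • u = -u := by
  have := h.sum u
  rw [e] at this
  exact eq_neg_of_add_eq_zero_left (h.two _ (by linear_combination (norm := abel1) this))

theorem nzv {u : M} (e : z • v • u = u) : z • u = -u := by
  have := h.sum u
  have e' : v • u = z • u := by rw [← h.z2 (v • u), e]
  rw [e, e'] at this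
  exact eq_neg_of_add_eq_zero_left (h.two _ (by linear_combination (norm := abel1) this))

theorem fx1 {u : M} (e : z • u = u) : v • x • u = x • u := by rw [← h.x1, e]

theorem fx2 {u : M} (e : z • u = u) : z • v • x • x • u = x • x • u := by rw [← h.x2, h.fx1 e]

theorem zx {u : M} (e : z • u = u) : z • x • u = -(x • u) := h.nv (h.fx1 e)

theorem zxx {u : M} (e : z • u = u) : z • x • x • u = -(x • x • u) := h.nzv (h.fx2 e)

/-- An element commuting with `x` and trivial on the fixed points of `z` is trivial. -/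
theorem triv (gx : g * x = x * g) (e : ∀ u : M, z • u = u → g • u = u) (w : M) : g • w = w := by
  have gx' : ∀ u : M, g • x • u = x • g • u := fun u => by rw [← mul_smul, gx, mul_smul]
  have k : ∀ u : M, g • (u + z • u) = u + z • u := fun u => e _ (by rw [smul_add, h.z2, add_comm])
  have k1 := congrArg (x • ·) (k (x⁻¹ • w))
  have k2 := congrArg (fun u => x • x • u) (k (x⁻¹ • x⁻¹ • w))
  simp only [← gx', smul_add, h.x1, h.x2, smul_inv_smul] at k1 k2
  have k0 := k w
  have s := h.sum w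
  have s' := congrArg (g • ·) s
  simp only [smul_add, smul_zero] at s' k0
  refine sub_eq_zero.1 (h.two _ ?_)
  linear_combination (norm := abel1) k0 + k1 + k2 - s' + s

theorem dbl {w : M} (e : x • w = w) :
    (w + z • w) + x • (w + z • w) + x • x • (w + z • w) = (2 : ℤ) • w := by
  simp only [smul_add, h.x1, h.x2, e]
  linear_combination (norm := abel1) h.sum w

theorem inj {u : M} (e : z • u = u) (s : u + x • u + x • x • u = 0) : u = 0 := by
  have := congrArg (z • ·) s
  simp only [smul_add, smul_zero, e, h.zx e, h.zxx e] at this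
  exact h.two _ (by linear_combination (norm := abel1) this + s)

theorem inv (x3 : ∀ w : M, x • x • x • w = w) (tx : ∀ w : M, x • t • x • w = t • w)
    (tz : ∀ u : M, z • u = u → t • u = -u) {w : M} (e : x • w = w) : t • w = -w := by
  have d := h.dbl e
  have zu : z • (w + z • w) = w + z • w := by rw [smul_add, h.z2, add_comm]
  generalize w + z • w = u at d zu
  have a1 : t • x • u = -(x • x • u) := by rw [← x3 (t • x • u), tx, tz u zu, smul_neg, smul_neg]
  have a2 : t • x • x • u = -(x • u) := by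
    rw [← x3 (t • x • x • u), tx, a1, smul_neg, smul_neg, x3]
  have := congrArg (t • ·) d
  simp only [smul_add, a1, a2, tz u zu, smul_comm t (2 : ℤ)] at this
  refine eq_neg_of_add_eq_zero_left (h.two _ ?_)
  linear_combination (norm := abel1) -this - d

/-- The final computation. -/
theorem fin (x3 : ∀ w : M, x • x • x • w = w) (tt : ∀ w : M, t • t • w = w)
    (tx : ∀ w : M, t • x • w = x • t • w) (c1 : ∀ w : M, x • w = w → t • w = w)
    (c2 : ∀ w : M, t • w = w → x • w = w) {e : M} (ze : z • e = e) :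
    ((z * t) ^ 4 = 1 → e = 0) ∧ ((z * t) ^ 6 = 1 → (25 : ℤ) • e = 0) := by
  have k : ∀ w : M, (3 : ℤ) • t • w = (2 : ℤ) • (w + x • w + x • x • w) - (3 : ℤ) • w := fun w => by
    have a := c2 (t • w + w) (by rw [smul_add, tt, add_comm])
    have b := c1 (w + x • w + x • x • w) (by simp only [smul_add, x3]; abel)
    have a' := congrArg (x • ·) a
    simp only [smul_add, tx] at a a' b
    linear_combination (norm := abel1) b - a' - (2 : ℤ) • a
  obtain ⟨f, hf⟩ : ∃ f, f = x • e + x • x • e := ⟨_, rfl⟩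
  have zf : z • f = -f := by rw [hf, smul_add, h.zx ze, h.zxx ze]; abel
  have ke : (3 : ℤ) • t • e = -e + (2 : ℤ) • f := by rw [k, hf]; abel1
  have kf : (3 : ℤ) • t • f = (4 : ℤ) • e + f := by rw [k, hf]; simp only [smul_add, x3]; abel1
  have sm : ∀ (a : H) (n : ℤ) (w : M), a • n • w = n • a • w := fun a n w => smul_comm a n w
  have ge : (3 : ℤ) • (z * t) • e = -e - (2 : ℤ) • f := by
    rw [mul_smul, ← sm, ke, smul_add, smul_neg, sm, ze, zf]; abel1
  have gf : (3 : ℤ) • (z * t) • f = (4 : ℤ) • e - f := by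
    rw [mul_smul, ← sm, kf, smul_add, sm, ze, zf]; abel1
  generalize z * t = g at ge gf
  have st : ∀ (n : ℕ) (m i j : ℤ), m • (g ^ n) • e = i • e + j • f →
      (3 * m) • (g ^ (n + 1)) • e = (-i + 4 * j) • e + (-2 * i - j) • f := fun n m i j q => by
    have := congrArg (g • ·) q
    simp only [smul_add, sm, ← mul_smul g, ← pow_succ'] at this
    generalize g • e = A, g • f = B, g ^ (n + 1) • e = C at this ge gf ⊢
    linear_combination (norm := module) (3 : ℤ) • this + i • ge + j • gf
  have s4 := st 3 _ _ _ (st 2 _ _ _ (st 1 _ _ _ (st 0 1 1 0 (by simp))))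
  have s6 := st 5 _ _ _ (st 4 _ _ _ s4)
  have t2 : ∀ (n : ℕ) (w : M), (2 : ℤ) ^ n • w = 0 → w = 0 := fun n => by
    induction n with
    | zero => simp
    | succ n ih => exact fun w q => h.two w (ih _ (by rw [← mul_smul, ← pow_succ, q]))
  refine ⟨fun q => ?_, fun q => ?_⟩
  · rw [show 3 + 1 = 4 from rfl, q, one_smul] at s4
    have := congrArg (z • ·) s4
    simp only [smul_add, sm, ze, zf] at this
    exact t2 7 _ (by linear_combination (norm := abel1) this + s4)
  · rw [show 5 + 1 = 6 from rfl, q, one_smul] at s6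
    have := congrArg (z • ·) s6
    simp only [smul_add, sm, ze, zf] at this
    exact t2 5 _ (by linear_combination (norm := abel1) this + s6)

end Cyc

end Pure

open MulAction Cfsg Subgroup H89.K H65 H7.HKS H7.HKT

universe u

variable {G Ω : Type u} [Group G] [MulAction G Ω] {U : Ω → Subgroup G} {a b : Ω} {z v x : G}

/-- The conjugation action of the two-point stabiliser on the root group. -/
@[reducible] def act (h : Sp U) (a b : Ω) : DistribMulAction (St G a b) (Additive (U a)) where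
  smul g w := Additive.ofMul ⟨g * (w.toMul : U a) * (g : G)⁻¹, by
    have := h.conj g a _ w.toMul.2
    rwa [(st_iff.1 g.2).1] at this⟩
  one_smul w := Subtype.ext (by change (1 : G) * _ * (1 : G)⁻¹ = _; simp; rfl)
  mul_smul g k w := Subtype.ext (by
    change (g : G) * k * _ * ((g : G) * k)⁻¹ = g * (k * _ * (k : G)⁻¹) * (g : G)⁻¹; group)
  smul_zero g := Subtype.ext (by change (g : G) * 1 * (g : G)⁻¹ = 1; simp)
  smul_add g w w' := Subtype.ext (by
    change (g : G) * (_ * _) * (g : G)⁻¹ = g * _ * (g : G)⁻¹ * (g * _ * (g : G)⁻¹); group)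

theorem lin [Finite G] (h : C4 U) (hab : a ≠ b) (ab : ∀ u ∈ U a, ∀ u' ∈ U a, u * u' = u' * u)
    (F : Fr z v a b) (hx : x ∈ St G a b) (xz : x * z = v * x) (xv : x * v = z * v * x) :
    (∀ g ∈ St G a b, g * x = x * g → (∀ u ∈ CU U {z} a, g * u = u * g) →
      ∀ u ∈ U a, g * u = u * g) ∧
    (x ^ 3 = 1 → Nat.card (CU U {x} a) = Nat.card (CU U {z} a) ∧
      (∀ t ∈ St G a b, x * t * x = t → (∀ u ∈ CU U {z} a, t * u * t⁻¹ = u⁻¹) →
        ∀ w ∈ CU U {x} a, t * w * t⁻¹ = w⁻¹) ∧
      ∀ t ∈ St G a b, t * t = 1 → t * x = x * t → CU U {x} a = CU U {t} a → ∀ e ∈ CU U {z} a,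
        ((z * t) ^ 4 = 1 → e = 1) ∧ ((z * t) ^ 6 = 1 → e ^ 25 = 1)) := by
  letI : CommGroup (U a) :=
    { (inferInstance : Group (U a)) with mul_comm := fun u u' => Subtype.ext (ab _ u.2 _ u'.2) }
  letI := act h.toSp a b
  have sm : ∀ (g : St G a b) (w w' : Additive (U a)), g • w = w' ↔
      (g : G) * (w.toMul : U a) * (g : G)⁻¹ = (w'.toMul : U a) := fun g w w' => Subtype.ext_iff
  have fx : ∀ (g : St G a b) (w : Additive (U a)), g • w = w ↔
      ((w.toMul : U a) : G) ∈ CU U {(g : G)} a := fun g w => by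
    rw [sm, mem_CU, mul_inv_eq_iff_eq_mul, eq_comm]; simp
  have C : Cyc (Additive (U a)) (⟨z, F.1.1⟩ : St G a b) ⟨v, F.2.1.1⟩ ⟨x, hx⟩ := by
    refine ⟨fun w e => ?_, Subtype.ext (iv_sq F.1), Subtype.ext (iv_sq F.2.1),
      Subtype.ext F.2.2.2, Subtype.ext xz, Subtype.ext xv, fun w e e' => ?_⟩
    · have e2 : w.toMul ^ 2 = 1 := by
        rw [two_zsmul] at e; rw [pow_two]; exact e
      have : w.toMul = 1 :=
        (h.odd a).coprime_two_right.pow_left_bijective.1 (e2.trans (one_pow 2).symm)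
      exact this
    · have : ((w.toMul : U a) : G) ∈ CU U {z, v} a := ⟨w.toMul.2, fun g hg => by
        rcases hg with rfl | rfl
        · exact (mem_CU.1 ((fx _ _).1 e)).2.symm
        · exact (mem_CU.1 ((fx _ _).1 e')).2.symm⟩
      rw [h.m0 a b z v hab F] at this
      exact Subtype.ext this
  refine ⟨fun g hg gx e u hu => ?_, fun x3 => ?_⟩
  · have := C.triv (g := ⟨g, hg⟩) (Subtype.ext gx)
      (fun u e' => (fx _ _).2 (mem_CU.2 ⟨u.toMul.2, (e _ ((fx _ _).1 e')).symm⟩))
      (Additive.ofMul ⟨u, hu⟩)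
    exact (mem_CU.1 ((fx _ _).1 this)).2.symm
  have x3' : ∀ w : Additive (U a), (⟨x, hx⟩ : St G a b) • (⟨x, hx⟩ : St G a b) •
      (⟨x, hx⟩ : St G a b) • w = w := fun w => by
    rw [← mul_smul, ← mul_smul, show (⟨x, hx⟩ : St G a b) * ⟨x, hx⟩ * ⟨x, hx⟩ = 1 from
      Subtype.ext ((pow_three' x).symm.trans x3), one_smul]
  refine ⟨?_, fun t ht e1 e2 w hw => ?_, fun t ht tt tx eq e he => ?_⟩
  · have cd : ∀ g : St G a b, Nat.card (CU U {(g : G)} a) =
        Nat.card {w : Additive (U a) // g • w = w} := fun g =>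
      Nat.card_congr ⟨fun w => ⟨Additive.ofMul ⟨w, w.2.1⟩, (fx _ _).2 w.2⟩,
        fun w => ⟨_, (fx _ _).1 w.2⟩, fun _ => rfl, fun _ => rfl⟩
    rw [cd ⟨x, hx⟩, cd ⟨z, F.1.1⟩]
    generalize (⟨z, F.1.1⟩ : St G a b) = z', (⟨v, F.2.1.1⟩ : St G a b) = v',
      (⟨x, hx⟩ : St G a b) = x' at C x3'
    refine le_antisymm (Nat.card_le_card_of_injective
      (fun w => ⟨w.1 + z' • w.1, by rw [smul_add, C.z2, add_comm]⟩) fun w w' e => ?_)
      (Nat.card_le_card_of_injective (fun w => ⟨w.1 + x' • w.1 + x' • x' • w.1, by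
        simp only [smul_add, x3']; abel⟩) fun w w' e => ?_)
    · have e' : w.1 + z' • w.1 = w'.1 + z' • w'.1 := congrArg Subtype.val e
      have := C.dbl w.2
      rw [e', C.dbl w'.2] at this
      exact Subtype.ext (sub_eq_zero.1 (C.two _ (by rw [smul_sub, this, sub_self])))
    · have e' : w.1 + x' • w.1 + x' • x' • w.1 = w'.1 + x' • w'.1 + x' • x' • w'.1 :=
        congrArg Subtype.val e
      refine Subtype.ext (sub_eq_zero.1 (C.inj (by rw [smul_sub, w.2, w'.2]) ?_))
      simp only [smul_sub]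
      linear_combination (norm := abel1) e'
  · exact (sm _ _ _).1 (C.inv (t := ⟨t, ht⟩) x3' (fun w => by
      rw [← mul_smul, ← mul_smul, show (⟨x, hx⟩ : St G a b) * ⟨t, ht⟩ * ⟨x, hx⟩ = ⟨t, ht⟩ from
        Subtype.ext e1]) (fun u e => (sm _ _ _).2 (e2 _ ((fx _ _).1 e)))
      (w := Additive.ofMul ⟨w, hw.1⟩) ((fx _ _).2 hw))
  · have := C.fin (t := ⟨t, ht⟩) x3' (fun w => by
      rw [← mul_smul, show (⟨t, ht⟩ : St G a b) * ⟨t, ht⟩ = 1 from Subtype.ext tt, one_smul])
      (fun w => by
        rw [← mul_smul, ← mul_smul, show (⟨t, ht⟩ : St G a b) * ⟨x, hx⟩ = ⟨x, hx⟩ * ⟨t, ht⟩ from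
          Subtype.ext tx])
      (fun w e => (fx _ _).2 (eq ▸ (fx _ _).1 e)) (fun w e => (fx _ _).2 (eq ▸ (fx _ _).1 e))
      (e := Additive.ofMul ⟨e, he.1⟩) ((fx _ _).2 he)
    refine ⟨fun q => congrArg Subtype.val (this.1 (Subtype.ext q)), fun q => ?_⟩
    have k := congrArg (fun w : Additive (U a) => ((w.toMul : U a) : G)) (this.2 (Subtype.ext q))
    simpa using k

end H7.HKG
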