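import Cfsg.Agent.H7.HKSSpec3

/-! Assembly of the HKS tower: the regular case from the jobs. -/

set_option autoImplicit false

namespace H7.HKS

open MulAction Cfsg Subgroup H89.K H65

universe u

/-- The jobs of chapters I and II. -/
structure JobsA : Prop where
  k1 : Kit1.{u}
  k2 : Kit2.{u}
  loc : JobLoc.{u}
  sub : JobSub.{u}
  aff : JobAff.{u}
  zl : JobZL.{u}
  i0 : JobI0.{u}
  ia : JobIa.{u}
  ib : JobIb.{u}
  ii0 : JobII0.{u}
  iia : JobIIa.{u}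
  iic : JobIIc.{u}
  iir : JobIIr.{u}
  iis : JobIIs.{u}
  iid : JobIId.{u}
  iig : JobIIg.{u}

/-- The jobs of chapter III. -/
structure JobsB : Prop where
  t1 : JobT1.{u}
  m0a : JobM0a.{u}
  m0b : JobM0b.{u}
  a1 : JobA1.{u}
  a2 : JobA2.{u}
  slr : JobSLr.{u}
  sli : JobSLi.{u}
  psa : JobPSa.{u}
  psb : JobPSb.{u}
  psc : JobPSc.{u}
  f0 : JobF0.{u}
  p1 : JobP1.{u}
  p3 : JobP3.{u}
  m3a : JobM3a.{u}
  m3b : JobM3b.{u}
  m3c : JobM3c.{u}
  p1a : JobP1a.{u}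
  p1b : JobP1b.{u}
  p1c : JobP1c.{u}
  p1d : JobP1d.{u}
  num : JobNum.{u}
  g2a : JobG2a.{u}
  g2b : JobG2b.{u}

variable {G Ω : Type u} [Group G] [Finite G] [MulAction G Ω] {U : Ω → Subgroup G}

theorem out_of_z3 (A : JobsA.{u}) (h : Core U) (z : Z3 G Ω) {a b : Ω} (hab : a ≠ b) : Out U a b :=
  let ⟨h1, h2⟩ := A.zl G Ω U a b h z hab
  ⟨Or.inr (Or.inl h1), fun _ => h2⟩

theorem chapI (A : JobsA.{u}) (h : Core U) {a b : Ω} (hab : a ≠ b)
    (ho : Odd (Nat.card (St G a b))) : Z3 G Ω := by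
  obtain ⟨s, c⟩ := A.i0 G Ω U a b h hab ho
  by_cases hp : ∃ p : ℕ, p.Prime ∧ IsPGroup p (U a)
  · obtain ⟨p, h1, h2⟩ := hp
    exact A.ia G Ω U a b s p c h1 h2
  · exact A.ib G Ω U a b s c fun p h1 h2 => hp ⟨p, h1, h2⟩

theorem chapII (A : JobsA.{u}) (h : Core U) {a b : Ω} (hab : a ≠ b) {t : G} (ht : Iv t a b)
    (hc : CU U {t} a = ⊥) : Z3 G Ω := by
  have c := A.ii0 G Ω U a b t h hab ht.1 ht.2 hc
  by_cases hu : ∀ k ∈ St G a b, orderOf k = 2 → k = t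
  · exact A.iia G Ω U a b t c hu
  exfalso
  push Not at hu
  have ck := fun k h1 h2 h3 => A.iic G Ω U a b t k c h1 h2 h3
  have r := A.iir G Ω U a b t c ck
  obtain ⟨S, k, s, S2, So, St', kS, kH, k2, kt, sS, sJ, nk, iv, top⟩ :=
    A.iis G Ω U a b t c ck r hu
  obtain ⟨g, y, m, D, hJ⟩ := A.iid G Ω U a b t k s S c (ck k kH k2 kt) (r k kH k2 kt) S2 So St' kS
    kH k2 kt sS sJ nk iv top
  obtain ⟨T, TS, nT, cy, kT, inv⟩ := A.iig G S _ g k s y m D
  obtain ⟨x, hx, -⟩ := A.k1.tho S T k (A.k1.par h.pre).1 S2 So TS nT cy D.k2 kS kT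
  have o : orderOf (x * k * x⁻¹) = 2 := by
    rw [← k2]; exact (MulAut.conj x).orderOf_eq k
  have e : x * k * x⁻¹ * (x * k * x⁻¹) = 1 := by rw [← pow_two, ← o, pow_orderOf_eq_one]
  have j : IsConj t k := (hJ _ (inv _ hx e) o).trans (isConj_iff.2 ⟨x, rfl⟩).symm
  obtain ⟨p, q, pq, f⟩ := c.fixJ k j
  have n := (A.k1.fx h.toRg hab (X := {k}) (by simpa using kH)).2.1
  rw [f, Set.ncard_pair pq] at n
  exact kt (c.uniq k kH D.k2 (card_eq_one.1 (by omega)))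

theorem rank_one (A : JobsA.{u}) (B : JobsB.{u}) (h : C3 U) (al : AL U) (r : R1 G Ω) {a b : Ω}
    (hab : a ≠ b) {t : G} (ht : Iv t a b) : Out U a b := by
  have ad : ∀ E, AD U {t} a E → Out U a b := fun E e =>
    let ⟨h1, h2, h3, h4, h5, h6⟩ := B.a1 G Ω U a b t E h r hab ht e
    B.a2 G Ω U a b t E h r hab ht e h1 h2 h3 h4 h5 h6
  rcases al a b t hab ht with ⟨-, E, e⟩ | tl
  · exact ad E e
  by_cases sl : SLt U t
  · exact B.sli G Ω U a b t h r hab ht tl sl (B.slr G Ω U a b t h r hab ht tl sl)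
  by_cases h3 : 3 < Nat.card (CU U {t} a)
  · obtain ⟨h1, h2, h4, h5⟩ := B.psa G Ω U a b t h r hab ht tl h3 sl
    obtain ⟨h6, h7, h8⟩ := B.psb G Ω U a b t h r hab ht tl h3 sl h1 h2 h4 h5
    exact B.psc G Ω U a b t h hab ht tl h3 sl h1 h2 h5 h6 h7 h8
  obtain ⟨F, _, _, x, y, ld⟩ := tl
  have hX : ({t} : Set G) ⊆ St G a b := by simpa using ht.1
  obtain ⟨o, c, -, hst, -⟩ := A.k2.bas h.toRg.sr hab inf_le_left inf_le_left ld
  have c1 : Nat.card (CU U {t} a) ≠ 1 := fun e => h.fx3 hab ht (card_eq_one.1 e)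
  have c3 : Fintype.card F = 3 := by
    obtain ⟨k, hk⟩ := o
    change ¬ 3 < Nat.card ↥(U a ⊓ centralizer {t}) at h3
    change Nat.card ↥(U a ⊓ centralizer {t}) ≠ 1 at c1
    rw [c] at h3 c1
    omega
  have m : sl2h x y (-1) ∈ LX U {t} := by
    rw [A.k2.lx h.toRg hab hX ld]
    have hx : ∀ c, x c ∈ CU U {t} a ⊔ CU U {t} b := fun c => mem_sup_left ((ld.rx _).2 ⟨c, rfl⟩)
    have hy : ∀ c, y c ∈ CU U {t} a ⊔ CU U {t} b := fun c => mem_sup_right ((ld.ry _).2 ⟨c, rfl⟩)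
    exact mul_mem (mul_mem (mul_mem (hx _) (hy _)) (hx _)) (mul_mem (mul_mem (hx _) (hy _)) (hx _))
  have z1 : sl2h x y (-1) = 1 := by
    by_contra z1
    have n1 : (-1 : F) ≠ 0 := neg_ne_zero.2 one_ne_zero
    have sq : sl2h x y (-1) * sl2h x y (-1) = 1 := by
      rw [ld.rel.h_mul' n1 n1, neg_mul_neg, one_mul, ld.rel.h_one]
    have cm := (A.k1.fx h.toRg hab hX).2.2.2.1 m t rfl
    refine r a b t (sl2h x y (-1)) hab ⟨ht, ⟨hst _ n1, orderOf_eq_prime (by rw [pow_two, sq]) z1⟩,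
      fun e => sl (by rw [SLt]; exact e.symm ▸ (e ▸ m)), cm⟩
  obtain ⟨E, e⟩ := A.k2.a4 h.toRg hab hX ld c3 z1
  exact ad E e

theorem four (B : JobsB.{u}) (h : C4 U) {a b : Ω} (hab : a ≠ b) {t : G} (ht : Iv t a b) : False := by
  have m : Nat.card (U a) % 4 = 1 ∨ Nat.card (U a) % 4 = 3 := by
    obtain ⟨k, hk⟩ := h.odd a
    omega
  by_cases hs : ∀ t, Iv t a b → ¬ SLt U t
  · exact m.elim (fun m => B.p1 G Ω U a b t h hab ht m hs) fun m => B.p3 G Ω U a b t h hab ht m hs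
  push Not at hs
  obtain ⟨z, hz, sl⟩ := hs
  have g2 : HasQ Ω z → H89.K.One G ∧ NF U z a b → False := fun q o =>
    B.g2b G Ω U a b z h hab hz sl o.1 (B.g2a G Ω U a b z h hab hz sl o.1 q o.2)
  by_cases q : HasQ Ω z
  · rcases m with m | m
    · by_cases hv : ∃ v, Fr z v a b ∧ SLt U v
      · obtain ⟨v, f, sv⟩ := hv
        exact g2 q (B.p1d G Ω U a b z v h hab f sl m q sv)
      · exact B.p1c G Ω U a b z h hab hz sl m q fun v f sv => hv ⟨v, f, sv⟩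
    · exact g2 q (B.m3c G Ω U a b z h hab hz sl m q)
  rcases m with m | m
  · obtain ⟨v, f⟩ := h.ex hab hz
    by_cases sv : SLt U v
    · exact B.num G Ω U a b z v h hab f sl sv (B.p1b G Ω U a b z v h hab f sl m q sv)
    · exact B.p1a G Ω U a b z v h hab f sl m q sv
  · by_cases hk : ∃ k ∈ Kh Ω {z}, k * k = z
    · exact B.m3b G Ω U a b z h hab hz sl m hk q
    · obtain ⟨r, v, f, sv⟩ := B.m3a G Ω U a b z h hab hz sl m fun k h1 h2 => hk ⟨k, h1, h2⟩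
      exact B.num G Ω U a b z v h hab f sl sv r

theorem core_out (A : JobsA.{u}) (B : JobsB.{u}) (h : Core U) {a b : Ω} (hab : a ≠ b) :
    Out U a b := by
  by_cases ho : Odd (Nat.card (St G a b))
  · exact out_of_z3 A h (chapI A h hab ho) hab
  by_cases h2 : ∃ (c d : Ω) (t : G), c ≠ d ∧ Iv t c d ∧ CU U {t} c = ⊥
  · obtain ⟨c, d, t, cd, ht, hc⟩ := h2
    exact out_of_z3 A h (chapII A h cd ht hc) hab
  have c3 : C3 U := ⟨h, fun cd ht hc => h2 ⟨_, _, _, cd, ht, hc⟩⟩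
  obtain ⟨t, o⟩ := exists_prime_orderOf_dvd_card' (G := St G a b) 2
    (even_iff_two_dvd.1 (Nat.not_odd_iff_even.1 ho))
  have ht : Iv (t : G) a b := ⟨t.2, (orderOf_coe t).trans o⟩
  have al := B.t1 G Ω U c3
  by_cases r : R1 G Ω
  · exact rank_one A B c3 al r hab ht
  have e8 := B.m0a G Ω U c3 al
  exact (four B (B.f0 G Ω U c3 al e8 (B.m0b G Ω U c3 al e8) r) hab ht).elim

theorem card_lt_of_ne_top {L : Subgroup G} (h : L ≠ ⊤) : Nat.card L < Nat.card G := by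
  refine lt_of_le_of_ne (card_le_card_group L) fun e => h ?_
  exact eq_top_of_card_eq L e

theorem typ_of (A : JobsA.{u}) (B : JobsB.{u}) (n : ℕ) : ∀ (G Ω : Type u) [Group G] [Finite G]
    [MulAction G Ω] (U : Ω → Subgroup G), Nat.card G = n → Rg U → ∀ a b, a ≠ b → Typ U ∅ a b := by
  induction n using Nat.strong_induction_on with | _ n ih => ?_
  intro G Ω _ _ _ U e h a b hab
  have loc : Loc U := A.loc G Ω U h fun Y Ξ _ _ _ V l r => ih _ (e ▸ l) Y Ξ V rfl r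
  by_cases hL : ⨆ a, U a = ⊤
  · by_cases af : Aff G Ω
    · exact (A.aff G Ω U a b h af hab).elim Or.inl fun t => Or.inr (Or.inl t)
    · exact (core_out A B ⟨h, hL, af, loc⟩ hab).1
  · obtain ⟨r, -, t⟩ := A.sub G Ω U _ h rfl
    exact t a b hab (ih _ (e ▸ card_lt_of_ne_top hL) _ Ω _ rfl r a b hab)

theorem main_of (A : JobsA.{u}) (B : JobsB.{u}) : Main.{u} := fun G Ω _ _ _ U h =>
  ⟨A.loc G Ω U h fun Y Ξ _ _ _ V _ r => typ_of A B _ Y Ξ V rfl r, typ_of A B _ G Ω U rfl h⟩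

theorem known_of (A : JobsA.{u}) (B : JobsB.{u}) [IsSimpleGroup G] (h : Rg U) : Known G := by
  obtain ⟨a, b, -, hab, -⟩ := h.t2.big
  have n : (⨆ a, U a).Normal := ⟨fun x hx g => by
    induction hx using Subgroup.iSup_induction' with
    | hp c u hu => exact mem_iSup_of_mem _ (h.conj g c u hu)
    | h1 => simp
    | hmul x y _ _ h1 h2 => simpa [mul_assoc] using mul_mem h1 h2⟩
  have t : ⨆ a, U a = ⊤ := by
    refine n.eq_bot_or_eq_top.resolve_left fun e => ?_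
    obtain ⟨c, ca, cb⟩ := h.t2.exists_third a b
    obtain ⟨u, hu, e'⟩ := h.tr hab.symm ca
    have : u = 1 := mem_bot.1 (e ▸ mem_iSup_of_mem a hu)
    exact cb (by rw [← e', this, one_smul])
  exact (core_out A B ⟨h, t, not_aff_of_simple h.t2, (main_of A B G Ω U h).1⟩ hab).2 inferInstance

end H7.HKS
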