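import Cfsg.Agent.H7.HKSMain
import Cfsg.Agent.H72.HKS1
import Cfsg.Agent.H3.HkKit2
import Cfsg.Agent.H83.HKOC
import Cfsg.Agent.H9.HKSEv
import Cfsg.Agent.H90.HKSAff
import Cfsg.Agent.H84.HKSb
import Cfsg.Agent.H8.HKNRb
import Cfsg.Agent.H8.HKNRE
import Cfsg.Agent.H66.HksBnd
import Cfsg.Agent.H44.HkK
import Cfsg.Agent.H44.HkR
import Cfsg.Agent.H44.HkU
import Cfsg.Agent.H21.NRL
import Cfsg.Agent.H1.NRA
import Cfsg.Agent.H61.HkNRR
import Cfsg.Agent.S0322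

/-! Assembly of chapter NR of the HKS tower and the passage from (B,N)-pairs of rank one. -/

set_option autoImplicit false

namespace H7.HKS

open MulAction Cfsg Subgroup H89.K H65

universe u

theorem nr_false (mn : Main.{u}) {G Ω : Type u} [Group G] [Finite G] [MulAction G Ω]
    {U : Ω → Subgroup G} {p : ℕ} (h : NR U p) : False := by
  have k1 : Kit1.{u} := H72.HKS.kit1
  have k2 : Kit2.{u} := H3.HK2.kit2
  have r0 := H44.HK.jobReg0 k1 k2 mn
  have nu := H44.HK.jobNRU k1 k2 (H44.HK.jobNRM H90.HKS.jobON) r0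
  have na := H1.NRA.jobNRA k1 k2 mn H8.HK.jobNRE
  obtain ⟨a, b, -, hab, -⟩ := h.t2.big
  obtain ⟨Y, _, _, _, π, res, rg⟩ := h.quo hab
  let a' : Ln U a b := ⟨a, fun g hg => h.fix a g hg.1⟩
  let b' : Ln U a b := ⟨b, fun g hg => hg.2⟩
  have ne : a' ≠ b' := fun e => hab (congrArg Subtype.val e)
  rcases (mn Y _ _ rg).2 a' b' ne with ⟨-, E, e⟩ | tl | tu | tr
  · exact na G Ω U p a b Y π a' E h hab rfl res rg e
  · have m : Nat.card (Quo U (Ln U a b) π a') % 4 = 1 ∨ Nat.card (Quo U (Ln U a b) π a') % 4 = 3 := by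
      obtain ⟨k, hk⟩ := rg.odd a'
      omega
    rcases m with m | m
    · exact nu G Ω U p a b Y π a' b' h hab rfl rfl res rg (Or.inr ⟨tl, m⟩)
    by_cases h3 : 3 < Nat.card (Quo U (Ln U a b) π a')
    · exact H21.NRL.jobNRL k1 k2 mn H8.HK.jobNRE H83.HK.jobOC r0 G Ω U p a b Y π a' b' h hab rfl
        rfl res rg tl m h3
    obtain ⟨F, _, _, x, y, ld⟩ := tl
    have hX : (∅ : Set Y) ⊆ St Y a' b' := Set.empty_subset _
    obtain ⟨-, c, -, hst, -, -, -, cen, -⟩ := k2.bas rg.sr ne inf_le_left inf_le_left ld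
    have e : CU (Quo U (Ln U a b) π) ∅ a' = Quo U (Ln U a b) π a' :=
      inf_eq_left.2 fun _ _ _ hx => hx.elim
    have c3 : Fintype.card F = 3 := by
      change Nat.card (CU (Quo U (Ln U a b) π) ∅ a') = _ at c
      rw [e] at c
      omega
    have n1 : (-1 : F) ≠ 0 := neg_ne_zero.2 one_ne_zero
    have z1 : sl2h x y (-1) = 1 := res.faith _ fun d =>
      (k1.fx rg ne hX).2.2.2.2.2.2.1 _ (hst _ n1) (fun u hu => (cen u (mem_sup_left hu)).symm) d
        fun _ hg => hg.elim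
    obtain ⟨E, e⟩ := k2.a4 rg ne hX ld c3 z1
    exact na G Ω U p a b Y π a' E h hab rfl res rg e
  · exact nu G Ω U p a b Y π a' b' h hab rfl rfl res rg (Or.inl tu)
  · exact H61.Hk.jobNRR k2 mn (H66.HKS.jobBnd k1 k2) G Ω U p a b Y π a' b' h hab rfl rfl res rg tr

theorem sp_sub {G Ω : Type u} [Group G] [Finite G] [MulAction G Ω] {U : Ω → Subgroup G}
    (h : Sp U) : Sp fun a => (U a).subgroupOf (⨆ a, U a) := by
  have n : (⨆ a, U a).Normal := ⟨fun x hx g => by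
    induction hx using Subgroup.iSup_induction' with
    | hp c u hu => exact mem_iSup_of_mem _ (h.conj g c u hu)
    | h1 => simp
    | hmul x y _ _ h1 h2 => simpa [mul_assoc] using mul_mem h1 h2⟩
  obtain ⟨a, -⟩ := h.t2.big
  refine ⟨h.t2.t2_normal _ (a := a) fun y z hy hz => ?_, fun a u hu => h.fix a u hu,
    fun g a u hu => h.conj g a u hu, fun a => ?_, fun {a b c} hb hc => ?_⟩
  · obtain ⟨u, hu, e⟩ := h.tr hy hz
    exact ⟨u, mem_iSup_of_mem a hu, h.fix a u hu, e⟩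
  · have := h.nil a
    exact nilpotent_of_mulEquiv (subgroupOfEquivOfLe (le_iSup U a)).symm
  · obtain ⟨u, hu, e⟩ := h.tr hb hc
    exact ⟨⟨u, mem_iSup_of_mem a hu⟩, hu, e⟩

theorem reg_of_odd (mn : Main.{u}) (n : ℕ) : ∀ (G Ω : Type u) [Group G] [Finite G] [MulAction G Ω]
    (U : Ω → Subgroup G), Nat.card G = n → Sp U → (∀ a, Odd (Nat.card (U a))) → Reg U := by
  induction n using Nat.strong_induction_on with | _ n ih => ?_
  intro G Ω _ _ _ U e h o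
  by_cases hL : ⨆ a, U a = ⊤
  · by_cases af : Aff G Ω
    · obtain ⟨a, b, -, hab, -⟩ := h.t2.big
      exact (H90.HKS.jobAffNR G Ω U a b h af hab).resolve_right fun c =>
        Nat.not_even_iff_odd.2 (o a) c.1
    · by_contra nr
      obtain ⟨p, c⟩ := H84.HKS.jobNRa G Ω U ⟨h, o, hL, af⟩ nr
        fun Y Ξ _ _ _ V l s o => ih _ (e ▸ l) Y Ξ V rfl s o
      exact nr_false mn (H8.HK.jobNRb H72.HKS.kit1 G Ω U p c)
  · have r := ih _ (e ▸ card_lt_of_ne_top hL) _ Ω _ rfl (sp_sub h) fun a => by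
      rw [Nat.card_congr (subgroupOfEquivOfLe (le_iSup U a)).toEquiv]; exact o a
    intro a b hb u hu e
    exact congrArg Subtype.val (r hb ⟨u, mem_iSup_of_mem a hu⟩ hu e)

section Bridge

variable {G : Type u} [Group G] [Finite G]

/-- The conjugates of `U`, indexed by the cosets of `B`. -/
def fam (B U : Subgroup G) (c : G ⧸ B) : Subgroup G where
  carrier := {u | ∀ g : G, (g : G ⧸ B) = c → g⁻¹ * u * g ∈ U}
  one_mem' := fun g _ => by simpa using U.one_mem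
  mul_mem' := fun h1 h2 g e => by simpa [mul_assoc] using U.mul_mem (h1 g e) (h2 g e)
  inv_mem' := fun h1 g e => by simpa [mul_assoc] using U.inv_mem (h1 g e)

omit [Finite G] in
theorem mem_fam {B U : Subgroup G} (hn : ∀ b ∈ B, ∀ u ∈ U, b * u * b⁻¹ ∈ U) {g u : G} :
    u ∈ fam B U (g : G ⧸ B) ↔ g⁻¹ * u * g ∈ U := by
  refine ⟨fun h => h g rfl, fun h k e => ?_⟩
  have := hn _ (QuotientGroup.eq.1 e) _ h
  simpa [mul_assoc] using this

theorem bridge (P : BNPair G) (h1 : P.rank = 1) (hcore : P.B.normalCore = ⊥) (U : Subgroup G)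
    (hUB : U ≤ P.B) (hn : ∀ b ∈ P.B, ∀ u ∈ U, b * u * b⁻¹ ∈ U) (nil : Group.IsNilpotent U)
    (hs : U ⊔ (P.B ⊓ P.N) = P.B) : Sp (fam P.B U) ∧ fam P.B U ((1 : G) : G ⧸ P.B) = U ∧
      ∃ b : G ⧸ P.B, ((1 : G) : G ⧸ P.B) ≠ b ∧ P.B ⊓ P.N ≤ stabilizer G b := by
  have two := Agent.S0322.result P h1
  obtain ⟨⟨s, hs'⟩, -⟩ := Nat.card_eq_one_iff_exists.1 h1
  have nn : ¬ ∀ b ∈ P.B, s * b * s⁻¹ ∈ P.B := fun k => by
    apply P.conj_ne s hs'
    have q := P.sq_mem s hs'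
    ext x
    constructor
    · rintro ⟨b, hb, rfl⟩
      simpa [mul_assoc] using P.B.mul_mem (k b hb) q
    · intro hx
      refine ⟨s⁻¹ * x * s⁻¹, ?_, by simp [mul_assoc]⟩
      have := P.B.mul_mem (P.B.mul_mem (P.B.inv_mem q) (k x hx)) (P.B.one_mem)
      simpa [mul_assoc] using this
  have s1 : ((1 : G) : G ⧸ P.B) ≠ s := fun e => by
    have : s ∈ P.B := by simpa using QuotientGroup.eq.1 e
    exact nn fun b hb => P.B.mul_mem (P.B.mul_mem this hb) (P.B.inv_mem this)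
  have hH : P.B ⊓ P.N ≤ stabilizer G (s : G ⧸ P.B) := fun t ht => by
    change ((t * s : G) : G ⧸ P.B) = s
    rw [QuotientGroup.eq]
    have := P.conj_mem _ (P.N.inv_mem (P.subset hs')) _ ((P.B ⊓ P.N).inv_mem ht)
    simpa [mul_assoc] using this
  have st : ∀ g : G, g • ((1 : G) : G ⧸ P.B) = ((1 : G) : G ⧸ P.B) ↔ g ∈ P.B := fun g =>
    mem_stabilizer_iff.symm.trans (by rw [stabilizer_quotient])
  have f1 : fam P.B U ((1 : G) : G ⧸ P.B) = U := by
    ext u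
    rw [mem_fam hn]; simp
  have t2 : T2 G (G ⧸ P.B) := by
    refine ⟨fun g hg => ?_, fun h1 h2 => is_two_pretransitive_iff.1 two h1 h2, ?_⟩
    · rw [← mem_bot, ← hcore, normalCore_eq_ker]
      exact Equiv.ext hg
    · push Not at nn
      obtain ⟨b, hb, k⟩ := nn
      refine ⟨((1 : G) : G ⧸ P.B), (s⁻¹ : G), ((b * s⁻¹ : G) : G ⧸ P.B), fun e => ?_, fun e => ?_,
        fun e => ?_⟩
      · have : s⁻¹ ∈ P.B := by simpa using QuotientGroup.eq.1 e
        exact k (P.B.mul_mem (P.B.mul_mem (by simpa using P.B.inv_mem this) hb) this)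
      · exact k (by simpa [mul_assoc] using QuotientGroup.eq.1 e)
      · have h : b * s⁻¹ ∈ P.B := by simpa using QuotientGroup.eq.1 e
        have : s⁻¹ ∈ P.B := by simpa using P.B.mul_mem (P.B.inv_mem hb) h
        exact k (P.B.mul_mem (P.B.mul_mem (by simpa using P.B.inv_mem this) hb) this)
  have tr0 : ∀ c, c ≠ ((1 : G) : G ⧸ P.B) → ∃ u ∈ U, u • (s : G ⧸ P.B) = c := fun c hc => by
    obtain ⟨g, g1, g2⟩ := t2.two s1 hc.symm
    have gB := (st g).1 g1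
    have n : (U.subgroupOf P.B).Normal := ⟨fun u hu b => hn b b.2 u hu⟩
    have : (⟨g, gB⟩ : P.B) ∈ U.subgroupOf P.B ⊔ (P.B ⊓ P.N).subgroupOf P.B := by
      rw [← subgroupOf_sup hUB inf_le_left, hs, subgroupOf_self]; trivial
    obtain ⟨u, hu, t, ht, e⟩ := mem_sup_of_normal_left.1 this
    refine ⟨u, hu, ?_⟩
    rw [← g2, show g = u * t from congrArg Subtype.val e.symm, mul_smul,
      show (t : G) • (s : G ⧸ P.B) = s from hH ht]
  refine ⟨⟨t2, fun c u hu => ?_, fun g c u hu => ?_, fun c => ?_, fun {a b c} hb hc => ?_⟩, f1,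
    s, s1, hH⟩
  · induction c using QuotientGroup.induction_on with | H g => ?_
    change ((u * g : G) : G ⧸ P.B) = g
    rw [QuotientGroup.eq]
    simpa [mul_assoc] using P.B.inv_mem (hUB (hu g rfl))
  · induction c using QuotientGroup.induction_on with | H k => ?_
    change _ ∈ fam P.B U ((g * k : G) : G ⧸ P.B)
    rw [mem_fam hn]
    simpa [mul_assoc] using hu k rfl
  · induction c using QuotientGroup.induction_on with | H g => ?_
    have : fam P.B U (g : G ⧸ P.B) = U.map (MulAut.conj g).toMonoidHom := by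
      ext u
      rw [mem_fam hn, mem_map_equiv]; simp
    rw [this]
    exact nilpotent_of_mulEquiv ((MulAut.conj g).subgroupMap U)
  · induction a using QuotientGroup.induction_on with | H g => ?_
    have k : ∀ b : G ⧸ P.B, b ≠ g → g⁻¹ • b ≠ ((1 : G) : G ⧸ P.B) := fun b hb e => hb (by
      rw [inv_smul_eq_iff] at e
      rw [e]; change ((g * 1 : G) : G ⧸ P.B) = g; rw [mul_one])
    obtain ⟨u, hu, e⟩ := tr0 _ (k b hb)
    obtain ⟨v, hv, e'⟩ := tr0 _ (k c hc)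
    refine ⟨g * (v * u⁻¹) * g⁻¹, (mem_fam hn).2 ?_, ?_⟩
    · simpa [mul_assoc] using U.mul_mem hv (U.inv_mem hu)
    · rw [mul_smul, ← e, mul_smul, mul_smul, inv_smul_smul, e', smul_inv_smul]

/-- Text of S1145. -/
theorem s1145_of (mn : Main.{u}) (P : BNPair G) (h1 : P.rank = 1) (hcore : P.B.normalCore = ⊥)
    (U : Subgroup G) (hUB : U ≤ P.B) (hn : ∀ b ∈ P.B, ∀ u ∈ U, b * u * b⁻¹ ∈ U)
    (nil : Group.IsNilpotent U) (hs : U ⊔ (P.B ⊓ P.N) = P.B) :
    ∃ U₀ : Subgroup G, U₀ ≤ U ∧ (∀ b ∈ P.B, ∀ u ∈ U₀, b * u * b⁻¹ ∈ U₀) ∧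
      U₀ ⊔ (P.B ⊓ P.N) = P.B ∧ U₀ ⊓ (P.B ⊓ P.N) = ⊥ := by
  obtain ⟨sp, f1, b, hb, hH⟩ := bridge P h1 hcore U hUB hn nil hs
  have reg : Reg (fam P.B U) → ∃ U₀ : Subgroup G, U₀ ≤ U ∧ (∀ b ∈ P.B, ∀ u ∈ U₀, b * u * b⁻¹ ∈ U₀) ∧
      U₀ ⊔ (P.B ⊓ P.N) = P.B ∧ U₀ ⊓ (P.B ⊓ P.N) = ⊥ := fun r =>
    ⟨U, le_rfl, hn, hs, eq_bot_iff.2 fun u hu => r hb.symm u (f1.symm ▸ hu.1) (hH hu.2)⟩
  by_cases af : Aff G (G ⧸ P.B)
  · rcases H90.HKS.jobAffNR G _ _ _ b sp af hb with r | ⟨-, U₀, y, le, nr, y0, sup, fx⟩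
    · exact reg r
    rw [f1] at le sup fx
    rw [stabilizer_quotient] at nr
    by_cases yH : y ∈ P.B ⊓ P.N
    · refine ⟨U₀, le, fun b hb u hu => (mem_normalizer_iff.1 (nr hb) u).1 hu, ?_,
        eq_bot_iff.2 fun u hu => ?_⟩
      · calc U₀ ⊔ (P.B ⊓ P.N) = U₀ ⊔ (zpowers y ⊔ (P.B ⊓ P.N)) := by
              rw [sup_eq_right.2 (zpowers_le.2 yH)]
          _ = U ⊔ (P.B ⊓ P.N) := by rw [← sup_assoc, sup]
          _ = P.B := hs
      · exact (fx u (le hu.1) (hH hu.2)).resolve_right fun e => y0 (e ▸ hu.1)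
    · exact ⟨U, le_rfl, hn, hs, eq_bot_iff.2 fun u hu =>
        (fx u hu.1 (hH hu.2)).resolve_right fun e => yH (e ▸ hu.2)⟩
  by_cases o : ∀ c, Odd (Nat.card (fam P.B U c))
  · exact reg (reg_of_odd mn _ G _ _ rfl sp o)
  · push Not at o
    obtain ⟨c, o⟩ := o
    exact reg (H9.HKSEv.jobEv G _ _ c sp af (Nat.not_odd_iff_even.1 o)).1

/-- Text of S1146. -/
theorem s1146_of (A : JobsA.{u}) (B : JobsB.{u}) [IsSimpleGroup G] (P : BNPair G)
    (h1 : P.rank = 1) (hs : P.IsSplit) : Known G := by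
  obtain ⟨U, hUB, hn, nil, hs⟩ := hs
  have hcore : P.B.normalCore = ⊥ := by
    refine (normalCore_normal P.B).eq_bot_or_eq_top.resolve_right fun e => ?_
    have t : P.B = ⊤ := eq_top_iff.2 (e ▸ normalCore_le P.B)
    obtain ⟨⟨s, hs'⟩, -⟩ := Nat.card_eq_one_iff_exists.1 h1
    apply P.conj_ne s hs'
    rw [t]
    exact Set.eq_univ_of_forall fun x => ⟨s⁻¹ * x * s⁻¹, trivial, by simp [mul_assoc]⟩
  obtain ⟨sp, -⟩ := bridge P h1 hcore U hUB hn nil hs
  by_cases o : ∀ c, Odd (Nat.card (fam P.B U c))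
  · exact known_of A B ⟨sp, reg_of_odd (main_of A B) _ G _ _ rfl sp o, o⟩
  · push Not at o
    obtain ⟨c, o⟩ := o
    exact (H9.HKSEv.jobEv G _ _ c sp (not_aff_of_simple sp.t2) (Nat.not_odd_iff_even.1 o)).2
      inferInstance

end Bridge

end H7.HKS
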