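/- Tower HM, slot Nz: the models `J₃` and `L₃(3):2` in normalized coordinates. -/
import Cfsg.Agent.H87.HMEss

set_option autoImplicit false
set_option linter.unusedSectionVars false

namespace H7.HMNz
open Cfsg Cfsg.FusionSystem H92 H93 Subgroup H87.HM
open H94 (PIso)
open H87.S4 (Co)
open scoped commutatorElement

universe u v

section tr
variable {Ω : Type u} {Γ : Type v} [Group Ω] [Group Γ] {S B A A' Q : Subgroup Ω} {S' : Subgroup Γ}
  {a : Ω → Γ} {b : Γ → Ω} {t g : Ω} {γ : Γ} {K : Type} [Field K] {σ : RingAut K} (i : PIso a b S S')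
include i

theorem cj_img (ht : t ∈ S) (hA : A ≤ S) : cj (a t) (img A a) = img (cj t A) a := by
  have l : cj t A ≤ S := cj_le_iff.2 fun x hx => mul_mem (mul_mem ht (hA hx)) (inv_mem ht)
  refine le_antisymm (cj_le_iff.2 fun y hy => ?_) (img_le_iff.2 fun x hx => ?_)
  · obtain ⟨x, hx, rfl⟩ := (i.mem_img hA).1 hy
    rw [← i.mul.map_conj ht (hA hx)]
    exact mem_img_of_mem a (conj_mem_cj t hx)
  · obtain ⟨y, hy, rfl⟩ := mem_cj_iff_exists.1 hx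
    rw [i.mul.map_conj ht (hA hy)]
    exact conj_mem_cj _ (mem_img_of_mem a hy)

theorem ct_img (ht : t ∈ S) (hA : A ≤ S) (h : a t ∈ Ct (img A a)) : t ∈ Ct A :=
  mem_Ct.2 fun x hx => i.inj (mul_mem (mul_mem ht (hA hx)) (inv_mem ht)) (hA hx) (by
    rw [i.mul.map_conj ht (hA hx)]; exact conj_eq_of_Ct h (mem_img_of_mem a hx))

theorem idx_img (hB : B ≤ S) (ht : t ∈ S) (h : ∀ s ∈ S, s ∈ B ∨ s * t ∈ B) :
    ∀ s ∈ S', s ∈ img B a ∨ s * a t ∈ img B a := fun s hs => by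
  have k := i.b_mem s hs
  rw [← i.a_b s hs, ← i.mul.map_mul k ht]
  exact (h _ k).imp (mem_img_of_mem a) (mem_img_of_mem a)

theorem tw_img (h : Tw S B A A' t) (n : t ∉ Ct (A ⊓ A')) :
    Tw S' (img B a) (img A a) (img A' a) (a t) where
  two := i.isPGroup h.two
  BS := i.img_le h.BS
  tS := i.a_mem t h.tS
  idx := idx_img i h.BS h.tS h.idx
  eA y hy := by
    obtain ⟨x, hx, rfl⟩ := (i.mem_img h.AS).1 hy
    rw [← i.mul.map_mul (h.AS hx) (h.AS hx), h.eA x hx, i.mul.map_one]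
  gen := by rw [← i.img_sup h.AS h.AS', h.gen]
  comm y hy y' hy' := by
    obtain ⟨x, hx, rfl⟩ := (i.mem_img h.AS).1 hy
    obtain ⟨x', hx', rfl⟩ := (i.mem_img h.AS').1 hy'
    rw [← i.img_inf h.AS h.AS', ← i.mul.map_commutator (h.AS hx) (h.AS' hx')]
    exact mem_img_of_mem a (h.comm x hx x' hx')
  reg y hy y' hy' e := by
    obtain ⟨x, hx, rfl⟩ := (i.mem_img h.AS).1 hy
    obtain ⟨x', hx', rfl⟩ := (i.mem_img h.AS').1 hy'
    have s := h.AS hx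
    have s' := h.AS' hx'
    refine (h.reg x hx x' hx' (i.inj (mul_mem s s') (mul_mem s' s) ?_)).imp (mem_img_of_mem a)
      (mem_img_of_mem a)
    rw [i.mul.map_mul s s', i.mul.map_mul s' s, e.eq]
  ne e := h.ne ((i.img_le_img_iff h.AS h.AS').1 e)
  sw := by rw [cj_img i h.tS h.AS, h.sw]
  sw' := by rw [cj_img i h.tS h.AS', h.sw']
  big := Or.inr fun e => n (ct_img i h.tS (h.ZB.trans h.BS) (by rwa [i.img_inf h.AS h.AS']))

theorem nm_img [Finite Ω] [Finite Γ] (hQ : Q ≤ S) (hg : ∀ x ∈ Q, g * x * g⁻¹ ∈ S)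
    (r : ∀ x ∈ Q, a (g * x * g⁻¹) = γ * a x * γ⁻¹) : g ∈ Nm Q ↔ γ ∈ Nm (img Q a) := by
  refine ⟨fun n => mem_Nm_of_conj fun y hy => ?_, fun n => mem_Nm_of_conj fun x hx => ?_⟩
  · obtain ⟨x, hx, rfl⟩ := (i.mem_img hQ).1 hy
    exact r x hx ▸ mem_img_of_mem a (conj_mem_of_Nm n hx)
  · exact (i.mem_img_iff hQ (hg x hx)).1 (r x hx ▸ conj_mem_of_Nm n (mem_img_of_mem a hx))

theorem he_img {m : K → K → K → Ω} (h : He B m) (hB : B ≤ S) :
    He (img B a) fun x y z => a (m x y z) where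
  mem _ _ _ := mem_img_of_mem a (h.mem ..)
  surj g hg := by
    obtain ⟨x, hx, rfl⟩ := (i.mem_img hB).1 hg
    obtain ⟨p, q, r, rfl⟩ := h.surj x hx
    exact ⟨p, q, r, rfl⟩
  mul _ _ _ _ _ _ := by rw [← i.mul.map_mul (hB (h.mem ..)) (hB (h.mem ..)), h.mul]
  inj e := h.inj (i.inj (hB (h.mem ..)) (hB (h.mem ..)) e)

theorem co_img {m : K → K → K → K → Ω} (h : Co B m) (hB : B ≤ S) :
    Co (img B a) fun x y z w => a (m x y z w) where
  mem _ _ _ _ := mem_img_of_mem a (h.mem ..)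
  surj g hg := by
    obtain ⟨x, hx, rfl⟩ := (i.mem_img hB).1 hg
    obtain ⟨p, q, r, s, rfl⟩ := h.surj x hx
    exact ⟨p, q, r, s, rfl⟩
  mul _ _ _ _ _ _ _ _ := by rw [← i.mul.map_mul (hB (h.mem ..)) (hB (h.mem ..)), h.mul]
  inj e := h.inj (i.inj (hB (h.mem ..)) (hB (h.mem ..)) e)

theorem sub_img3 {m : K → K → K → Ω} (h : He B m) (hB : B ≤ S) {X : Subgroup Ω} {X' : Subgroup Γ}
    (h1 : X ≤ B) (h2 : X' ≤ img B a) (e : ∀ x y z, a (m x y z) ∈ X' ↔ m x y z ∈ X) :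
    img X a = X' := by
  refine le_antisymm (img_le_iff.2 fun x hx => ?_) fun y hy => ?_
  · obtain ⟨p, q, r, rfl⟩ := h.surj x (h1 hx)
    exact (e ..).2 hx
  · obtain ⟨p, q, r, rfl⟩ := (he_img i h hB).surj y (h2 hy)
    exact mem_img_of_mem a ((e ..).1 hy)

theorem sub_img4 {m : K → K → K → K → Ω} (h : Co B m) (hB : B ≤ S) {X : Subgroup Ω} {X' : Subgroup Γ}
    (h1 : X ≤ B) (h2 : X' ≤ img B a) (e : ∀ x y z w, a (m x y z w) ∈ X' ↔ m x y z w ∈ X) :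
    img X a = X' := by
  refine le_antisymm (img_le_iff.2 fun x hx => ?_) fun y hy => ?_
  · obtain ⟨p, q, r, s, rfl⟩ := h.surj x (h1 hx)
    exact (e ..).2 hx
  · obtain ⟨p, q, r, s, rfl⟩ := (co_img i h hB).surj y (h2 hy)
    exact mem_img_of_mem a ((e ..).1 hy)

theorem t3_img {m : K → K → K → Ω} (h : T3 S B m t σ) :
    T3 S' (img B a) (fun x y z => a (m x y z)) (a t) σ where
  he := he_img i h.he h.BS
  two := i.isPGroup h.two
  BS := i.img_le h.BS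
  tS := i.a_mem t h.tS
  idx := idx_img i h.BS h.tS h.idx
  t2 := by rw [← i.mul.map_mul h.tS h.tS, h.t2, i.mul.map_one]
  act _ _ _ := by rw [← i.mul.map_conj h.tS (h.BS (h.he.mem ..)), h.act]

theorem t4_img {m : K → K → K → K → Ω} (h : T4 S B m t σ) :
    T4 S' (img B a) (fun x y z w => a (m x y z w)) (a t) σ where
  co := co_img i h.co h.BS
  two := i.isPGroup h.two
  BS := i.img_le h.BS
  tS := i.a_mem t h.tS
  idx := idx_img i h.BS h.tS h.idx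
  t2 := by rw [← i.mul.map_mul h.tS h.tS, h.t2, i.mul.map_one]
  fr := h.fr
  act _ _ _ _ := by rw [← i.mul.map_conj h.tS (h.BS (h.co.mem ..)), h.act]

end tr

section fld
variable {K : Type} [Field K] [Finite K]

theorem pow_card (x : K) : x ^ Nat.card K = x := by
  have := Fintype.ofFinite K
  rw [Nat.card_eq_fintype_card, FiniteField.pow_card]

theorem aut_two (hK : Nat.card K = 2) (σ τ : RingAut K) : σ = τ := RingEquiv.ext fun x => by
  have e := pow_card x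
  rw [hK] at e
  rcases mul_eq_zero.1 (show x * (x - 1) = 0 by linear_combination e) with r | r
  · simp [r]
  · simp [sub_eq_zero.1 r]

theorem aut_four [CharP K 2] (hK : Nat.card K = 4) {σ : RingAut K} (h : σ ≠ 1) (x : K) :
    σ x = x ^ 2 := by
  have two : (2 : K) = 0 := CharTwo.two_eq_zero
  have k : ∀ x : K, x = 0 ∨ x = 1 ∨ x ^ 2 + x + 1 = 0 := fun x => by
    have e := pow_card x
    rw [hK] at e
    rcases mul_eq_zero.1 (show x * ((x - 1) * (x ^ 2 + x + 1)) = 0 by linear_combination e) with r | r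
    · exact Or.inl r
    · exact Or.inr ((mul_eq_zero.1 r).imp_left sub_eq_zero.1)
  obtain ⟨w, hw⟩ : ∃ w, σ w ≠ w := not_forall.1 fun e => h (RingEquiv.ext e)
  have w2 : w ^ 2 + w + 1 = 0 :=
    ((k w).resolve_left fun e => hw (by simp [e])).resolve_left fun e => hw (by simp [e])
  have w3 : σ w ^ 2 + σ w + 1 = 0 := by simpa using congrArg σ w2
  have w4 : σ w = w + 1 := by
    have := (mul_eq_zero.1 (show (σ w - w) * (σ w + w + 1) = 0 by linear_combination w3 - w2)).resolve_left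
      (sub_ne_zero.2 hw)
    linear_combination this - (w + 1) * two
  rcases k x with r | r | r
  · simp [r]
  · simp [r]
  rcases mul_eq_zero.1 (show (x - w) * (x + w + 1) = 0 by linear_combination r - w2) with e | e
  · rw [sub_eq_zero.1 e, w4]; linear_combination -w2 + (w + 1) * two
  · have : x = w + 1 := by linear_combination e - (w + 1) * two
    rw [this, map_add, map_one, w4]; linear_combination -w2 + two

end fld

section mv
variable {Ω : Type u} [Group Ω] [Finite Ω] {S B A A' : Subgroup Ω} {t : Ω} {F : FusionSystem S}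

theorem ng_four (h : Tw S B A A' t) (c : Nat.card ↥(A ⊓ A') = 4) (n : t ∉ Ct (A ⊓ A')) :
    Ng (A ⊓ A') t := by
  obtain ⟨w, hw, e⟩ : ∃ w ∈ A ⊓ A', t * w * t⁻¹ ≠ w := by
    by_contra! r
    exact n (mem_Ct.2 r)
  have hw' : t * w * t⁻¹ ∈ A ⊓ A' := conj_mem_of_Nm (h.S_NmZ h.tS) hw
  have hu := mul_mem hw hw'
  have u2 := h.eA _ hu.1
  have u1 : w * (t * w * t⁻¹) ≠ 1 := fun r =>
    e ((eq_inv_of_mul_eq_one_right r).trans (inv_of_sq (h.eA w hw.1)))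
  have uc : Commute t (w * (t * w * t⁻¹)) := mul_inv_eq_iff_eq_mul.1 (by
    rw [show t * (w * (t * w * t⁻¹)) * t⁻¹ = t * w * t⁻¹ * (t * t * w * (t * t)⁻¹) by group,
      conj_eq_of_Ct (h.B_Ct h.tt) hw, (comm_of_sq h.eA hw.1 hw'.1).eq])
  have cm : ∀ z, Commute t z → z ∈ Ct (zpowers t) := fun z e =>
    le_Ct_comm.1 (zpowers_le.2 (show t ∈ Ct (zpowers z) from
      mem_Ct'.2 (by rintro _ ⟨k, rfl⟩; exact (e.symm.zpow_left k).eq))) (mem_zpowers z)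
  have l : A ⊓ A' ⊓ Ct (zpowers t) < A ⊓ A' := lt_of_le_of_ne inf_le_left fun r =>
    n (le_Ct_comm.1 (r.ge.trans inf_le_right) (mem_zpowers t))
  have c1 := card_lt_of_lt l
  have c2 := card_dvd_of_le l.le
  rw [c] at c1 c2
  have c3 : Nat.card ↥(A ⊓ A' ⊓ Ct (zpowers t)) ≤ 2 := by
    by_contra! r
    rw [show Nat.card ↥(A ⊓ A' ⊓ Ct (zpowers t)) = 3 by omega] at c2
    omega
  have c4 : zpowers (w * (t * w * t⁻¹)) = A ⊓ A' ⊓ Ct (zpowers t) :=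
    eq_of_le_of_card_ge (zpowers_le.2 ⟨hu, cm _ uc⟩) (by
      rw [Nat.card_zpowers, orderOf_eq_prime (p := 2) (by rw [sq, u2]) u1]; exact c3)
  intro z hz e
  rcases mem_zp2 u2 (c4.ge ⟨hz, cm z e⟩) with rfl | rfl
  · exact ⟨1, one_mem _, by simp⟩
  · exact ⟨w, hw, rfl⟩

theorem exists_inv (h : Tw S B A A' t) (n : Ng (A ⊓ A') t) : ∃ s ∈ S, s ∉ B ∧ s * s = 1 := by
  obtain ⟨a, ha, r⟩ := h.exists_sq
  have s1 : a * t ∈ S := mul_mem (h.AS ha) h.tS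
  have s2 : a * t ∉ B := fun e => h.t_not ((mul_mem_cancel_left (h.AB ha)).1 e)
  obtain ⟨w, hw, e⟩ := h.ng_out s1 s2 n _ r ((Commute.refl _).mul_right (Commute.refl _))
  refine ⟨w * (a * t), mul_mem (h.AS hw.1) s1, fun e => s2 ((mul_mem_cancel_left (h.ZB hw)).1 e), ?_⟩
  rw [show w * (a * t) * (w * (a * t)) = w * (a * t * w * (a * t)⁻¹) * (a * t * (a * t)) by group, ← e,
    h.eA _ r.1]

/-- With one class of involutions `Aut_F(A)` moves `Z`. -/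
theorem mv_of_class (J : JobEn.{u}) (hF : SatA 2 F) (h : Tw S B A A' t) (n : Ng (A ⊓ A') t)
    (cl : ∀ x ∈ S, ∀ y ∈ S, orderOf x = 2 → orderOf y = 2 → ∃ g, M F (zpowers x) g ∧ g * x * g⁻¹ = y) :
    ¬ Aut F A ≤ Nm (A ⊓ A') := fun hA => by
  have := Fact.mk Nat.prime_two
  obtain ⟨s, sS, sB, s2⟩ := exists_inv h n
  have k := h.change sS sB
  have hA' : Aut F A' ≤ Nm (A ⊓ A') := fun g hg => by
    have r := (M.of_mem F h.AS' h.tS).conj_mem_Aut hg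
    rw [h.sw'] at r
    have t1 := h.S_NmZ h.tS
    simpa [mul_assoc] using mul_mem (mul_mem (inv_mem t1) (hA r)) t1
  have nz : ∀ g ∈ Nm (A ⊓ A'), ∀ x, x ∉ A ⊓ A' → g * x * g⁻¹ ∉ A ⊓ A' := fun g hg x hx e =>
    hx (by simpa [mul_assoc] using conj_mem_of_Nm' hg e)
  have hb : ∀ g, cj g B ≤ S → ∀ x, (x ∈ A ∨ x ∈ A') ∧ x ∉ A ⊓ A' →
      (g * x * g⁻¹ ∈ A ∨ g * x * g⁻¹ ∈ A') ∧ g * x * g⁻¹ ∉ A ⊓ A' := fun g hg x hx => by
    refine ⟨?_, nz g (h.nmZ hg) x hx.2⟩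
    rcases h.perm hg with e | e
    · exact hx.1.imp (conj_mem_of_Nm e.1) (conj_mem_of_Nm e.2)
    · exact hx.1.symm.imp (fun r => e.2 ▸ conj_mem_cj g r) fun r => e.1 ▸ conj_mem_cj g r
  have key : ∀ P g, M F P g → ∀ x ∈ P, (x ∈ A ∨ x ∈ A') ∧ x ∉ A ⊓ A' →
      (g * x * g⁻¹ ∈ A ∨ g * x * g⁻¹ ∈ A') ∧ g * x * g⁻¹ ∉ A ⊓ A' := by
    refine hF.alperin' (fun P g => ∀ x ∈ P, (x ∈ A ∨ x ∈ A') ∧ x ∉ A ⊓ A' →
        (g * x * g⁻¹ ∈ A ∨ g * x * g⁻¹ ∈ A') ∧ g * x * g⁻¹ ∉ A ⊓ A')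
      (fun P Q g k _ c l e x hx hx' => conj_eq_of_Ct_div e hx ▸ c x (l hx) hx')
      (fun P Q g k _ c _ c' l x hx hx' => ?_) ?_
    · rw [conj_mul_u]; exact c' _ (l (conj_mem_cj g hx)) (c x hx hx')
    rintro P (rfl | hP) - g hg x hx hx'
    · exact hb g (M.of_Aut (h.autS hg) h.BS).cj_le x hx'
    rcases J Ω S B A A' F s hF k s2 (h.ng_out sS sB n) P hP with l | ⟨-, rfl, -⟩
    · rcases h.ess_le hF hP l with rfl | rfl | rfl
      · exact ⟨Or.inl (conj_mem_of_Nm hg.1 hx), nz g (hA hg) x hx'.2⟩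
      · exact ⟨Or.inr (conj_mem_of_Nm hg.1 hx), nz g (hA' hg) x hx'.2⟩
      · exact hb g (M.of_Aut hg h.BS).cj_le x hx'
    · have r := ((k.mem_Qx s2).1 hx).2
      rw [inv_of_sq s2, show s * (x * s * x⁻¹) = s * x * s * x⁻¹ by group] at r
      nth_rw 2 [← inv_of_sq s2] at r
      refine (hx'.2 ?_).elim
      rcases hx'.1 with e | e
      · exact ⟨e, by_contra fun c => k.conj_not_mem c ((mul_mem_cancel_right (inv_mem e)).1 r.1)⟩
      · exact ⟨by_contra fun c => k.symm.conj_not_mem c ((mul_mem_cancel_right (inv_mem e)).1 r.2), e⟩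
  obtain ⟨a, ha, a1⟩ := h.exA
  obtain ⟨⟨z, hz⟩, z1⟩ := ne_bot_iff_exists_ne_one.1 h.Z_ne
  obtain ⟨g, hg, e⟩ := cl a (h.AS ha) z (h.AS hz.1)
    (orderOf_eq_prime (by rw [sq, h.eA a ha]) fun e => a1 (e ▸ one_mem _))
    (orderOf_eq_prime (by rw [sq, h.eA z hz.1]) fun e => z1 (Subtype.ext e))
  exact (key _ g hg a (mem_zpowers a) ⟨Or.inl ha, fun r => a1 r.2⟩).2 (e ▸ hz)

end mv

theorem exists_iso {Ω : Type u} {G : Type v} [Group Ω] [Group G] {S : Subgroup Ω} {E : FusionSystem S}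
    {ι : S →* G} {T : Sylow 2 G} (h : Rl E ι T) : ∃ b, PIso (ext1 ι) b S T :=
  h.rg ▸ H94.exists_pIso_hom ι h.re.1

theorem jobJ3n : JobJ3n := fun En Fr S3 J K _ _ _ σ hK hσ => by
  have := Fact.mk Nat.prime_two
  obtain ⟨G, _, _, T, B, m, t, iso, he, tw, tz, cl⟩ := J K hK
  obtain ⟨Ω, _, _, S, E, ι, R⟩ := exists_good T
  obtain ⟨b, i⟩ := exists_iso R
  have j := i.symm
  have k := he_img j he tw.BS
  have eA := sub_img3 j he tw.BS he.A_le k.A_le fun _ _ _ => k.mem_A.trans he.mem_A.symm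
  have eA' := sub_img3 j he tw.BS he.A'_le k.A'_le fun _ _ _ => k.mem_A'.trans he.mem_A'.symm
  have w := tw_img j tw (he.inf_eq ▸ tz)
  have n : b t ∉ Ct (img (A3 m) b ⊓ img (A3' m) b) := fun e => tz (he.inf_eq ▸
    ct_img j tw.tS (tw.ZB.trans tw.BS) (by rwa [j.img_inf tw.AS tw.AS']))
  rw [eA, eA'] at w n
  have mv := mv_of_class En R.sat w (ng_four w (by rw [k.inf_eq, k.card_Z, hK]) n)
    fun x hx y hy ox oy => by
      have o : ∀ x ∈ S, orderOf x = 2 → orderOf (ext1 ι x) = 2 := fun x hx ox => by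
        rw [ext1_of_mem ι hx, orderOf_injective ι R.re.1, ← ox, orderOf_mk]
      obtain ⟨γ, e⟩ := isConj_iff.1 (cl _ _ (o x hx ox) (o y hy oy))
      obtain ⟨g, hg, r⟩ := R.lift (zpowers_le.2 hx) γ (by
        rintro _ ⟨l, rfl⟩
        rw [(mulOn_ext1 ι).map_zpow hx, ← conj_zpow, e]; exact zpow_mem (R.mem hy) l)
      exact ⟨g, hg, R.inj (hg.mem (mem_zpowers x)) hy ((r x (mem_zpowers x)).trans e)⟩
  rw [k.inf_eq] at mv n
  obtain ⟨m', t', τ, s, hτ⟩ := S3 Fr K Ω S _ E _ _ (by omega) ⟨R.sat, k, w, mv⟩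
  obtain rfl : τ = σ := RingEquiv.ext fun x =>
    (aut_four hK (fun e => n (hτ e)) x).trans (aut_four hK hσ x).symm
  have t3 := t3_img i s.t3
  rw [j.img_img tw.BS] at t3
  obtain ⟨ν, hν, sw⟩ := s.n
  obtain ⟨γ, r⟩ := R.down hν
  refine ⟨G, _, ‹_›, T, B, _, _, iso, t3, ⟨γ, fun x z => ?_⟩, fun sc => ?_⟩
  · rw [← r _ (s.t3.he.mem_A.2 rfl), sw]
  have w' := t3.tw (by omega)
  obtain ⟨⟨z, hz⟩, z1⟩ := ne_bot_iff_exists_ne_one.1 w'.Z_ne
  obtain ⟨g, e⟩ := isConj_iff.1 (cl z (ext1 ι t')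
    (orderOf_eq_prime (by rw [sq, w'.eA z hz.1]) fun e => z1 (Subtype.ext e))
    (orderOf_eq_prime (by rw [sq, t3.t2]) fun e => w'.t_not (e ▸ one_mem _)))
  exact w'.t_not (e ▸ sc g z (w'.ZB hz) (e ▸ t3.tS))

theorem jobM33n : JobM33n := fun S4 J K _ _ _ σ hK => by
  obtain ⟨G, _, _, T, B, m, t, co, tw, tz, nz, ⟨γ, mv, mv'⟩, sc, alt⟩ := J K hK
  obtain ⟨Ω, _, _, S, E, ι, R⟩ := exists_good T
  obtain ⟨b, i⟩ := exists_iso R
  have j := i.symm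
  have k := co_img j co tw.BS
  have eQ := sub_img4 j co tw.BS (co.Q_le 0) (k.Q_le 0) fun _ _ _ _ => k.mem_Q.trans co.mem_Q.symm
  have eV := sub_img4 j co tw.BS co.V_le k.V_le fun _ _ _ _ => k.mem_V.trans co.mem_V.symm
  have eY := sub_img4 j co tw.BS co.Y_le k.Y_le fun _ _ _ _ => k.mem_Y.trans co.mem_Y.symm
  have eZ := sub_img4 j co tw.BS co.Z_le k.Z_le fun _ _ _ _ => k.mem_Z.trans co.mem_Z.symm
  have w := tw_img j tw fun e => by
    obtain ⟨y, r⟩ := tz 1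
    rw [conj_eq_of_Ct e ⟨co.mem_Q.2 (by simp), co.mem_V.2 rfl⟩] at r
    exact one_ne_zero (co.inj r).2.2.1
  rw [eQ, eV] at w
  have nm : ∀ {X : Subgroup G} {X' : Subgroup Ω} {g γ}, X ≤ co.Q 0 → img X b = X' → M E (k.Q 0) g →
      (∀ x ∈ k.Q 0, ext1 ι (g * x * g⁻¹) = γ * ext1 ι x * γ⁻¹) → (g ∈ Nm X' ↔ γ ∈ Nm X) := by
    rintro X _ g γ l rfl hg r
    have l' : img X b ≤ k.Q 0 := eQ ▸ img_mono b l
    rw [nm_img i (l'.trans w.AS) (fun x hx => hg.mem (l' hx)) fun x hx => r x (l' hx),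
      j.img_img (l.trans tw.AS)]
  obtain ⟨m', t', τ, s⟩ := S4 K Ω S _ E _ _ ⟨R.sat, k, w, fun g hg => by
      have hg' := M.of_Aut hg w.AS
      obtain ⟨γ, r⟩ := R.down hg'
      exact (nm (co.Z_le_Y.trans (co.Y_le_Q 0)) eZ hg' r).2 (nz γ ((nm le_rfl eQ hg' r).1 hg.1)),
    fun e => by
      obtain ⟨g, hg, r⟩ := R.lift w.AS γ fun x hx => tw.AS (conj_mem_of_Nm mv (by
        rw [← j.img_img tw.AS, eQ]; exact mem_img_of_mem _ hx))
      exact mv' ((nm (co.Y_le_Q 0) eY hg r).1 (e (hg.mem_Aut ((nm le_rfl eQ hg r).2 mv)))),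
    fun x => by
      obtain ⟨y, r⟩ := tz x
      exact ⟨y, by rw [← j.mul.map_conj tw.tS (tw.BS (co.mem ..)), r]⟩⟩
  obtain rfl := aut_two hK τ σ
  have t4 := t4_img i s.t4
  rw [j.img_img tw.BS] at t4
  obtain ⟨ν, hν, sw⟩ := s.n
  obtain ⟨δ, r⟩ := R.down hν
  exact ⟨G, _, ‹_›, T, B, _, _, t4, ⟨δ, fun y w a => by
    rw [← r _ (s.t4.co.mem_Q.2 (by simp)), sw]⟩, sc, alt⟩

end H7.HMNz
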