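import Cfsg.Agent.H63.KgvSpec

/-! Tower KGV, slot H5: the product formula in the non-split case. -/

set_option autoImplicit false

namespace H7.KgvH5

open Polynomial Finset Cfsg H63.Kgv

theorem job : JH5 := by
  intro br lf h1 ar pa pb p _ M K _ _ _ g θ s r ω hr hω t D w ht hD hrD hwr hw
  have hp : p.Prime := Fact.out
  have hne : w ^ p ^ D ≠ w := fun h => by simpa using hw.1 h
  obtain ⟨-, frob, -⟩ := h1 br lf p M K g θ s
  have hD0 : 0 < D := Nat.pos_of_dvd_of_pos hD s.pos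
  have hq1 : 1 < p ^ D := Nat.one_lt_pow hD0.ne' hp.one_lt
  obtain ⟨u, hu⟩ := hrD
  have hq : p ^ D = r * u + 1 := by omega
  have hωr : ω ^ r = 1 := hω ▸ pow_orderOf_eq_one ω
  have hωq : ∀ i, (ω ^ i) ^ p ^ D = ω ^ i := fun i => by
    rw [hq, pow_succ, pow_mul, ← pow_mul ω i r, mul_comm i r, pow_mul, hωr, one_pow, one_pow,
      one_mul]
  -- the twist `ε`
  set ε : Kˣ := w ^ (r * u) with hε
  have hwε : w ^ p ^ D = w * ε := by rw [hq, pow_succ']
  have hε1 : ε ≠ 1 := fun h => hne (by rw [hwε, h, mul_one])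
  have hεr : ε ^ r = 1 := by
    have : w ^ r * ε ^ r = w ^ r := by rw [← mul_pow, ← hwε, ← pow_mul, mul_comm, pow_mul, hwr]
    simpa using this
  haveI := Fact.mk hr
  have hoε : orderOf ε = r := orderOf_eq_prime hεr hε1
  have hεq : ε ^ p ^ D = ε := by
    rw [hq, pow_succ, pow_mul, hεr, one_pow, one_mul]
  have hεj : ∀ j, ε ^ (p ^ D) ^ j = ε := fun j => by
    induction j with
    | zero => simp
    | succ j ih => rw [pow_succ, pow_mul, ih, hεq]
  have hwj : ∀ j, w ^ (p ^ D) ^ j = w * ε ^ j := fun j => by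
    induction j with
    | zero => simp
    | succ j ih => rw [pow_succ', pow_mul, hwε, mul_pow, ih, hεj, mul_assoc, ← pow_succ]
  have hDr : D * r ∣ M := by
    obtain ⟨k, rfl⟩ := hD
    have h2 : w ^ p ^ (D * k) = w := by
      apply Units.ext
      rw [Units.val_pow_eq_pow_val, ← s.card, FiniteField.pow_card]
    rw [pow_mul, hwj] at h2
    have h3 : ε ^ k = 1 := by simpa using h2
    exact Nat.mul_dvd_mul_left D (hoε ▸ orderOf_dvd_of_pow_eq_one h3)
  have hwL : w ^ p ^ (D * r) = w := by rw [pow_mul, hwj, hεr, mul_one]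
  have fr : ∀ (n : ℕ) (x : Kˣ), HH p M g θ t (x ^ p ^ n) = HH p M g θ t x := fun n x => by
    induction n with
    | zero => simp
    | succ n ih => rw [pow_succ, pow_mul, frob t _ ht, ih]
  have hl : ∀ i, HH p M g θ t (w * ω ^ i) = HH p M g θ t w := by
    intro i
    haveI : NeZero r := ⟨hr.ne_zero⟩
    have hz : Subgroup.zpowers ε = Subgroup.zpowers ω :=
      ((hoε ▸ IsPrimitiveRoot.orderOf ε : IsPrimitiveRoot ε r).zpowers_eq).trans
        ((hω ▸ IsPrimitiveRoot.orderOf ω : IsPrimitiveRoot ω r).zpowers_eq).symm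
    have hm : ω ^ i ∈ Subgroup.zpowers ε := hz ▸ pow_mem (Subgroup.mem_zpowers ω) i
    obtain ⟨j, hj⟩ := (mem_powers_iff_mem_zpowers.2 hm : ω ^ i ∈ Submonoid.powers ε)
    have hj' : ε ^ j = ω ^ i := hj
    rw [← hj', ← hwj, ← pow_mul, fr]
  have hrt : (r : ZMod p) * t ≠ 0 := by
    refine mul_ne_zero (fun h => ?_) ht
    have h2 : p ∣ r * u := ((ZMod.natCast_eq_zero_iff r p).1 h).mul_right u
    have h3 : p ∣ r * u + 1 := hq ▸ dvd_pow_self p hD0.ne'
    exact hp.one_lt.ne' (Nat.dvd_one.1 ((Nat.dvd_add_right h2).1 h3))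
  obtain ⟨F, L, _, _, _, _, _, ψ, χ, γ, ψ', χ', γ', bF, bL, hfr, hN, hT⟩ :=
    br p M K g θ s D r hDr
  have hθ : ∀ x : Kˣ, (θ x : ℂ) = 1 → x = 1 := fun x h =>
    s.inj (Units.ext (by rw [map_one]; exact h))
  have hρ : ∀ i, χ (ω ^ i) = χ ω ^ i := fun i => by
    rw [MulChar.eq_iff bF.gen, MulChar.pow_apply_coe, bF.val _ (hωq i),
      bF.val ω (by simpa using hωq 1), map_pow, Units.val_pow_eq_pow_val]
  have hoρ : orderOf (χ ω) = r := by
    refine orderOf_eq_prime ?_ fun h => ?_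
    · rw [← hρ, MulChar.eq_iff bF.gen, bF.val _ (hωq r), hωr, map_one, MulChar.one_apply_coe,
        Units.val_one]
    · have h2 := bF.val ω (by simpa using hωq 1)
      rw [h, MulChar.one_apply_coe] at h2
      rw [hθ ω h2.symm, orderOf_one] at hω
      exact hr.one_lt.ne hω
  obtain ⟨c, hc⟩ := ar F (ψ t) r hr.pos
  have hA := pa F (ψ t) 1 (χ ω) r (bF.ne t ht) hr hoρ
  rw [one_pow, hc, bF.sh, gaussSum_one_left (bF.ne _ hrt),
    MulChar.one_apply isUnit_one.neg, one_pow] at hA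
  have hω1 : ((γ : F) ^ u) ^ r = 1 := by
    rw [← pow_mul, mul_comm, ← hu, ← bF.card]
    exact FiniteField.pow_card_sub_one_eq_one _ γ.ne_zero
  have hω2 : χ (w ^ r) ((γ : F) ^ u) ≠ 1 := by
    rw [map_pow, bF.val _ hwr, ← Units.val_pow_eq_pow_val, ← map_pow, ← pow_mul]
    exact fun h => hε1 (hθ _ h)
  have hB := pb F L (ψ t) (χ (w ^ r)) (χ' w) r _ hr hfr hω1 hω2 (fun a => by
    by_cases ha : a = 0
    · rw [ha, MulChar.map_zero, zero_pow hr.ne_zero, Algebra.norm_zero, MulChar.map_zero]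
    · obtain ⟨k, hk⟩ := (mem_powers_iff_mem_zpowers.2 (bL.gen (Units.mk0 a ha)) :
        Units.mk0 a ha ∈ Submonoid.powers γ')
      have hk' : (γ' : L) ^ k = a := by
        have := congrArg Units.val hk
        simpa using this
      rw [← hk', map_pow, map_pow, map_pow, hN, bL.val w hwL, bF.val _ hwr, map_pow,
        Units.val_pow_eq_pow_val, ← pow_mul, ← pow_mul, mul_comm]) (fun h => by
    have h2 := congrArg (fun η : MulChar L ℂ => η (γ' : L)) h
    simp only [MulChar.pow_apply_coe, MulChar.one_apply_coe] at h2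
    rw [bL.val w hwL, bF.card, hu, ← Units.val_pow_eq_pow_val, ← map_pow] at h2
    exact hε1 (hθ _ h2))
  rw [hc, bF.sh] at hB
  have hsign : χ (w ^ r) (-1) ^ (r - 1) = (-1) ^ (r + 1) := by
    have h2 : χ (w ^ r) (-1) ^ 2 = 1 := by rw [← map_pow]; simp
    rcases hr.eq_two_or_odd' with rfl | ⟨k, rfl⟩
    · rcases sq_eq_one_iff.1 hω1 with h | h
      · rw [h, map_one] at hω2
        exact absurd rfl hω2
      · rw [h] at hω2
        rw [(sq_eq_one_iff.1 h2).resolve_left hω2]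
        norm_num
    · rw [Nat.add_sub_cancel, pow_mul, h2, one_pow, add_assoc, pow_add, pow_mul]
      norm_num
  simp only [hl]
  rw [prod_const, card_range, ← pow_mul, lf p M K g θ s t (D * r) w ht hDr hwL, bL.gs t w hwL,
    lf p M K g θ s _ D _ hrt hD hwr, bF.gs _ _ hwr,
    prod_congr rfl fun i _ => by
      rw [lf p M K g θ s t D _ ht hD (hωq i), bF.gs t _ (hωq i), hρ, neg_eq_neg_one_mul]]
  simp only [one_mul] at hA
  rw [prod_mul_distrib, prod_const, card_range, hA, gaussSum]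
  simp only [hT]
  rw [hB, hsign]
  ring

end H7.KgvH5
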