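/- STD-F4 endgame, slot D4: the normalisers of the elements `d = a t` of order `4`. -/
import Cfsg.Agent.H64.SFMod
import Cfsg.Agent.H64.SGK89

set_option autoImplicit false
set_option linter.unusedSectionVars false

namespace H7.SFD4

open Cfsg.Lie H63 H65 H64 H64.SF H98 Subgroup
open H64.SG hiding FR FA FC FB FD JobFR JobFA JobFC
open H67.SA (cm)
open H86.WR (XF US UF4)

universe u

section gen
variable {G : Type*} [Group G]

theorem conj_four {d m : G} (h4 : d ^ 4 = 1) (h2 : d * d ≠ 1)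
    (hm : m ∈ Ns (zpowers d)) : m * d * m⁻¹ = d ∨ m * d * m⁻¹ = d⁻¹ := by
  obtain ⟨k, hk⟩ := mem_zpowers_iff.1 (conj_mem_of_mem_normalizer hm (mem_zpowers d))
  have h5 : d ^ (4 : ℤ) = 1 := by exact_mod_cast h4
  obtain ⟨j, rfl | rfl⟩ := Int.even_or_odd' k
  · refine absurd (conj_eq_one_iff.1 (?_ : m * (d * d) * m⁻¹ = 1)) h2
    rw [← conj_mul, ← hk, ← zpow_add, show 2 * j + 2 * j = 4 * j by ring, zpow_mul, h5, one_zpow]
  · obtain ⟨i, rfl | rfl⟩ := Int.even_or_odd' j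
    · left
      rw [← hk, show 2 * (2 * i) + 1 = 4 * i + 1 by ring, zpow_add, zpow_mul, h5, one_zpow, one_mul,
        zpow_one]
    · right
      rw [← hk, show 2 * (2 * i + 1) + 1 = 4 * (i + 1) + -1 by ring, zpow_add, zpow_mul, h5,
        one_zpow, one_mul, zpow_neg_one]

open scoped IsMulCommutative in
/-- The product over an orbit of odd length. -/
theorem odd_orbit [Finite G] {Γ W Z D : Subgroup G} {t : G} (ab : W ≤ Cs W) (nW : Γ ≤ Ns W)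
    (nD : Γ ≤ Ns D) (tW : t ∈ W) (t2 : t * t = 1) (h1 : ∀ m ∈ Γ, cm m t ∈ Z)
    (h2 : ∀ m ∈ Γ, Is2 m → cm m t ∈ D) : ∃ z ∈ Z, ∀ m ∈ Γ, cm m (z * t) ∈ D := by
  classical
  have := Fact.mk Nat.prime_two
  have : IsMulCommutative W := ⟨⟨fun a b => Subtype.ext (ab b.2 a a.2)⟩⟩
  obtain ⟨P⟩ : Nonempty (Sylow 2 Γ) := inferInstance
  have := Fintype.ofFinite (Γ ⧸ (P : Subgroup Γ))
  let f : Γ → W := fun m => ⟨m * t * (m : G)⁻¹, conj_mem_of_mem_normalizer (nW m.2) tW⟩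
  let a : W := ∏ q : Γ ⧸ (P : Subgroup Γ), f q.out
  obtain ⟨k, hk⟩ : Odd (Fintype.card (Γ ⧸ (P : Subgroup Γ))) := by
    rw [← Nat.card_eq_fintype_card, ← index_eq_card, ← Nat.not_even_iff_odd, even_iff_two_dvd]
    exact P.not_dvd_index
  have e1 : a * (⟨t, tW⟩ : W)⁻¹ = ∏ q : Γ ⧸ (P : Subgroup Γ), f q.out * (⟨t, tW⟩ : W)⁻¹ := by
    have : (⟨t, tW⟩ : W) ^ 2 = 1 := Subtype.ext (by simpa [sq] using t2)
    rw [Finset.prod_mul_distrib, Finset.prod_const, Finset.card_univ, hk, inv_pow, pow_succ, pow_mul, this,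
      one_pow, one_mul]
  refine ⟨a * t⁻¹, show a * (⟨t, tW⟩ : W)⁻¹ ∈ Z.subgroupOf W from
    e1 ▸ prod_mem fun q _ => h1 _ q.out.2, fun m hm => ?_⟩
  let ψ : W →* W := (W.normalizerMonoidHom ⟨m, nW hm⟩).toMonoidHom
  have e2 : ψ a * a⁻¹ = ∏ q : Γ ⧸ (P : Subgroup Γ), ψ (f q.out) * (f ((⟨m, hm⟩ : Γ) • q).out)⁻¹ := by
    rw [Finset.prod_mul_distrib, Finset.prod_inv_distrib, ← map_prod]
    exact congrArg (fun w => ψ a * w⁻¹)
      (Equiv.prod_comp (MulAction.toPerm (⟨m, hm⟩ : Γ)) fun q : Γ ⧸ (P : Subgroup Γ) => f q.out).symm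
  rw [inv_mul_cancel_right]
  refine show ψ a * a⁻¹ ∈ D.subgroupOf W from e2 ▸ prod_mem fun q _ => ?_
  obtain ⟨p, hp⟩ := QuotientGroup.mk_out_eq_mul (P : Subgroup Γ) (⟨m, hm⟩ * q.out)
  have e3 : ((⟨m, hm⟩ : Γ) • q).out = ⟨m, hm⟩ * q.out * p := by
    rw [← hp]; congr 1
    conv_lhs => rw [← q.out_eq']
    rfl
  have p2 : Is2 ((p : Γ) : G) := let ⟨j, hj⟩ := P.isPGroup' p
    ⟨j, by simpa using congrArg (fun w : P => ((w : Γ) : G)) hj⟩
  have := inv_mem (conj_mem_of_mem_normalizer (nD (mul_mem hm q.out.2)) (h2 _ (p : Γ).2 p2))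
  rw [e3, mem_subgroupOf]
  convert this using 1
  show m * (q.out * t * (q.out : G)⁻¹) * m⁻¹ * (m * q.out * p * t * (m * q.out * p : G)⁻¹)⁻¹ = _
  simp only [cm]; group

end gen

variable {F : Type} [Field F] [Finite F] [CharP F 2] {Y : Type} [Group Y] [Finite Y] {G : Type u}
  [Group G] [Finite G] {ι : XF F →* Y} {τ : MulAut Y} {Gd : XF F → Prop} {U : Subgroup Y}
  {A : ℕ → Y → Prop} {e : XF F →* G} {t : G} {G₁ : Subgroup G} {c : Cov Y G₁} {Us : Subgroup G}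
  {b : ℕ} {i : Y} {T : F} {a m : G}

variable (ι τ Gd U A e t G₁ c Us b i T a) in
/-- The situation. -/
structure Cx : Prop where
  R : FR F
  C : FC F
  H : MF ι τ Gd U A
  E : E0 ι τ Gd U e t G₁ c Us
  Ea : EA Gd e t G₁ c Us
  D : D4 ι τ A b i T
  aG : a ∈ G₁
  a2 : Is2 a
  pa : c.pi a = i

namespace Cx
variable (s : Cx ι τ Gd U A e t G₁ c Us b i T a)
include s

theorem hb : b = 44 ∨ b = 47 := (s.H.bb b i s.D.1).1
theorem b48 : b < 48 := by rcases s.hb with r | r <;> omega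
theorem VQ : V F b ≤ Q F b := US_mono (by rcases s.hb with rfl | rfl <;> decide +kernel)
theorem xQ (f : F) : x F b f ∈ Q F b := x_mem (by rcases s.hb with rfl | rfl <;> decide +kernel) s.b48 f
theorem eG (u : XF F) : e u ∈ G₁ := s.E.le ⟨u, rfl⟩
theorem eN (u : XF F) : e u ∈ Ns G₁ := le_normalizer (s.eG u)
theorem e2 {u : XF F} (hu : u ∈ Q F b) : Is2 (e u) :=
  (isPGroup_iff_is2.1 (s.R.o2 b s.b48).2.2.1 u hu).map e
theorem te (u : XF F) : Commute (e u) t := s.E.cen _ ⟨u, rfl⟩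
theorem t2 : t * t = 1 := s.E.inv.1
theorem ti : t⁻¹ = t := inv_eq_of_mul_eq_one_right s.t2
theorem τι (u : XF F) : τ (ι u) = ι u := (s.H.fix _).2 ⟨u, rfl⟩

theorem lift {j : Y} {f : F} {w : G} (h1 : A b j) (h2 : j * τ j = ι (x F b f)) (hw : w ∈ G₁) (w2 : Is2 w)
    (hp : c.pi w = j) : w * w = 1 ∧ w * t * (w * t) = e (x F b f) ∧ ∀ u ∈ Q F b, Commute w (e u) := by
  have jQ := (s.H.bb b j h1).2
  have j2 := s.H.ce b s.hb j jQ
  have tw := conj_mem_of_mem_normalizer s.E.tn hw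
  have pt : c.pi (t * w * t⁻¹) = τ j := by rw [c.ac_pi _ s.E.tn _ hw, s.E.act, hp]
  refine ⟨c.sq_of_pi hw w2 (hp ▸ j2), ?_, fun u hu => c.comm_of_pi (s.eG u) hw (s.e2 hu) (by
    rw [hp, s.E.pi]; exact (jQ _ (mem_map_of_mem ι hu)).symm)⟩
  rw [show w * t * (w * t) = w * (t * w * t⁻¹) by rw [s.ti]; group]
  refine c.eq_of_pi_eq (mul_mem hw tw) (s.eG _) (w2.mul (w2.conj t) (c.comm_of_pi hw tw w2 ?_).symm)
    (s.e2 (s.xQ f)) (by rw [c.pi_mul _ hw _ tw, pt, hp, h2, s.E.pi])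
  have k : Commute (ι (x F b f)) j := jQ _ (mem_map_of_mem ι (s.xQ f))
  rw [pt, hp, eq_inv_mul_of_mul_eq h2]
  exact ((Commute.refl j).inv_left.mul_left k).eq

theorem aa : a * a = 1 := (s.lift s.D.1 s.D.2.2 s.aG s.a2 s.pa).1
theorem dd : a * t * (a * t) = e (x F b T) := (s.lift s.D.1 s.D.2.2 s.aG s.a2 s.pa).2.1
theorem dQ {u : XF F} (hu : u ∈ Q F b) : Commute (e u) (a * t) :=
  ((s.lift s.D.1 s.D.2.2 s.aG s.a2 s.pa).2.2 u hu).symm.mul_right (s.te u)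
theorem xx (f : F) : e (x F b f) * e (x F b f) = 1 := by rw [← map_mul, x_sq s.b48, map_one]
theorem d4 : (a * t) ^ 4 = 1 := by rw [show 4 = 2 * 2 from rfl, pow_mul, pow_two, pow_two, s.dd, s.xx]
theorem dN : a * t ∈ Ns G₁ := mul_mem (le_normalizer s.aG) s.E.tn
theorem td : t * (a * t) * t⁻¹ = (a * t)⁻¹ := by
  rw [mul_inv_rev, s.ti, inv_eq_of_mul_eq_one_right s.aa, mul_assoc, mul_assoc, s.t2, mul_one]
theorem dinv : (a * t)⁻¹ = a * t * e (x F b T) := by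
  rw [inv_eq_iff_mul_eq_one, ← mul_assoc, s.dd, s.xx]
theorem tΓ : t ∈ Ns (zpowers (a * t)) ⊓ Ns G₁ := ⟨H9.UF.mem_nor_zp s.td, s.E.tn⟩

theorem acd (y : Y) : c.ac (a * t) y = i * τ y * i⁻¹ := by
  rw [c.ac_mul _ (le_normalizer s.aG) _ s.E.tn, c.ac_of_mem s.aG, s.pa, s.E.act]; rfl

variable (hm : m ∈ Ns (zpowers (a * t)) ⊓ Ns G₁)
include hm

theorem md : m * (a * t) * m⁻¹ = a * t ∨ m * (a * t) * m⁻¹ = (a * t)⁻¹ :=
  conj_four s.d4 (fun r => s.D.2.1 ((x_eq_one s.b48).1 (s.E.inj (by rw [← s.dd, r, map_one])))) hm.1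

theorem mz : m * e (x F b T) * m⁻¹ = e (x F b T) := by
  rw [← s.dd, ← conj_mul]
  rcases s.md hm with r | r <;> rw [r]
  rw [← mul_inv_rev, s.dd, inv_eq_of_mul_eq_one_right (s.xx T)]

theorem acz : c.ac m (ι (x F b T)) = ι (x F b T) := by
  rw [← s.E.pi, ← c.ac_pi _ hm.2 _ (s.eG _), s.mz hm]

theorem fixd {y : Y} (h : c.ac (a * t) y = y) : c.ac (a * t) (c.ac m y) = c.ac m y := by
  have k : c.ac (m⁻¹ * (a * t) * m⁻¹⁻¹) y = y := by
    rcases s.md (inv_mem hm) with r | r <;> rw [r]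
    · exact h
    · rw [c.ac_inv s.dN, MulAut.inv_def, MulEquiv.symm_apply_eq, h]
  rw [c.ac_conj (inv_mem hm.2) s.dN, c.ac_inv hm.2, inv_inv] at k
  simpa using congrArg (c.ac m) k

theorem key {W : Subgroup Y} (h1 : W ≤ Cz i)
    (h2 : ∀ α : MulAut Y, α (ι (x F b T)) = ι (x F b T) → α ∈ H67.SA.St W) {u : XF F} (hu : ι u ∈ W) :
    ∃ u', ι u' ∈ W ∧ c.ac m (ι u) = ι u' := by
  have k : ∀ y ∈ W, c.ac (a * t) y = τ y := fun y hy => by
    rw [s.acd, mem_Cz.1 (h1 ((h2 τ (s.τι _) y).1 hy)), mul_inv_cancel_right]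
  have h3 := (h2 _ (s.acz hm) _).1 hu
  obtain ⟨u', r⟩ := (s.H.fix _).1 ((k _ h3).symm.trans (s.fixd hm ((k _ hu).trans (s.τι u))))
  exact ⟨u', r ▸ h3, r.symm⟩

theorem nQ : m ∈ Ns ((Q F b).map e) := by
  obtain ⟨W, w1, w2, w3, w4⟩ := s.H.nq b i T s.D
  have cz := s.R.cz b s.b48 T s.D.2.1
  have l : W.comap ι ≤ Q F b := (s.R.o2 b s.b48).2.2.2 _ (fun u hu => cz ▸ mem_Cz.2 (s.H.inj (by
      have k : Commute i (ι u) := mem_Cz.1 (w3 hu)
      have k' : Commute (τ i) (ι u) := s.τι u ▸ k.map τ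
      rw [map_mul, map_mul, ← s.D.2.2]; exact (k.mul_left k').eq)))
    (fun p hp => mem_normalizer_iff.2 fun u => by
      have := w4 (MulAut.conj (ι p)) (by
        rw [MulAut.conj_apply, mul_inv_eq_iff_eq_mul, ← map_mul, ← map_mul, mem_Cz.1 (cz.ge hp)]) (ι u)
      simpa using this) (w1.comap_of_injective ι s.H.inj)
  refine mem_normalizer_of_cj_le ?_
  rintro _ ⟨_, ⟨u, hu, rfl⟩, rfl⟩
  obtain ⟨u', h1, h2⟩ := s.key hm w3 w4 (w2 (mem_map_of_mem ι hu))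
  exact ⟨u', l h1, (c.conj_eq_of_ac hm.2 (s.eG u) (s.eG u') (s.e2 hu) (s.e2 (l h1))
    (by rw [s.E.pi, s.E.pi, h2])).symm⟩

theorem nZ : m ∈ Ns ((Z F b).map e) := by
  rw [← s.R.zq b s.b48, map_commutator]
  have := zpowers_le.2 (s.nQ hm)
  exact le_normalizer_commutator this this (mem_zpowers m)

/-- `m` translates `t` by an element of `X_b`. -/
theorem tr : cm m t ∈ (Z F b).map e := by
  have sN : m * t * m⁻¹ ∈ Ns G₁ := mul_mem (mul_mem hm.2 s.E.tn) (inv_mem hm.2)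
  have kN : cm m t ∈ Ns G₁ := mul_mem sN (inv_mem s.E.tn)
  have ak : c.ac (cm m t) = c.ac m * τ * (c.ac m)⁻¹ * τ⁻¹ := by
    rw [c.ac_mul _ sN _ (inv_mem s.E.tn), c.ac_conj hm.2 s.E.tn, c.ac_inv s.E.tn, s.E.act]
  have cQ : ∀ u ∈ Q F b, c.ac (cm m t) (ι u) = ι u := fun u hu => by
    obtain ⟨u', -, r⟩ := conj_mem_of_mem_normalizer' (s.nQ hm) (mem_map_of_mem e hu)
    have k : Commute (e u) (m * t * m⁻¹) := by
      simpa [r, mul_assoc] using (s.te u').conj m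
    exact s.E.pi u ▸ c.ac_of_comm kN (s.eG u) (k.mul_right (s.te u).inv_right).symm.eq
  obtain ⟨y, hy⟩ := s.H.k2 _ (ak ▸ commutator_mem_commutator (mem_top _) (mem_top _))
    (s.H.ca2 b s.hb _ cQ)
  have yQ : y ∈ Cs ((Q F b).map ι) := by
    rintro _ ⟨u, hu, rfl⟩
    have := cQ u hu
    rw [hy, MulAut.conj_apply, mul_inv_eq_iff_eq_mul] at this
    exact this.symm
  have kd : Commute (cm m t) (a * t) := mul_inv_eq_iff_eq_mul.1 (by
    have h1 : t⁻¹ * (a * t) * t = (a * t)⁻¹ := by simpa [s.ti] using s.td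
    have h2 : m * t * m⁻¹ * (a * t)⁻¹ * (m * t * m⁻¹)⁻¹ = a * t := by
      rcases s.md (inv_mem hm) with r | r
      · calc _ = m * (t * (m⁻¹ * (a * t) * m⁻¹⁻¹) * t⁻¹)⁻¹ * m⁻¹ := by group
          _ = m * (m⁻¹ * (a * t) * m⁻¹⁻¹) * m⁻¹ := by rw [r, s.td, inv_inv]
          _ = _ := by group
      · calc _ = m * (t * (m⁻¹ * (a * t) * m⁻¹⁻¹)⁻¹ * t⁻¹) * m⁻¹ := by group
          _ = m * (m⁻¹ * (a * t) * m⁻¹⁻¹) * m⁻¹ := by rw [r, inv_inv, s.td]
          _ = _ := by group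
    calc _ = m * t * m⁻¹ * (t⁻¹ * (a * t) * t) * (m * t * m⁻¹)⁻¹ := by simp only [cm]; group
      _ = _ := by rw [h1, h2])
  have iQ := (s.H.bb b i s.D.1).2
  have yi : Commute y i := by
    have := inv_eq_of_mul_eq_one_right (s.H.ce b s.hb _ (mul_mem yQ iQ))
    rw [mul_inv_rev, inv_eq_of_mul_eq_one_right (s.H.ce b s.hb _ yQ),
      inv_eq_of_mul_eq_one_right (s.H.ce b s.hb _ iQ)] at this
    exact this.symm
  obtain ⟨u, rfl⟩ := (s.H.fix y).1 (by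
    have h1 : y * i = i * τ y := s.H.ns.conj_inj (MulEquiv.ext fun w => by
      have := congrArg (fun g => c.ac g (τ⁻¹ w)) kd.eq
      simp only [c.ac_mul _ kN _ s.dN, c.ac_mul _ s.dN _ kN, MulAut.mul_apply, hy, s.acd,
        MulAut.conj_apply, map_mul, map_inv, MulAut.apply_inv_self] at this
      simpa [mul_assoc] using this)
    rw [yi.eq, mul_right_inj] at h1
    exact h1.symm)
  have uV : u ∈ V F b := s.R.cq b s.b48 ▸ fun w hw => s.H.inj (by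
    simpa using yQ _ (mem_map_of_mem ι hw))
  have uQ := s.VQ uV
  have k1 := c.exists_split kN (s.eG u) (by rw [hy, s.E.pi])
  have k2 : Commute ((e u)⁻¹ * cm m t) t := by
    have h1 : Commute ((e u)⁻¹ * cm m t) (a * t) := (s.dQ uQ).inv_left.mul_left kd
    have h2 : Commute a ((e u)⁻¹ * cm m t) := k1 a s.aG
    simpa using h2.symm.inv_right.mul_right h1
  have u2 : e u * e u = 1 := by
    rw [← map_mul, show u * u = 1 from s.H.inj (by simpa using s.H.ce b s.hb _ yQ), map_one]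
  have k3 : (e u)⁻¹ * cm m t = 1 := (is2_of_sq (by
    generalize hk : (e u)⁻¹ * cm m t = k at k1 k2
    have h1 : m * t * m⁻¹ = e u * k * t := by rw [← hk]; simp only [cm]; group
    have h2 : Commute (e u) k := k1 _ (s.eG u)
    have h3 : e u * k * t * (e u * k * t) = 1 := by rw [← h1, conj_mul, s.t2]; simp
    rwa [((s.te u).mul_left k2).symm.mul_mul_mul_comm, h2.symm.mul_mul_mul_comm, s.t2, u2, one_mul,
      mul_one] at h3)).eq_one (odd_orderOf_of_mem s.Ea.odd k1)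
  have k4 : cm m t = e u := (inv_mul_eq_one.1 k3).symm
  refine k4 ▸ mem_map_of_mem e ?_
  rcases s.H.dich with g | ⟨g, g'⟩
  · have cz := s.R.cz b s.b48 T s.D.2.1
    have k5 : ∀ p ∈ P F b, MulAut.conj u p = p := fun p hp => s.H.inj (by
      obtain ⟨p', -, r⟩ := s.key (inv_mem hm) (s.H.np g b i T s.D) (fun α h w => by
        rw [mem_Cz, mem_Cz, ← α.injective.eq_iff, map_mul, map_mul, h]) (u := p)
        (mem_Cz.2 (by rw [← map_mul, ← map_mul, mem_Cz.1 (cz.ge hp)]))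
      have := congrArg (fun β : MulAut Y => β (ι p)) (hy.symm.trans ak)
      have τi : τ⁻¹ (ι p) = ι p := by rw [MulAut.inv_def, MulEquiv.symm_apply_eq, s.τι]
      simp only [MulAut.mul_apply, τi, ← c.ac_inv hm.2, r, s.τι] at this
      rw [← r, c.ac_inv hm.2, MulAut.apply_inv_self] at this
      simpa using this)
    obtain ⟨ζ, h1, h2⟩ : ∃ ζ ∈ Z F b, MulAut.conj u = MulAut.conj ζ := by
      rcases s.hb with rfl | rfl
      · exact s.C.cY _ fun r hr f => have := (by decide +kernel :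
          ∀ r ∈ lQ 44 ++ [21, 22, 23, 24, 25, 26], r ∈ lP 44 ∧ r < 48) r hr
          k5 _ (x_mem this.1 this.2 f)
      · exact s.C.cZ _ fun r hr f => k5 _ (x_mem hr (mem_lP.1 hr).1 f)
    exact ns.conj_inj h2 ▸ h1
  · obtain rfl := g' b i s.D.1
    rcases s.E.gd u (isConj_iff.2 ⟨m, by rw [← (s.te u).eq, ← k4]; simp⟩) with rfl | r
    exacts [one_mem _, s.R.shV u uV ((g u).1 r)]

theorem two0 (hG : m ∈ G₁) : cm m t ∈ zpowers (e (x F b T)) := by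
  obtain ⟨_, ⟨w, hw, rfl⟩, r⟩ : ∃ z ∈ (Z F b).map e, z = cm m t := ⟨_, s.tr hm, rfl⟩
  obtain ⟨f, rfl⟩ := (mem_Z s.b48).1 hw
  have h1 : m * t * m⁻¹ = e (x F b f) * t := by rw [r]; simp
  have h2 := (s.H.e7 b i T s.D (c.pi m) (mem_Cz.2 (by
    have := s.acz hm
    rw [c.ac_of_mem hG, MulAut.conj_apply, mul_inv_eq_iff_eq_mul] at this
    exact this.symm))).2
  have h3 : ∀ g, m * (a * t) * m⁻¹ = a * t * e (x F b g) → g + f = 0 ∨ g + f = T := fun g r => h2 _ (by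
    have : m * a * m⁻¹ = a * e (x F b (g + f)) := by
      calc _ = m * (a * t) * m⁻¹ * (m * t * m⁻¹)⁻¹ := by group
        _ = _ := by
          rw [r, h1, mul_inv_rev, mul_assoc a, ← (s.te _).eq, ← x_add s.b48, map_mul,
            inv_eq_of_mul_eq_one_right (s.xx f)]; group
    rw [← s.pa, ← c.pi_conj hG s.aG, this, c.pi_mul _ s.aG _ (s.eG _), s.E.pi])
  have h4 : f = 0 ∨ f = T := by
    rcases s.md hm with r | r
    · simpa using h3 0 (by rw [r, x_zero s.b48, map_one, mul_one])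
    · refine (h3 T (r.trans s.dinv)).symm.imp (by simp) fun r => ?_
      rw [← CharTwo.sub_eq_add, sub_eq_zero] at r; exact r.symm
  rw [← r]
  rcases h4 with rfl | rfl
  · rw [x_zero s.b48, map_one]; exact one_mem _
  · exact mem_zpowers _

omit hm in
theorem Wab : (Z F b).map e ⊔ zpowers t ≤ Cs ((Z F b).map e ⊔ zpowers t) := by
  have h1 : (Z F b).map e ≤ Cs ((Z F b).map e) := by
    rintro _ ⟨u, hu, rfl⟩ _ ⟨w, hw, rfl⟩
    obtain ⟨f, rfl⟩ := (mem_Z s.b48).1 hu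
    obtain ⟨g, rfl⟩ := (mem_Z s.b48).1 hw
    rw [← map_mul, ← map_mul, x_add s.b48, x_add s.b48, add_comm]
  have h2 : zpowers t ≤ Cs ((Z F b).map e) := zpowers_le.2 (by rintro _ ⟨u, -, rfl⟩; exact s.te u)
  rw [Cs, centralizer_sup]
  exact le_inf (sup_le h1 h2) (sup_le (le_centralizer_iff.1 h2) (zpowers_le.2 (mem_Cs_zpowers.2 rfl)))

theorem nW : m ∈ Ns ((Z F b).map e ⊔ zpowers t) := mem_normalizer_of_cj_le (by
  rw [cj, Subgroup.map_sup, MonoidHom.map_zpowers]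
  refine sup_le ((cj_eq_self (s.nZ hm)).le.trans le_sup_left) (zpowers_le.2 ?_)
  simpa using mul_mem (mem_sup_left (s.tr hm)) (mem_sup_right (mem_zpowers t)))

theorem two {K₀ : Subgroup G} (K : EK t G₁ Us K₀) (m2 : Is2 m) : cm m t ∈ zpowers (e (x F b T)) := by
  rcases K.top m with r | r
  · exact s.two0 hm (K.two m hm.2 m2 r)
  have hm' := mul_mem s.tΓ hm
  have pW : IsPGroup 2 ↥((Z F b).map e ⊔ zpowers t) :=
    (((s.R.o2 b s.b48).2.2.1.to_le (US_le fun r hr _ f => List.mem_singleton.1 hr ▸ s.xQ f)).map e).to_sup_of_normal_left'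
      (is2_of_sq s.t2).zpowers (le_normalizer_of_le_centralizer
        (zpowers_le.2 (by rintro _ ⟨u, -, rfl⟩; exact s.te u)))
  have k := s.two0 hm' (K.two _ hm'.2 (by
    obtain ⟨j, hj⟩ := m2
    have := mul_pow_mem (mem_sup_right (mem_zpowers t)) (s.nW hm) (2 ^ j)
    rw [hj, inv_one, mul_one] at this
    exact (isPGroup_iff_is2.1 pW _ this).of_pow) (by simpa [mul_assoc] using K.nor.conj_mem _ r t))
  obtain ⟨u, -, r'⟩ := s.tr hm
  rwa [show cm (t * m) t = t * cm m t * t⁻¹ by simp only [cm]; group, ← r', ← (s.te u).eq,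
    mul_inv_cancel_right, r'] at k

end Cx

theorem jobD4 (hR : JobFR) (hC : JobFC) : JobD4.{u} := by
  intro F _ _ _ Y _ _ G _ _ ι τ Gd U A e t G₁ c Us H E Ea hU Ec K₀ K b i T D a aG a2 pa
  have s : Cx ι τ Gd U A e t G₁ c Us b i T a := ⟨hR F, hC F, H, E, Ea, D, aG, a2, pa⟩
  obtain ⟨_, ⟨w, hw, rfl⟩, hz⟩ := odd_orbit (Γ := Ns (zpowers (a * t)) ⊓ Ns G₁) s.Wab (fun _ => s.nW)
    (fun m hm => H9.UF.mem_nor_zp ((s.mz hm).trans (inv_eq_of_mul_eq_one_right (s.xx T)).symm))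
    (mem_sup_right (mem_zpowers t)) s.t2 (fun _ => s.tr) fun _ hm => s.two hm K
  obtain ⟨f, rfl⟩ := (mem_Z s.b48).1 hw
  obtain ⟨j, j1, j2⟩ := H.onto b i D.1 f
  obtain ⟨a', h1, h2, h3⟩ := c.exists_lift2 (is2_of_sq (H.ce b s.hb j (H.bb b j j1).2))
  obtain ⟨k1, k2, k3⟩ := s.lift j1 j2 h1 h2 h3
  have k4 : a' * t * a'⁻¹ = e (x F b f) * t := by
    rw [← k2, inv_eq_of_mul_eq_one_right k1, mul_assoc _ _ t, mul_assoc a' t t, s.t2, mul_one]
  have pQ : IsPGroup 2 ((Q F b).map e) := (s.R.o2 b s.b48).2.2.1.map e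
  refine jobK8 hU (isConj_iff.2 ⟨a', k4⟩) (mul_mem (s.eN _) E.tn) ?_ s.d4 (fun m m1 m2 => ?_)
    {v | ∃ u ∈ Q F b, u * u = 1 ∧ Gd u ∧ v = e u} ?_ ?_ ?_
  · rw [show e (x F b f) * t * (a * t) * (e (x F b f) * t)⁻¹ =
      e (x F b f) * (t * (a * t) * t⁻¹) * (e (x F b f))⁻¹ by group, s.td,
      (s.dQ (s.xQ f)).inv_right.eq, mul_inv_cancel_right]
  · exact zpowers_le.2 (s.dd ▸ mul_mem (mem_zpowers _) (mem_zpowers _)) (hz m ⟨m1, m2⟩)
  · rintro _ ⟨u, hu, u2, g, rfl⟩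
    obtain ⟨w, -, r⟩ := Ea.tx u u2 g
    refine ⟨by rw [← map_mul, u2, map_one], s.eN u, s.dQ hu, ?_, isConj_iff.2 ⟨a' * w, ?_⟩⟩
    · rw [← k4]; simpa [(k3 u hu).eq] using ((s.te u).symm.conj a').eq
    · rw [← k4, show a' * w * t * (a' * w)⁻¹ = a' * (w * t * w⁻¹) * a'⁻¹ by group, ← r, ← conj_mul,
        (k3 u hu).eq, mul_inv_cancel_right]
  · have l : (Q F b).map e ≤ closure {v | ∃ u ∈ Q F b, u * u = 1 ∧ Gd u ∧ v = e u} := by
      rw [map_le_iff_le_comap]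
      rcases H.dich with g | ⟨g, g'⟩
      · exact US_le fun r hr h f => subset_closure ⟨_, x_mem hr h f, x_sq h f, g _, rfl⟩
      · obtain rfl := g' b i D.1
        exact s.R.gQ.trans ((closure_le _).2 fun u hu =>
          subset_closure ⟨u, hu.1, (hu.2.inv2 (by decide)).1, (g u).2 hu.2, rfl⟩)
    refine (centralizer_anti l).trans ?_
    rcases s.hb with rfl | rfl
    exacts [Ec.cuS, Ec.cuT]
  · rintro O o1 o2 o3 o4 _ ⟨u, hu, -, -, rfl⟩ o ho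
    have q2 := s.nQ ⟨Cs_le_Ns _ (mem_Cs_zpowers.2 (mem_Cz.1 (o4 ho))), o1 ho⟩
    have u1 := mem_map_of_mem e hu
    have h4 : e u * o * (e u)⁻¹ * o⁻¹ = 1 := (isPGroup_iff_is2.1 pQ _ (by
      simpa only [mul_assoc] using mul_mem u1 (conj_mem_of_mem_normalizer q2 (inv_mem u1)))).eq_one
      (odd_orderOf_of_mem o2 (mul_mem (conj_mem_of_mem_normalizer (o3 ⟨Cs_le_Ns _
        (mem_Cs_zpowers.2 (s.dQ hu).symm), s.eN u⟩) ho) (inv_mem ho)))
    rwa [mul_inv_eq_one, mul_inv_eq_iff_eq_mul, ← mem_Cz] at h4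

end H7.SFD4
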