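import Cfsg.Agent.H7.SP3T3

/-! STD-SP chapter III, slot `T4`: the relations inside the totally isotropic subspaces. -/

set_option autoImplicit false
set_option linter.unusedSectionVars false
set_option linter.unusedSimpArgs false

namespace H7.SP3

open H67.UA hiding Par sg
open H67.SP H72.SPF

universe u

variable {n : ℕ} {F : Type} [Field F] [StarRing F] [TrivialStar F] [CharP F 2] [Finite F] [FV n F]
  {G : Type u} [Group G] {e : XU n F →* G} {τ : Vn n F → G} {β : F} {u v w : Vn n F}

/-- perpendicularity -/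
local macro "hz" : tactic =>
  `(tactic| simp only [hf_add_left, hf_add_right, hf_smul_left, hr, hx, hf_zero_left, hf_zero_right,
    mul_zero, add_zero, *])

/-- identities in `S²(W)` -/
local macro "xe" : tactic =>
  `(tactic| (
    refine ac_ext fun y => ?_
    simp (disch := hz) only [ac_mul, ac_one, aE, hf_add_left, hf_add_right, hf_smul_left, hr,
      hx, hf_zero_left, hf_zero_right, *]
    ext i
    simp only [Pi.add_apply, Pi.smul_apply, smul_eq_mul, Pi.zero_apply]
    grind))

theorem mrg (a b : XU n F) (x : G) : e a * (e b * x) = e (a * b) * x := by rw [map_mul, mul_assoc]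

theorem tri (huv : hf u v = 0) (x : G) :
    τ (u + v) * (τ u * (τ v * x)) = sg e τ β u v * (e (Tc β u * Tc β v) * x) := by
  have hvu := hf_symm huv
  rw [sg, mul_assoc, mul_assoc, mul_assoc, mrg, show Tc β u * Tc β v * (Tc β u * Tc β v) = 1 by xe,
    map_one, one_mul]

variable [FW n F] [hp : Par n F]

theorem phiL (h : R3 e τ β) (huv : hf u v = 0) (l : Li u v) (a : F) :
    sg e τ β u (v + a • u) = sg e τ β u v * e (Tc (β * a) u) := by
  rcases eq_or_ne a 0 with rfl | ha
  · simp
  have hr := rt_ne ha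
  have l1 : Li u ((rt a)⁻¹ • v) := by simpa using li_sm l one_ne_zero (inv_ne_zero hr)
  have k := sone h.toR1 (u := rt a • u) (v := (rt a)⁻¹ • v) (by hz)
  rw [h.sscali _ _ _ (by hz) l1 hr, h.sscali _ _ _ (by hz) (fun x y k => by
      obtain ⟨h1, rfl⟩ := l1 (x + y * rt a) y (by rw [← k]; module)
      exact ⟨by simpa using h1, rfl⟩) hr,
    smul_add, smul_inv_smul₀ hr, smul_smul, ← sq, rt_sq, Tc_smul, nm, star_trivial, ← sq, rt_sq,
    mul_comm a] at k
  exact k

theorem nadd1 (h : R3 e τ β) (huv : hf u v = 0) (l : Li u v) {c : F} (h0 : c ≠ 0) (h1 : c + 1 ≠ 0) :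
    τ (c • u) * τ u = τ ((c + 1) • u) * e (Tc (β * c) u) := tail fun x => by
  have hvu := hf_symm huv
  have l' := l2s l
  have e1 : (c + 1) • u = u + c • u := by module
  have k1 := tri (e := e) (τ := τ) (β := β) (u := v) (v := u + c • u) (by hz)
    (τ u * (τ (v + c • u) * x))
  have r := h.toR1
  rw [h.saddi v u (c • u) ⟨hvu, by hz, by hz⟩ l' (by simpa using li_sm l' one_ne_zero h0)
      (by simpa [e1] using li_sm l' one_ne_zero h1), add_left_comm,
    swp r (u := u + c • u) (v := u) (by hz), swp r (u := u + c • u) (v := v + c • u) (by hz)] at k1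
  simp (disch := hz) only [mvE r.toR0] at k1
  rw [swp r (u := v) (v := u) (by hz), swp r (u := v) (v := v + c • u) (by hz)] at k1
  simp (disch := hz) only [mvE r.toR0] at k1
  rw [tri (e := e) (β := β) (by hz), phiL h huv l, h.ssym u v huv] at k1
  simp only [sg, map_mul, mul_assoc] at k1
  simp (disch := hz) only [mvE r.toR0] at k1
  rw [swp r (u := u) (v := v + c • u) (by hz)] at k1
  simp (disch := hz) only [mvE r.toR0] at k1
  rw [swp r (u := c • u) (v := v + c • u) (by hz)] at k1
  simp (disch := hz) only [mvE r.toR0] at k1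
  rw [swp r (u := v) (v := v + c • u) (x := τ (c • u) * _) (by hz)] at k1
  simp (disch := hz) only [mvE r.toR0, sq' h.sq (u := v + c • u)] at k1
  simp only [mrg] at k1
  rw [e1, mul_assoc, mul_assoc]
  refine mul_left_cancel (mul_left_cancel (mul_left_cancel (mul_left_cancel
    (mul_left_cancel (k1.symm.trans ?_)))))
  simp (disch := hz) only [mvE r.toR0]
  simp only [mrg]
  congr 2
  xe

theorem s0 (h : R3 e τ β) (v : Vn n F) : sg e τ β 0 v = 1 := by
  rw [sg, zero_add, h.zero, mul_one, h.sq, Tc, Tc, EE_zero_left, one_mul, ← map_mul, sqE (by simp),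
    map_one]

include hp in
theorem nadd (h : R3 e τ β) (a b : F) (u : Vn n F) :
    τ (a • u) * τ (b • u) = τ ((a + b) • u) * e (Tc (β * a * b) u) := by
  rcases eq_or_ne u 0 with rfl | hu
  · simp [h.zero]
  rcases eq_or_ne a 0 with rfl | ha
  · simp [h.zero]
  rcases eq_or_ne b 0 with rfl | hb
  · simp [h.zero]
  rcases eq_or_ne a b with rfl | hab
  · rw [cc, zero_smul, h.zero, one_mul, h.sq]; congr 1; xe
  obtain ⟨g, hg⟩ := FW.w1 (b • u) (smul_ne_zero hb hu)
  have k := nadd1 h (u := b • u) (v := ac g (ev 1)) (by rw [← hg, hf_ac, p01])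
    (hg ▸ li_ac g li01) (c := a * b⁻¹) (by simp [ha, hb]) (by grind)
  rw [smul_smul, smul_smul, inv_mul_cancel_right₀ hb, add_mul, inv_mul_cancel_right₀ hb, one_mul] at k
  rw [k]; congr 2; clear k hg; xe

include hp in
theorem shift (h : R3 e τ β) (a : F) (u : Vn n F) : sg e τ β u (a • u) = e (Tc (β * a) u) := by
  have k := nadd h 1 a u
  rw [one_smul, add_smul, one_smul] at k
  rw [sg, mul_assoc _ (τ u), k, ← mul_assoc, h.sq, ← map_mul, ← map_mul]
  congr 1; clear k; xe

include hp in
theorem phiA (h : R3 e τ β) (huv : hf u v = 0) (a : F) :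
    sg e τ β u (v + a • u) = sg e τ β u v * e (Tc (β * a) u) := by
  rcases eq_or_ne u 0 with rfl | hu
  · simp
  by_cases l : Li u v
  · exact phiL h huv l a
  obtain ⟨c, rfl⟩ := nli hu l
  rw [← add_smul, shift h, shift h, ← map_mul]; congr 1; xe

theorem jobT4 : JobT4.{u} := by
  intro n F _ _ _ _ _ _ b G _ e τ β h
  refine ⟨h.toR1, h.sq, h.ssq, h.ssym, h.stau, nadd h, fun u v w p => ?_, fun a u v huv => ?_,
    shift h⟩
  · rcases eq_or_ne u 0 with rfl | hu
    · simp [s0 h]
    by_cases l2 : Li u w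
    swap
    · obtain ⟨c, rfl⟩ := nli hu l2
      rw [phiA h p.uv, shift h]
    by_cases l1 : Li u v
    swap
    · obtain ⟨c, rfl⟩ := nli hu l1
      rw [add_comm, phiA h p.uw, shift h, sfix h.toR0 (ac_EE_self (FV.ok _ _ _ (by simp)))
        (ac_EE_fix (FV.ok _ _ _ (by simp)) (hf_symm p.uw) (by simp))]
    by_cases l3 : Li u (v + w)
    · exact h.saddi u v w p l1 l2 l3
    obtain ⟨c, hc⟩ := nli hu l3
    rw [hc, mv (x := w) (y := v) (z := c • u) (by rw [add_comm, hc]), phiA h p.uv, ← mul_assoc,
      h.ssq u v p.uv, one_mul, shift h]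
  · rcases eq_or_ne u 0 with rfl | hu
    · simp [s0 h]
    rcases eq_or_ne a 0 with rfl | ha
    · simpa [s0 h] using (shift h 0 u).symm
    by_cases l : Li u v
    · exact h.sscali a u v huv l ha
    obtain ⟨c, rfl⟩ := nli hu l
    rw [smul_smul, shift h, show c • u = (c * a⁻¹) • a • u by
      rw [smul_smul, inv_mul_cancel_right₀ ha], shift h]
    congr 1; xe

end H7.SP3
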