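import Cfsg.Agent.H16.Alperin

/-!
Alperin's fusion theorem with tame intersections.
-/

namespace H7

open Cfsg H16
open scoped Pointwise

variable {G : Type*} [Group G] {p : ℕ}

/-- `P ∩ Q` is a tame intersection. -/
def IsTame (P Q : Sylow p G) : Prop :=
  ¬ p ∣ ((P : Subgroup G) ⊓ Nm ((P : Subgroup G) ⊓ Q)).relIndex (Nm ((P : Subgroup G) ⊓ Q)) ∧
  ¬ p ∣ ((Q : Subgroup G) ⊓ Nm ((P : Subgroup G) ⊓ Q)).relIndex (Nm ((P : Subgroup G) ⊓ Q))

/-- `g` is a product of elements normalizing tame intersections that contain the successive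
conjugates `T ^ (x₁ ⋯ xᵢ)`. -/
inductive TameChain (P : Sylow p G) : Subgroup G → G → Prop
  | nil (T : Subgroup G) : TameChain P T 1
  | cons (T : Subgroup G) (Q : Sylow p G) (x g : G) : IsTame P Q →
      x ∈ Nm ((P : Subgroup G) ⊓ Q) → T ≤ (P : Subgroup G) ⊓ Q → TameChain P (cj x⁻¹ T) g →
      TameChain P T (x * g)

theorem TameChain.mono {P : Sylow p G} {T' : Subgroup G} {g : G} (h : TameChain P T' g) :
    ∀ T, T ≤ T' → TameChain P T g := by
  induction h with
  | nil => exact fun T _ => .nil T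
  | cons T' Q x g h1 h2 h3 _ ih =>
    exact fun T hT => .cons T Q x g h1 h2 (hT.trans h3) (ih _ (cj_mono _ hT))

theorem TameChain.mul {P : Sylow p G} {T : Subgroup G} {g : G} (h : TameChain P T g) :
    ∀ k, TameChain P (cj g⁻¹ T) k → TameChain P T (g * k) := by
  induction h with
  | nil T => intro k hk; rwa [inv_one, cj_one, ← one_mul k] at hk
  | cons T Q x g h1 h2 h3 _ ih =>
    intro k hk
    rw [mul_assoc]
    refine .cons T Q x _ h1 h2 h3 (ih k ?_)
    rwa [cj_cj, ← mul_inv_rev]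

theorem TameChain.single {P : Sylow p G} {T : Subgroup G} (Q : Sylow p G) {x : G}
    (h1 : IsTame P Q) (h2 : x ∈ Nm ((P : Subgroup G) ⊓ Q)) (h3 : T ≤ (P : Subgroup G) ⊓ Q) :
    TameChain P T x := by
  have := TameChain.cons T Q x 1 h1 h2 h3 (.nil _)
  rwa [mul_one] at this

theorem TameChain.inv {P : Sylow p G} {T : Subgroup G} {g : G} (h : TameChain P T g) :
    TameChain P (cj g⁻¹ T) g⁻¹ := by
  induction h with
  | nil T => rw [inv_one]; exact .nil _
  | cons T Q x g h1 h2 h3 _ ih =>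
    rw [mul_inv_rev, ← cj_cj]
    refine ih.mul _ ?_
    rw [inv_inv, cj_cj_inv]
    refine .single Q h1 (inv_mem h2) ?_
    have := cj_mono x⁻¹ h3
    rwa [cj_eq_iff.mpr (inv_mem h2)] at this

theorem tameChain_of_le [Fact p.Prime] [Finite G] (P : Sylow p G) {T : Subgroup G} {g : G}
    (hT : T ≤ P) (hg : cj g⁻¹ T ≤ P) : TameChain P T g := by
  have key := alperin_ind_extr (isSylowIn_top P) (fun T g => TameChain P T g⁻¹)
    (fun T T' g h _ _ _ h' => h'.mono T h)
    (fun T g h _ _ _ _ _ h1 h2 => by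
      rw [mul_inv_rev]
      exact h1.mul _ (by rwa [inv_inv]))
    (fun T g _ _ _ h => by simpa using h.inv) 0 ?_ T g⁻¹ hT (Subgroup.mem_top _) hg (Nat.zero_le _)
  · rwa [inv_inv] at key
  intro U hU _ ih n hn
  have hn' : n ∈ Nm U := hn.2
  set Q : Sylow p G := n⁻¹ • P with hQ
  have hQc : (Q : Subgroup G) = cj n⁻¹ P := rfl
  have hUQ : U ≤ Q := by
    rw [hQc, ← cj_le_iff_le_cj, cj_eq_iff.mpr hn']; exact hU.le
  have hle : U ≤ (P : Subgroup G) ⊓ Q := le_inf hU.le hUQ
  rcases hle.eq_or_lt with he | hlt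
  · have hs := hU.syl
    rw [top_inf_eq] at hs
    refine .single Q ⟨?_, ?_⟩ (he ▸ inv_mem hn') hle
    · rw [← he]; exact hs.not_dvd
    · rw [← he]
      have h2 := hs.smul_of_mem_normalizer (g := n⁻¹) (inv_mem (Subgroup.le_normalizer hn'))
      change IsSylowIn p (cj n⁻¹ _) _ at h2
      rw [cj_inf, cj_of_mem (inv_mem hn'), ← hQc] at h2
      exact h2.not_dvd
  · refine (ih _ n inf_le_left (Subgroup.mem_top _) ?_ (card_lt_of_lt hlt)).mono _ hle
    rw [cj_le_iff_le_cj]
    exact inf_le_right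

theorem TameChain.exists_fin {P : Sylow p G} {T : Subgroup G} {g : G} (h : TameChain P T g) :
    ∃ (n : ℕ) (Q : Fin n → Sylow p G) (x : Fin n → G), (List.ofFn x).prod = g ∧
      (∀ i, x i ∈ Nm ((P : Subgroup G) ⊓ Q i) ∧ IsTame P (Q i)) ∧
      ∀ i : Fin n, cj ((List.ofFn x).take i).prod⁻¹ T ≤ (P : Subgroup G) ⊓ Q i := by
  induction h with
  | nil T => exact ⟨0, Fin.elim0, Fin.elim0, rfl, fun i => i.elim0, fun i => i.elim0⟩
  | cons T Q x g h1 h2 h3 _ ih =>
    obtain ⟨n, Q', x', e, h4, h5⟩ := ih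
    refine ⟨n + 1, Fin.cons Q Q', Fin.cons x x', ?_, ?_, ?_⟩
    · rw [List.ofFn_cons, List.prod_cons, e]
    · intro i
      refine Fin.cases ?_ (fun i => ?_) i
      · exact ⟨h2, h1⟩
      · exact h4 i
    · intro i
      refine Fin.cases ?_ (fun i => ?_) i
      · simpa [cj_one] using h3
      · rw [List.ofFn_cons, Fin.val_succ, List.take_succ_cons, List.prod_cons, mul_inv_rev,
          ← cj_cj]
        exact h5 i

end H7
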