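import Cfsg.Agent.H86.TP.Spec

/-! Tower TP (S1308), slot SC: `E` is strongly closed in `R` with respect to `Q`. -/

set_option autoImplicit false

namespace H7.TpSC

open Cfsg Subgroup MulAction H14 H98 H1.Gold H31.S2 H14.GC H14.FE H14.NF H86.TP
open scoped commutatorElement

universe u

section

variable {G : Type u} [Group G]

/-- Elements of `Q` that centralise `W` and move `a` inside the coset `W a`. -/
def Dg (Q W : Subgroup G) (a : G) : Subgroup G where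
  carrier := {d | d ∈ Q ∧ d ∈ cen W ∧ ⁅a, d⁆ ∈ W}
  one_mem' := ⟨one_mem _, one_mem _, by simp⟩
  mul_mem' := by
    rintro d d' ⟨a1, a2, a3⟩ ⟨b1, b2, b3⟩
    refine ⟨mul_mem a1 b1, mul_mem a2 b2, ?_⟩
    have h := mem_centralizer_iff.1 a2 _ b3
    have e : ⁅a, d * d'⁆ = ⁅a, d⁆ * (d * ⁅a, d'⁆) * d⁻¹ := by
      simp only [commutatorElement_def]; group
    rw [e, ← h, mul_assoc, mul_inv_cancel_right]
    exact mul_mem a3 b3
  inv_mem' := by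
    rintro d ⟨a1, a2, a3⟩
    refine ⟨inv_mem a1, inv_mem a2, ?_⟩
    have h := mem_centralizer_iff.1 a2 _ (inv_mem a3)
    have e : ⁅a, d⁻¹⁆ = d⁻¹ * (⁅a, d⁆⁻¹ * d) := by
      simp only [commutatorElement_def]; group
    rw [e, h, inv_mul_cancel_left]
    exact inv_mem a3

/-- An involution of `R` outside `E` inverts `P`. -/
theorem out_inv [Finite G] (x2 : X2.{u}) {Q Q' T R E P : Subgroup G} (L : LP Q Q' T R E P)
    (hS : Sq E P) (hZ : E = OZ R) {a : G} (ha : a ∈ R) (h2 : a * a = 1) (hE : a ∉ E) :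
    Fu E T P ∧ (∀ y ∈ P, a * y * a⁻¹ = y⁻¹) ∧
      ∀ c ∈ R, c * a = a * c → c ∈ E ∨ c * a⁻¹ ∈ E := by
  have hP : a ∉ P := fun h => hS a h hE h2
  have hPR : P ≤ R := fun y hy => ((L.mem y).1 hy).1
  obtain ⟨x, hx⟩ := (x2 G Q Q' T R E P L).1 fun h => hP (h ▸ ha)
  have hn : a ∈ nor (P ⊔ T) := by
    have h1 : a * x⁻¹ ∈ nor (P ⊔ T) :=
      le_normalizer (mem_sup_left ((hx.idx a ha).resolve_left hP))
    simpa using mul_mem h1 hx.norPT
  have X := (x2 G Q Q' T R E P L).2 a ha hP hn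
  have hi : a⁻¹ = a := inv_eq_of_mul_eq_one_right h2
  have inv : ∀ y ∈ P, a * y * a⁻¹ = y⁻¹ := by
    intro y hy
    obtain ⟨t, ht, hr⟩ := X.sur y hy
    obtain ⟨-, r2, r3⟩ := mem_OZ.1 (hZ ▸ hr)
    set r := y⁻¹ * ⁅a, t⁆ with hrd
    have ri : r⁻¹ = r := inv_eq_of_mul_eq_one_right r2
    have hz : a * ⁅a, t⁆ * a⁻¹ = ⁅a, t⁆⁻¹ := by
      calc a * ⁅a, t⁆ * a⁻¹ = (a * a) * (t * a⁻¹ * t⁻¹ * a⁻¹) := by
            simp only [commutatorElement_def]; group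
        _ = t * a * t⁻¹ * a⁻¹ := by rw [h2, one_mul, hi]
        _ = ⁅a, t⁆⁻¹ := by simp only [commutatorElement_def]; group
    have hy' : y = ⁅a, t⁆ * r := by rw [← ri, hrd]; group
    have hzR : ⁅a, t⁆⁻¹ ∈ R := inv_mem (hPR (X.cm t ht))
    calc a * y * a⁻¹ = (a * ⁅a, t⁆ * a⁻¹) * ((a * r) * a⁻¹) := by rw [hy']; group
      _ = ⁅a, t⁆⁻¹ * r := by rw [hz, r3 a ha, mul_inv_cancel_right]
      _ = r * ⁅a, t⁆⁻¹ := r3 _ hzR
      _ = y⁻¹ := by rw [hrd]; group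
  have fix : ∀ c ∈ P, c * a = a * c → c ∈ E := by
    intro c hc h
    by_contra hcE
    refine hS c hc hcE ?_
    have h1 := inv c hc
    rw [← h, mul_inv_cancel_right] at h1
    nth_rewrite 2 [h1]
    exact mul_inv_cancel c
  refine ⟨X.fu, inv, fun c hc h => (X.idx c hc).imp (fun hcP => fix c hcP h) fun hcP =>
    fix _ hcP ?_⟩
  rw [← mul_assoc, ← h]
  group

end

theorem jSC : H86.TP.JobSC.{u} := by
  intro hk x2 a3 su zr G _ _ Q Q' T R E P L e he g₀ hg₀ ha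
  have hS := a3 G Q Q' T R E P L
  have hZ := zr G Q Q' T R E P L
  have hER : E ≤ R := L.eq ▸ inf_le_left
  have hPR : P ≤ R := fun y hy => ((L.mem y).1 hy).1
  have hRQ : R ≤ Q := L.sylR.le
  have hc : ∀ f ∈ E, ∀ x ∈ R, x * f = f * x := fun f hf => (mem_OZ.1 (hZ ▸ hf)).2.2
  by_contra haE
  -- change `g₀` so that `E` lies in the conjugate of `R`
  obtain ⟨g, hg, hga, hEg⟩ : ∃ g ∈ Q, g * e * g⁻¹ = g₀ * e * g₀⁻¹ ∧ E ≤ cj g R := by
    have h1 : IsSyl 2 (cj g₀ R) (Q ⊓ cen1 (g₀ * e * g₀⁻¹)) := by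
      refine (L.sylR.cj_of_mem hg₀).of_le (le_inf (L.sylR.cj_of_mem hg₀).le ?_) inf_le_left
      intro x hx
      rw [mem_centralizer_singleton_iff]
      have h := hc e he _ (mem_cj.1 hx)
      calc x * (g₀ * e * g₀⁻¹) = g₀ * (g₀⁻¹ * x * g₀ * e) * g₀⁻¹ := by group
        _ = g₀ * e * g₀⁻¹ * x := by rw [h]; group
    obtain ⟨c, hcm, hle⟩ := h1.exists_le_cj (L.sylR.isPGroup.to_le hER)
      (le_inf (hER.trans hRQ) fun f hf => mem_centralizer_singleton_iff.2 (hc f hf _ ha).symm)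
    refine ⟨c * g₀, mul_mem hcm.1 hg₀, ?_, by rwa [← cj_cj]⟩
    have h := mem_centralizer_singleton_iff.1 hcm.2
    calc c * g₀ * e * (c * g₀)⁻¹ = c * (g₀ * e * g₀⁻¹) * c⁻¹ := by group
      _ = _ := by rw [h, mul_inv_cancel_right]
  obtain ⟨e₁, he₁, he₁'⟩ : ∃ e₁ ∈ E, e₁ ∉ cj g E := by
    by_contra h
    push Not at h
    have : E = cj g E := eq_of_le_of_card_ge h (card_cj g E).le
    exact haE (hga ▸ this ▸ conj_mem_cj (this ▸ he))
  have ha' : g⁻¹ * e₁ * g ∈ R := mem_cj.1 (hEg he₁)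
  have h2 : g⁻¹ * e₁ * g * (g⁻¹ * e₁ * g) = 1 := by
    calc _ = g⁻¹ * (e₁ * e₁) * g := by group
      _ = 1 := by rw [L.elE e₁ he₁]; group
  obtain ⟨fu, inv, cc⟩ := out_inv x2 L hS hZ ha' h2 fun h => he₁' (mem_cj.2 h)
  have half : ∀ f ∈ E, f ∈ cj g E ∨ f * e₁⁻¹ ∈ cj g E := by
    intro f hf
    refine (cc _ (mem_cj.1 (hEg hf)) ?_).imp mem_cj.2 fun h => mem_cj.2 ?_
    · calc g⁻¹ * f * g * (g⁻¹ * e₁ * g) = g⁻¹ * (f * e₁) * g := by group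
        _ = g⁻¹ * e₁ * g * (g⁻¹ * f * g) := by rw [hc e₁ he₁ f (hER hf)]; group
    · convert h using 1
      group
  obtain ⟨w, hw, hw', hw1⟩ : ∃ w ∈ E, w ∈ cj g E ∧ w ≠ 1 := by
    obtain ⟨s, hs, t, ht, is, it, hst, -⟩ := L.fourE
    rcases half s hs with h1 | h1
    · exact ⟨s, hs, h1, is.1⟩
    rcases half t ht with h3 | h3
    · exact ⟨t, ht, h3, it.1⟩
    refine ⟨s * t⁻¹, mul_mem hs (inv_mem ht), ?_, fun h => hst (mul_inv_eq_one.1 h)⟩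
    convert mul_mem h1 (inv_mem h3) using 1
    group
  obtain ⟨y, hy, hyy⟩ := su G Q Q' T R E P L fu _ (mem_cj.1 hw')
  have hcm : ⁅e₁, g * y * g⁻¹⁆ = w⁻¹ := by
    calc ⁅e₁, g * y * g⁻¹⁆ = g * (g⁻¹ * e₁ * g * y * (g⁻¹ * e₁ * g)⁻¹ * y⁻¹) * g⁻¹ := by
          simp only [commutatorElement_def]; group
      _ = g * (y * y)⁻¹ * g⁻¹ := by rw [inv y hy]; group
      _ = w⁻¹ := by rw [hyy]; group
  have hRD : R ≤ Dg Q (E ⊓ cj g E) e₁ := by
    intro x hx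
    refine ⟨hRQ hx, mem_centralizer_iff.2 fun f hf => (hc f hf.1 x hx).symm, ?_⟩
    rw [commutatorElement_eq_one_iff_mul_comm.2 (hc e₁ he₁ x hx).symm]
    exact one_mem _
  have hD := hk G (Dg Q (E ⊓ cj g E) e₁) (E ⊓ cj g E) R e₁ (fun f hf => L.elE f hf.1)
    (fun d hd => hd.2.1) (fun d hd => hd.2.2) (L.sylR.of_le hRD fun d hd => hd.1)
    fun x hx => mem_centralizer_singleton_iff.2 (hc e₁ he₁ x hx)
  have hyD : g * y * g⁻¹ ∈ Dg Q (E ⊓ cj g E) e₁ := by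
    refine ⟨mul_mem (mul_mem hg (hRQ (hPR hy))) (inv_mem hg),
      mem_centralizer_iff.2 fun f hf => ?_, hcm ▸ inv_mem ⟨hw, hw'⟩⟩
    have h := hc _ (mem_cj.1 hf.2) y (hPR hy)
    calc f * (g * y * g⁻¹) = g * (g⁻¹ * f * g * y) * g⁻¹ := by group
      _ = g * y * g⁻¹ * f := by rw [← h]; group
  have h1 := mem_centralizer_singleton_iff.1 (hD hyD)
  rw [commutatorElement_eq_one_iff_mul_comm.2 h1.symm] at hcm
  exact hw1 (inv_eq_one.1 hcm.symm)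

end H7.TpSC
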